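import Groth.Agent.SchDesc82.Charts
import Groth.Agent.EtResidue.Basic
import Groth.Agent.EtFound.IntegralSplit
import Groth.Agent.AlgSpDec.FinDeg
import Mathlib.AlgebraicGeometry.Morphisms.Integral
import Mathlib.RingTheory.Etale.Field

/-!
# Charts for etale descent data along integral surjective morphisms
-/

universe u

set_option autoImplicit false
set_option backward.isDefEq.respectTransparency false
set_option backward.isDefEq.respectTransparency.types false

open CategoryTheory CategoryTheory.Limits AlgebraicGeometry Opposite Desc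

namespace Groth.Agent.SchDesc82

open DescLib

theorem univSubmersive_of_universallyClosed {S S' : Scheme.{u}} (g : S' ⟶ S) [UniversallyClosed g]
    [Surjective g] : SGA1.UnivSubmersive g := fun _ _ i₁ i₂ f h => by
  have : UniversallyClosed f := MorphismProperty.of_isPullback h.flip ‹UniversallyClosed g›
  have : Surjective f := MorphismProperty.of_isPullback h.flip ‹Surjective g›
  exact f.isClosedMap.isQuotientMap f.continuous f.surjective

/-- Every point of an etale scheme over a residue field is reached by an etale neighbourhood. -/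
theorem exists_etale_lift {S : Scheme.{u}} (s : S) (U₀ : Over (Spec (S.residueField s))) [Etale U₀.hom]
    (u₀ : U₀.left) :
    ∃ (V : Scheme.{u}) (j : V ⟶ S) (_ : Etale j) (z : V) (σ : Spec (V.residueField z) ⟶ U₀.left),
      σ ≫ U₀.hom ≫ S.fromSpecResidueField s = V.fromSpecResidueField z ≫ j ∧ ∀ a, σ a = u₀ := by
  obtain ⟨B, hB, hu₀, -⟩ := exists_isAffineOpen_mem_and_subset (U := (⊤ : U₀.left.Opens)) (x := u₀) trivial
  let R := Γ(U₀.left, B)
  obtain ⟨φ, hφ⟩ := Spec.map_surjective (hB.fromSpec ≫ U₀.hom)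
  let k := S.residueField s
  let _ : Algebra k R := φ.hom.toAlgebra
  have : Algebra.Etale k R := by
    rw [← RingHom.etale_algebraMap, RingHom.algebraMap_toAlgebra, ← HasRingHomProperty.Spec_iff (P := @Etale), hφ]
    infer_instance
  have : Module.Finite k R := Algebra.FormallyUnramified.finite_of_free k R
  have : IsArtinianRing R := IsArtinianRing.of_finite k R
  let p := (hB.primeIdealOf ⟨u₀, hu₀⟩)
  have : p.asIdeal.IsMaximal := IsArtinianRing.isMaximal_of_isPrime _
  let _ : Field (R ⧸ p.asIdeal) := Ideal.Quotient.field p.asIdeal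
  have : Module.Finite k (R ⧸ p.asIdeal) :=
    Module.Finite.of_surjective (Ideal.Quotient.mkₐ k p.asIdeal).toLinearMap Ideal.Quotient.mk_surjective
  have : Algebra.FormallyUnramified k (R ⧸ p.asIdeal) :=
    Algebra.FormallyUnramified.of_surjective (Ideal.Quotient.mkₐ k p.asIdeal) Ideal.Quotient.mk_surjective
  have : Algebra.IsSeparable k (R ⧸ p.asIdeal) := (Algebra.FormallyUnramified.iff_isSeparable _ _).1 this
  obtain ⟨V, j, z, hz, hj, ⟨e⟩⟩ := EtResidue.exists_etale_nbhd S s (R ⧸ p.asIdeal)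
  let _ := ((S.residueFieldCongr hz).inv ≫ j.residueFieldMap z).hom.toAlgebra
  let q : R ⟶ V.residueField z :=
    CommRingCat.ofHom (e.toAlgHom.toRingHom.comp (Ideal.Quotient.mk p.asIdeal))
  refine ⟨V, j, hj, z, Spec.map q ≫ hB.fromSpec, ?_, fun a => ?_⟩
  · have h1 : φ ≫ q = (S.residueFieldCongr hz).inv ≫ j.residueFieldMap z := by
      ext r
      exact e.commutes r
    rw [Category.assoc, ← Category.assoc hB.fromSpec, ← hφ, ← Category.assoc, ← Spec.map_comp, h1, Spec.map_comp,
      Category.assoc, Scheme.residueFieldCongr_inv, Scheme.residueFieldCongr_fromSpecResidueField,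
      Scheme.Hom.SpecMap_residueFieldMap_fromSpecResidueField]
  · rw [Scheme.Hom.comp_apply]
    have : Spec.map q a = p := by
      apply PrimeSpectrum.ext
      ext r
      show e (Ideal.Quotient.mk p.asIdeal r) ∈ a.asIdeal ↔ r ∈ p.asIdeal
      have hbot : a.asIdeal = ⊥ := Ideal.eq_bot_of_prime a.asIdeal
      rw [hbot, Ideal.mem_bot, map_eq_zero_iff _ e.injective, Ideal.Quotient.eq_zero_iff_mem]
    rw [this]
    exact hB.fromSpec_primeIdealOf ⟨u₀, hu₀⟩

/-- The locus where two morphisms into an etale separated scheme agree is clopen. -/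
theorem exists_eqLocus {X E B : Scheme.{u}} (π : E ⟶ B) [Etale π] [IsSeparated π] (f₁ f₂ : X ⟶ E)
    (h : f₁ ≫ π = f₂ ≫ π) :
    ∃ W : Set X, IsClopen W ∧
      ∀ ⦃T : Scheme.{u}⦄ (e : T ⟶ X), e ≫ f₁ = e ≫ f₂ ↔ Set.range e ⊆ W := by
  let L : X ⟶ pullback π π := pullback.lift f₁ f₂ h
  have : IsOpenImmersion (pullback.diagonal π) := inferInstance
  refine ⟨L ⁻¹' Set.range (pullback.diagonal π),
    ⟨(pullback.diagonal π).isClosedEmbedding.isClosed_range.preimage L.continuous,
      (pullback.diagonal π).isOpenEmbedding.isOpen_range.preimage L.continuous⟩, fun T e => ⟨fun he => ?_, fun he => ?_⟩⟩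
  · have : e ≫ L = (e ≫ f₁) ≫ pullback.diagonal π := by
      apply pullback.hom_ext
      · simp [L]
      · simp [L, he]
    rintro _ ⟨t, rfl⟩
    refine ⟨(e ≫ f₁) t, ?_⟩
    rw [← Scheme.Hom.comp_apply, ← this, Scheme.Hom.comp_apply]
  · have hsub : Set.range (e ≫ L) ⊆ Set.range (pullback.diagonal π) := by
      rintro _ ⟨t, rfl⟩
      rw [Scheme.Hom.comp_apply]
      exact he ⟨t, rfl⟩
    have hk := IsOpenImmersion.lift_fac (pullback.diagonal π) (e ≫ L) hsub
    have e₁ := congrArg (· ≫ pullback.fst π π) hk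
    have e₂ := congrArg (· ≫ pullback.snd π π) hk
    simp only [L, Category.assoc, pullback.diagonal_fst, pullback.diagonal_snd, pullback.lift_fst,
      pullback.lift_snd] at e₁ e₂
    exact e₁.symm.trans e₂

/-- Points of an etale separated scheme landing in the image of a section are given by it. -/
theorem eq_of_range_section {E B T : Scheme.{u}} (π : E ⟶ B) [Etale π] (σ : B ⟶ E) (hσ : σ ≫ π = 𝟙 B)
    (v : T ⟶ E) (h : Set.range v ⊆ Set.range σ) : v = (v ≫ π) ≫ σ := by
  have : Etale (σ ≫ π) := by rw [hσ]; infer_instance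
  have : Etale σ := MorphismProperty.of_postcomp (W := @Etale) (W' := @Etale) σ π inferInstance this
  have : Mono σ := (SplitMono.mk π hσ).mono
  have : IsOpenImmersion σ := IsOpenImmersion.of_flat_of_mono _
  have hk := IsOpenImmersion.lift_fac σ v h
  have h1 := congrArg (· ≫ π) hk
  simp only [Category.assoc, hσ, Category.comp_id] at h1
  rw [← h1, hk]

/-- Etale separated descent data, quasi-compact or not, along fpqc morphisms are effective. -/
theorem exists_effective_fpqc_sep {S' S : Scheme.{u}} (g : S' ⟶ S) [Flat g] [Surjective g] [QuasiCompact g]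
    (D : Desc.SchDD g) [IsSeparated D.obj.hom] [Etale D.obj.hom] :
    ∃ U : Over S, IsSeparated U.hom ∧ Etale U.hom ∧ Nonempty ((Desc.toDD g).obj U ≅ D) := by
  haveI := Groth.Agent.EtFound.fpqc_isSeparated.{u}
  haveI : LocallyQuasiFinite D.obj.hom := Groth.Agent.MorLib.WT.locallyQuasiFinite_of_etale _
  have hD : MoreMor.IsIndQuasiAffineHom D.obj.hom :=
    Groth.Agent.MorLib.IQA.indQA_of_locallyQuasiFinite D.obj.hom
  obtain ⟨U, ⟨e⟩⟩ := Groth.Agent.DescLib.effective_single Groth.Agent.DescLib.IndQA.indQA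
    (fun _ _ p _ _ _ _ D h => Groth.Agent.DescLib.IndQA.effective_indQA_hom p D h) g D hD
  have key : ∀ (P : MorphismProperty Scheme.{u}) [P.RespectsIso]
      [P.DescendsAlong (@Surjective ⊓ @Flat ⊓ @QuasiCompact)], P D.obj.hom → P U.hom := fun P _ _ h =>
    MorphismProperty.of_pullback_fst_of_descendsAlong (f := g) (g := U.hom)
      (Q := @Surjective ⊓ @Flat ⊓ @QuasiCompact) ⟨⟨‹_›, ‹_›⟩, ‹_›⟩ (by
      refine (P.arrow_mk_iso_iff (Arrow.isoMk (Iso.mk e.hom.hom.left e.inv.hom.left ?_ ?_) (Iso.refl _) ?_)).2 h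
      · exact congrArg (fun b : (Desc.toDD g).obj U ⟶ (Desc.toDD g).obj U => b.hom.left) e.hom_inv_id
      · exact congrArg (fun b : D ⟶ D => b.hom.left) e.inv_hom_id
      · exact (Over.w e.hom.hom).trans (Category.comp_id _).symm)
  exact ⟨U, key @IsSeparated inferInstance, key @Etale inferInstance, ⟨e⟩⟩

variable {S S' : Scheme.{u}} {g : S' ⟶ S} {D : SchDDFam (fun _ : PUnit.{1} => g)}

/-- A descent datum is effective over the residue field of each point. -/
theorem exists_repByOn_residueField (hg : SGA1.UnivSubmersive g) [QuasiCompact g]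
    [Etale (D.obj PUnit.unit).hom] [IsSeparated (D.obj PUnit.unit).hom]
    [Surjective g] (s : S) :
    ∃ U : Over (Spec (S.residueField s)), Etale U.hom ∧ RepByOn D (S.fromSpecResidueField s) U := by
  let ps := S.fromSpecResidueField s
  let g₀ := pullback.snd g ps
  have : Flat g₀ := AlgSpDec.flat_toField (K := S.residueField s) g₀
  let D₀ := (SchDDFam.toSchDD g₀).obj (pullD D ps)
  have : Etale D₀.obj.hom := inferInstanceAs (Etale (pullback.snd _ _))
  have : IsSeparated D₀.obj.hom := inferInstanceAs (IsSeparated (pullback.snd _ _))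
  obtain ⟨U, -, hU, ⟨I⟩⟩ := exists_effective_fpqc_sep g₀ D₀
  exact ⟨U, hU, repByOn_of_effective_pull hg ps U ⟨(SchDDFam.ofSchDD g₀).mapIso I⟩⟩

/-- Every point of the underlying scheme of a datum is the value of a family over a residue field of an etale
neighbourhood. -/
theorem exists_pointChart (hg : SGA1.UnivSubmersive g) [QuasiCompact g] [Surjective g]
    [Etale (D.obj PUnit.unit).hom] [IsSeparated (D.obj PUnit.unit).hom]
    (e : ↥(D.obj PUnit.unit).left) :
    ∃ (V : Scheme.{u}) (j : V ⟶ S) (_ : Etale j) (z : V) (c : Compat D (V.fromSpecResidueField z ≫ j))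
      (w : ↥(pullback (V.fromSpecResidueField z ≫ j) g)), value c w = e := by
  let π := (D.obj PUnit.unit).hom
  let s := (π ≫ g) e
  let ps := S.fromSpecResidueField s
  obtain ⟨U, hU, c₀, hu⟩ := exists_repByOn_residueField (D := D) hg s
  obtain ⟨r, hr, -⟩ := Scheme.Pullback.exists_preimage_pullback (f := π ≫ g) (g := ps) e
    (IsLocalRing.closedPoint (S.residueField s)) (Scheme.fromSpecResidueField_apply _ _).symm
  let R := pullback (π ≫ g) ps
  let x : R ⟶ Spec (S.residueField s) := pullback.snd (π ≫ g) ps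
  let y : R ⟶ S' := pullback.fst (π ≫ g) ps ≫ π
  have hy : y ≫ g = x ≫ ps := by rw [Category.assoc]; exact pullback.condition
  let b : Lifts (D.obj PUnit.unit) y := ⟨pullback.fst (π ≫ g) ps, rfl⟩
  obtain ⟨p₀, hp₀, -⟩ := hu x (Compat.ofPoint D (i := PUnit.unit) b (x ≫ ps) hy)
  have hy₀ : y ≫ g = p₀.1 ≫ U.hom ≫ ps := by rw [hy, ← Category.assoc, p₀.2]
  let m : R ⟶ pullback (U.hom ≫ ps) g := pullback.lift p₀.1 y hy₀.symm
  have hm : m ≫ value c₀ = pullback.fst (π ≫ g) ps := by
    rw [lift_value c₀ p₀.1 y hy₀]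
    have := congrArg (fun d : Compat D (x ≫ ps) => (d.pt (i := PUnit.unit) (𝟙 R) y
      (hy.trans (Category.id_comp _).symm)).1) hp₀
    exact ((c₀.pt_congr (Category.id_comp p₀.1).symm rfl _ _).trans this).trans
      (Compat.ofPoint_pt_self b hy _)
  obtain ⟨V, j, hj, z, σ, hσ, hσu⟩ := exists_etale_lift s U (p₀.1 r)
  refine ⟨V, j, hj, z, c₀.res σ _ hσ, ?_⟩
  obtain ⟨q, -, hq⟩ := Scheme.Pullback.exists_preimage_pullback (f := σ) (g := pullback.fst (U.hom ≫ ps) g)
    (IsLocalRing.closedPoint (V.residueField z)) (m r) (by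
      rw [hσu, ← Scheme.Hom.comp_apply, pullback.lift_fst])
  let t := pullback.fst σ (pullback.fst (U.hom ≫ ps) g)
  let y' := pullback.snd σ (pullback.fst (U.hom ≫ ps) g) ≫ pullback.snd (U.hom ≫ ps) g
  have hy' : y' ≫ g = t ≫ V.fromSpecResidueField z ≫ j := by
    rw [← hσ, pullback.condition_assoc, Category.assoc, ← pullback.condition]
  refine ⟨pullback.lift t y' hy'.symm q, ?_⟩
  rw [← Scheme.Hom.comp_apply, lift_value _ t y' hy', Compat.res_pt]
  rw [c₀.nat (i := PUnit.unit) (pullback.snd σ (pullback.fst (U.hom ≫ ps) g)) (pullback.fst (U.hom ≫ ps) g)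
    (pullback.snd (U.hom ≫ ps) g) pullback.condition.symm (t ≫ σ) y' pullback.condition.symm rfl]
  show (pullback.snd σ (pullback.fst (U.hom ≫ ps) g) ≫ value c₀) q = e
  rw [Scheme.Hom.comp_apply, hq, ← Scheme.Hom.comp_apply, hm]
  exact hr

/-- Etale covers of the preimage of an etale neighbourhood which have a section on a fibre split after
shrinking the neighbourhood. -/
def CanSplit {S S' : Scheme.{u}} (g : S' ⟶ S) : Prop :=
  ∀ ⦃V : Scheme.{u}⦄ (j : V ⟶ S) [Etale j] (z : V) ⦃P : Scheme.{u}⦄ (k : P ⟶ pullback j g)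
    (p : P ⟶ Spec (V.residueField z)), IsPullback k p (pullback.fst j g) (V.fromSpecResidueField z) →
    ∀ ⦃E : Scheme.{u}⦄ (π : E ⟶ pullback j g) [Etale π] [IsSeparated π] (O : E.Opens)
      (s : P ⟶ E), s ≫ π = k → (∀ a, s a ∈ O) → ∀ a₀, ∃ (V₂ : Scheme.{u}) (v₂ : V₂ ⟶ V) (_ : Etale v₂)
      (h : pullback (pullback.fst j g) v₂ ⟶ O.toScheme),
        h ≫ O.ι ≫ π = pullback.fst _ _ ∧ ∃ x, O.ι (h x) = s a₀

/-- Descent data along universally closed surjective morphisms along which sections split have charts. -/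
theorem hasCharts_of_canSplit [UniversallyClosed g] [QuasiCompact g] [Surjective g] (hsplit : CanSplit g)
    [Etale (D.obj PUnit.unit).hom] [IsSeparated (D.obj PUnit.unit).hom] :
    HasCharts D := by
  intro e
  obtain ⟨V, j, hj, z, cz, w₀, hw₀⟩ := exists_pointChart (D := D) (univSubmersive_of_universallyClosed g) e
  let π := (D.obj PUnit.unit).hom
  let ιz := V.fromSpecResidueField z
  let F := pullback.fst j g
  let Y := pullback.snd j g
  let pr := pullback.snd π Y
  -- the fibre over `z` and the given section over it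
  let kz : pullback (ιz ≫ j) g ⟶ pullback j g := pullback.lift (pullback.fst _ g ≫ ιz) (pullback.snd _ g)
    (by rw [Category.assoc, pullback.condition])
  have hkzF : kz ≫ F = pullback.fst (ιz ≫ j) g ≫ ιz := pullback.lift_fst _ _ _
  have hkzY : kz ≫ Y = pullback.snd (ιz ≫ j) g := pullback.lift_snd _ _ _
  have hkz : IsPullback kz (pullback.fst (ιz ≫ j) g) F ιz := by
    refine IsPullback.of_right ?_ hkzF (IsPullback.of_hasPullback j g).flip
    rw [hkzY]
    exact (IsPullback.of_hasPullback (ιz ≫ j) g).flip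
  have : IsPreimmersion kz := MorphismProperty.of_isPullback (P := @IsPreimmersion) hkz.flip inferInstance
  let mG := pullback.fst pr kz
  have : IsPreimmersion mG := inferInstance
  let sec : pullback (ιz ≫ j) g ⟶ pullback pr kz :=
    pullback.lift (pullback.lift (value cz) kz (by rw [value_over, hkzY])) (𝟙 _)
      (by rw [pullback.lift_snd, Category.id_comp])
  have hsec : sec ≫ pullback.snd pr kz = 𝟙 _ := pullback.lift_snd _ _ _
  have : Etale (sec ≫ pullback.snd pr kz) := by rw [hsec]; infer_instance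
  have : Etale sec :=
    MorphismProperty.of_postcomp (W := @Etale) (W' := @Etale) sec (pullback.snd pr kz) inferInstance this
  obtain ⟨O₀, hO₀, hO₀'⟩ := mG.isEmbedding.isInducing.isOpen_iff.1 sec.isOpenMap.isOpen_range
  let O : (pullback π Y).Opens := ⟨O₀, hO₀⟩
  have hkzz : ∀ a, F (kz a) = z := fun a => by
    rw [← Scheme.Hom.comp_apply, hkzF, Scheme.Hom.comp_apply, Scheme.fromSpecResidueField_apply]
  have hmem : ∀ a, mG (sec a) ∈ O₀ := fun a => by
    have : sec a ∈ mG ⁻¹' O₀ := by rw [hO₀']; exact ⟨a, rfl⟩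
    exact this
  have hprsec : ∀ a, pr (mG (sec a)) = kz a := fun a => by
    rw [← Scheme.Hom.comp_apply, pullback.condition, ← Scheme.Hom.comp_apply, ← Category.assoc, hsec,
      Category.id_comp]
  let u₀ : (O : Scheme.{u}) := ⟨mG (sec w₀), hmem w₀⟩
  obtain ⟨V₂, v₂, hv₂, h, hh, q₁, hq₁⟩ := hsplit j z kz (pullback.fst (ιz ≫ j) g) hkz pr O (sec ≫ mG)
    (by rw [Category.assoc, pullback.condition, reassoc_of% hsec])
    (fun a => by rw [Scheme.Hom.comp_apply]; exact hmem a) w₀
  have hu₀ : u₀ ∈ Set.range h := ⟨q₁, O.ι.isOpenEmbedding.injective (hq₁.trans (by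
    rw [Scheme.Hom.comp_apply]; rfl))⟩
  -- the candidate family over `V₂`
  let F₂ := pullback.fst (v₂ ≫ j) g
  let Y₂ := pullback.snd (v₂ ≫ j) g
  let a₁ : pullback (v₂ ≫ j) g ⟶ pullback j g := pullback.lift (F₂ ≫ v₂) Y₂
    (by rw [Category.assoc]; exact pullback.condition)
  let a : pullback (v₂ ≫ j) g ⟶ pullback F v₂ := pullback.lift a₁ F₂ (pullback.lift_fst _ _ _)
  let l₁ : pullback (v₂ ≫ j) g ⟶ pullback π Y := a ≫ h ≫ O.ι
  have hl₁pr : l₁ ≫ pr = a₁ := by
    simp only [l₁, Category.assoc, hh]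
    exact pullback.lift_fst _ _ _
  let lp := l₁ ≫ pullback.fst π Y
  have hlp : lp ≫ π = Y₂ := by
    rw [Category.assoc, pullback.condition, reassoc_of% hl₁pr]
    exact pullback.lift_snd _ _ _
  let R := pullback F₂ F₂
  let m := pullback.fst F₂ F₂
  let n := pullback.snd F₂ F₂
  have hmn : (m ≫ Y₂) ≫ g = (n ≫ Y₂) ≫ g := by
    simp only [Category.assoc, Y₂, ← pullback.condition]
    rw [show m ≫ F₂ ≫ v₂ ≫ j = n ≫ F₂ ≫ v₂ ≫ j from by rw [reassoc_of% (pullback.condition : m ≫ F₂ = n ≫ F₂)]]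
  let A := D.φ (i := PUnit.unit) (j := PUnit.unit) (m ≫ Y₂) (n ≫ Y₂) hmn
    ⟨m ≫ lp, by rw [Category.assoc, hlp]⟩
  obtain ⟨W, hW, hWiff⟩ := exists_eqLocus π A.1 (n ≫ lp) (A.2.trans (by rw [Category.assoc, hlp]))
  -- agreement over `z`
  have hWz : ∀ r : ↥R, v₂ (F₂ (m r)) = z → r ∈ W := by
    intro r hr
    let T := pullback (m ≫ F₂ ≫ v₂) ιz
    let ε : T ⟶ R := pullback.fst (m ≫ F₂ ≫ v₂) ιz
    let δ : T ⟶ Spec (V.residueField z) := pullback.snd (m ≫ F₂ ≫ v₂) ιz
    have key : ∀ (k : R ⟶ pullback (v₂ ≫ j) g) (hk : k ≫ F₂ = m ≫ F₂) (hy : ((ε ≫ k) ≫ Y₂) ≫ g = δ ≫ ιz ≫ j),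
        (ε ≫ k) ≫ lp = (cz.pt (i := PUnit.unit) δ ((ε ≫ k) ≫ Y₂) hy).1 := by
      intro k hk hy
      let q : T ⟶ pullback (ιz ≫ j) g := pullback.lift δ ((ε ≫ k) ≫ Y₂) hy.symm
      have hq : q ≫ kz = (ε ≫ k) ≫ a₁ := by
        apply pullback.hom_ext
        · rw [Category.assoc, hkzF, ← Category.assoc, pullback.lift_fst, Category.assoc (ε ≫ k), pullback.lift_fst,
            ← Category.assoc, Category.assoc ε k, hk]
          simp only [Category.assoc]
          exact pullback.condition.symm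
        · rw [Category.assoc, hkzY, pullback.lift_snd, Category.assoc (ε ≫ k), pullback.lift_snd]
      let G : T ⟶ pullback pr kz := pullback.lift ((ε ≫ k) ≫ l₁) q
        (by rw [Category.assoc, hl₁pr, hq])
      have hG : Set.range G ⊆ Set.range sec := by
        rintro _ ⟨t, rfl⟩
        rw [← hO₀']
        show mG (G t) ∈ O₀
        rw [← Scheme.Hom.comp_apply, pullback.lift_fst]
        simp only [l₁, Scheme.Hom.comp_apply]
        exact (h (a (k (ε t)))).2
      have e₁ := eq_of_range_section (pullback.snd pr kz) sec hsec G hG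
      have e₂ := congrArg (· ≫ mG ≫ pullback.fst π Y) e₁
      simp only [G, sec, mG, Category.assoc, pullback.lift_fst, pullback.lift_fst_assoc,
        pullback.lift_snd_assoc] at e₂
      have e₃ : (ε ≫ k) ≫ lp = q ≫ value cz := by
        simp only [lp, Category.assoc]
        exact e₂
      rw [e₃, lift_value cz δ _ hy]
    have hmF : m ≫ F₂ = n ≫ F₂ := pullback.condition
    have hy : ∀ (k : R ⟶ pullback (v₂ ≫ j) g), k ≫ F₂ = m ≫ F₂ → ((ε ≫ k) ≫ Y₂) ≫ g = δ ≫ ιz ≫ j := fun k hk => by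
      have := congrArg (fun f => ε ≫ f ≫ v₂ ≫ j) hk
      simp only [Category.assoc] at this ⊢
      rw [← pullback.condition, this]
      simpa only [Category.assoc] using congrArg (fun f => f ≫ j) (pullback.condition (f := m ≫ F₂ ≫ v₂) (g := ιz))
    have hym := hy m rfl
    have hyn := hy n hmF.symm
    have hA : ε ≫ A.1 = ε ≫ n ≫ lp := by
      rw [← D.φ_natural ε (m ≫ Y₂) (n ≫ Y₂) hmn ((ε ≫ m) ≫ Y₂) ((ε ≫ n) ≫ Y₂) (Category.assoc _ _ _).symm
        (Category.assoc _ _ _).symm (hym.trans hyn.symm) _ (cz.pt (i := PUnit.unit) δ _ hym) (by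
          rw [← key m rfl hym, Category.assoc]),
        cz.comp (i := PUnit.unit) (k := PUnit.unit) δ _ _ hym hyn, ← key n hmF.symm hyn, Category.assoc]
    obtain ⟨r', hr', -⟩ := Scheme.Pullback.exists_preimage_pullback (f := m ≫ F₂ ≫ v₂) (g := ιz) r
      (IsLocalRing.closedPoint (V.residueField z)) (by
        simp only [Scheme.Hom.comp_apply]
        rw [hr, Scheme.fromSpecResidueField_apply])
    exact (hWiff ε).1 hA ⟨r', hr'⟩
  -- shrink `V₂`
  have : UniversallyClosed (m ≫ F₂) := inferInstance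
  let V₃ : V₂.Opens := ⟨((m ≫ F₂) '' Wᶜ)ᶜ, ((m ≫ F₂).isClosedMap _ hW.isOpen.isClosed_compl).isOpen_compl⟩
  let i := V₃.ι
  have hpt : ∀ {T : Scheme.{u}} (t : T ⟶ (V₃ : Scheme.{u})) (y : T ⟶ S') (hy : y ≫ g = t ≫ i ≫ v₂ ≫ j),
      (pullback.lift (t ≫ i) y (by rw [hy, Category.assoc]) ≫ lp) ≫ π = y := fun t y hy => by
    rw [Category.assoc, hlp, pullback.lift_snd]
  let c : Compat D (i ≫ v₂ ≫ j) :=
    { pt := fun T t k y hy => ⟨pullback.lift (t ≫ i) y (by rw [hy, Category.assoc]) ≫ lp, hpt t y hy⟩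
      nat := fun T T' f t k y hy t' y' hf hfy hy' => by
        show _ ≫ lp = f ≫ _ ≫ lp
        rw [← Category.assoc f]
        congr 1
        exact pullback.hom_ext (by simp [← hf]) (by simp [← hfy])
      comp := fun T t k k' y y' hy hy' => by
        refine Subtype.ext ?_
        let P₁ : T ⟶ pullback (v₂ ≫ j) g := pullback.lift (t ≫ i) y (by rw [hy, Category.assoc])
        let P₂ : T ⟶ pullback (v₂ ≫ j) g := pullback.lift (t ≫ i) y' (by rw [hy', Category.assoc])
        let ε : T ⟶ R := pullback.lift P₁ P₂ (by rw [pullback.lift_fst, pullback.lift_fst])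
        have hε : Set.range ε ⊆ W := by
          rintro _ ⟨q, rfl⟩
          by_contra hq
          refine (t q).2 ⟨ε q, hq, ?_⟩
          have e : ε ≫ m ≫ F₂ = t ≫ i := by
            simp only [m, ε, P₁, F₂, pullback.lift_fst_assoc, pullback.lift_fst]
          rw [← Scheme.Hom.comp_apply, e, Scheme.Hom.comp_apply]
          rfl
        have := (hWiff ε).2 hε
        refine Eq.trans ?_ (this.trans ?_)
        · exact D.φ_natural ε (m ≫ Y₂) (n ≫ Y₂) hmn y y' (by simp [ε, m, P₁, Y₂]) (by simp [ε, n, P₂, Y₂])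
            (hy.trans hy'.symm) _ _ (by simp [ε, m, P₁])
        · simp [ε, n, P₂] }
  -- the point
  obtain ⟨q₀, hq₀⟩ := hu₀
  let b : pullback F v₂ ⟶ pullback (v₂ ≫ j) g := pullback.lift (pullback.snd F v₂) (pullback.fst F v₂ ≫ Y)
    (by rw [← pullback.condition_assoc, Category.assoc, ← pullback.condition])
  have hba : b ≫ a = 𝟙 _ := by
    apply pullback.hom_ext
    · apply pullback.hom_ext
      · simp only [a, a₁, b, F₂, F, Category.assoc, pullback.lift_fst, pullback.lift_fst_assoc, Category.id_comp]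
        exact pullback.condition.symm
      · simp [a, a₁, b, Y₂, Y]
    · simp [a, b, F₂]
  have hbz : v₂ (F₂ (b q₀)) = z := by
    have e₁ : b ≫ F₂ ≫ v₂ = h ≫ O.ι ≫ pr ≫ F := by
      rw [reassoc_of% hh]
      show b ≫ pullback.fst _ _ ≫ v₂ = _
      rw [pullback.lift_fst_assoc, ← pullback.condition]
    have := congrArg (fun f => f q₀) e₁
    simp only [Scheme.Hom.comp_apply] at this
    erw [hq₀] at this
    rw [this]
    show F (pr (mG (sec w₀))) = z
    rw [hprsec, hkzz]
  have hV₃ : F₂ (b q₀) ∈ V₃ := by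
    rintro ⟨r, hr, hr'⟩
    refine hr (hWz r ?_)
    rw [← hbz, ← hr', Scheme.Hom.comp_apply]
  obtain ⟨q, hq, -⟩ := Scheme.Pullback.exists_preimage_pullback (f := F₂) (g := i) (b q₀) ⟨_, hV₃⟩ rfl
  let t := pullback.snd F₂ i
  let y := pullback.fst F₂ i ≫ Y₂
  have hy : y ≫ g = t ≫ i ≫ v₂ ≫ j := by
    rw [Category.assoc, ← pullback.condition, pullback.condition_assoc]
  refine ⟨V₃, i ≫ v₂ ≫ j, inferInstance, c, pullback.lift t y hy.symm q, ?_⟩
  rw [← Scheme.Hom.comp_apply, lift_value c t y hy]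
  show (pullback.lift (t ≫ i) y _ ≫ lp) q = e
  rw [show pullback.lift (t ≫ i) y (by rw [hy, Category.assoc]) = pullback.fst F₂ i from
      pullback.hom_ext ((pullback.lift_fst _ _ _).trans pullback.condition.symm) (pullback.lift_snd _ _ _),
    Scheme.Hom.comp_apply, hq, ← Scheme.Hom.comp_apply]
  simp only [lp, l₁, Category.assoc, reassoc_of% hba]
  rw [Scheme.Hom.comp_apply, hq₀, Scheme.Hom.comp_apply]
  show pullback.fst π Y (mG (sec w₀)) = e
  rw [← hw₀, ← Scheme.Hom.comp_apply, ← Scheme.Hom.comp_apply]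
  simp [sec, mG]
  rfl

theorem canSplit_of_integral [IsIntegralHom g] : CanSplit g := by
  intro V j _ z P k p hP E π _ _ O s hs hO a₀
  have hfib : ∀ x : ↥(pullback j g), pullback.fst j g x = z → ∃ a, k a = x := by
    intro x hx
    obtain ⟨a, ha, -⟩ := Scheme.exists_preimage_of_isPullback hP x
      (IsLocalRing.closedPoint (V.residueField z)) (by rw [hx, Scheme.fromSpecResidueField_apply])
    exact ⟨a, ha⟩
  have hsk : ∀ a, π (s a) = k a := fun a => by rw [← Scheme.Hom.comp_apply, hs]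
  obtain ⟨V₂, v₂, hv₂, -, -, h, hh, x, hx⟩ := EtFound.exists_split (pullback.fst j g) (O.ι ≫ π) z
    (fun x hx => by
      obtain ⟨a, rfl⟩ := hfib x hx
      exact ⟨⟨s a, hO a⟩, hsk a⟩)
    ⟨s a₀, hO a₀⟩ (by
      show pullback.fst j g (π (s a₀)) = z
      rw [hsk, ← Scheme.Hom.comp_apply, hP.w, Scheme.Hom.comp_apply, Scheme.fromSpecResidueField_apply])
  exact ⟨V₂, v₂, hv₂, h, hh, x, congrArg O.ι hx⟩

/-- Descent data along integral surjective morphisms have charts. -/
theorem hasCharts_of_integral [IsIntegralHom g] [Surjective g]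
    [Etale (D.obj PUnit.unit).hom] [IsSeparated (D.obj PUnit.unit).hom] :
    HasCharts D :=
  hasCharts_of_canSplit canSplit_of_integral

/-- Effectivity of etale descent along integral surjective morphisms. -/
theorem exists_repBy_of_integral [IsIntegralHom g] [Surjective g]
    [Etale (D.obj PUnit.unit).hom] [QuasiCompact (D.obj PUnit.unit).hom] [IsSeparated (D.obj PUnit.unit).hom] :
    ∃ U : Over S, QuasiCompact U.hom ∧ IsSeparated U.hom ∧ Etale U.hom ∧ RepBy D U :=
  exists_repBy_of_charts (univSubmersive_of_universallyClosed g) hasCharts_of_integral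

end Groth.Agent.SchDesc82
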