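import Groth.Agent.SchDesc82.Integral
import Groth.Agent.FlatFibres.ClopenProperLift
import Groth.Agent.Hensel.Colim
import Groth.Agent.MorLib.BaseChangeLim
import Mathlib.AlgebraicGeometry.AffineTransitionLimit

/-!
# Charts for etale descent data along proper surjective morphisms
-/

universe u

set_option autoImplicit false
set_option backward.isDefEq.respectTransparency false
set_option backward.isDefEq.respectTransparency.types false

open CategoryTheory CategoryTheory.Limits AlgebraicGeometry Opposite Desc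

namespace Groth.Agent.SchDesc82

open DescLib Groth.Agent.MorLib

/-- Over a henselian pair, a section of an etale separated scheme over the closed part of a proper scheme
extends to a section. -/
theorem exists_lift_section {A : Type u} [CommRing A] (I : Ideal A) [HenselianRing A I] {X E : Scheme.{u}}
    (f : X ⟶ Spec (CommRingCat.of A)) [IsProper f] (π : E ⟶ X) [Etale π] [IsSeparated π] [QuasiCompact π]
    (s : pullback f (Spec.map (CommRingCat.ofHom (Ideal.Quotient.mk I))) ⟶ E)
    (hs : s ≫ π = pullback.fst f (Spec.map (CommRingCat.ofHom (Ideal.Quotient.mk I)))) :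
    ∃ σ : X ⟶ E, σ ≫ π = 𝟙 X ∧
      pullback.fst f (Spec.map (CommRingCat.ofHom (Ideal.Quotient.mk I))) ≫ σ = s := by
  let q := Spec.map (CommRingCat.ofHom (Ideal.Quotient.mk I))
  have : IsClosedImmersion q := IsClosedImmersion.spec_of_surjective _ Ideal.Quotient.mk_surjective
  let c := pullback.fst f q
  have hcr : Set.range c = f ⁻¹' PrimeSpectrum.zeroLocus (I : Set A) := HensCouple7.range_fst_mk I f
  let E₀ := pullback (π ≫ f) q
  let ρ : E₀ ⟶ pullback f q := pullback.lift (pullback.fst _ _ ≫ π) (pullback.snd _ _)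
    (by rw [Category.assoc, pullback.condition])
  have hρ : IsPullback (pullback.fst (π ≫ f) q) ρ π c := by
    refine IsPullback.of_bot ?_ (pullback.lift_fst _ _ _).symm (IsPullback.of_hasPullback f q)
    rw [pullback.lift_snd]
    exact IsPullback.of_hasPullback (π ≫ f) q
  have : Etale ρ := MorphismProperty.of_isPullback (P := @Etale) hρ inferInstance
  have : IsSeparated ρ := MorphismProperty.of_isPullback (P := @IsSeparated) hρ inferInstance
  let e : pullback f q ⟶ E₀ := pullback.lift s (pullback.snd f q) (by rw [reassoc_of% hs, pullback.condition])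
  have heρ : e ≫ ρ = 𝟙 _ := by
    apply pullback.hom_ext
    · rw [Category.assoc, pullback.lift_fst, pullback.lift_fst_assoc, hs, Category.id_comp]
    · rw [Category.assoc, pullback.lift_snd, pullback.lift_snd, Category.id_comp]
  have : Mono e := (SplitMono.mk ρ heρ).mono
  have : Etale (e ≫ ρ) := by rw [heρ]; infer_instance
  have : Etale e := MorphismProperty.of_postcomp (W := @Etale) (W' := @Etale) e ρ inferInstance this
  have : IsOpenImmersion e := IsOpenImmersion.of_flat_of_mono _
  have : IsClosedImmersion (e ≫ ρ) := by rw [heρ]; infer_instance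
  have : IsClosedImmersion e := IsClosedImmersion.of_comp e ρ
  let Y : E₀.Opens := e.opensRange
  have hYc : IsClosed (Y : Set ↥E₀) := e.isClosedEmbedding.isClosed_range
  have hYr : Set.range Y.ι = Set.range e := by rw [Scheme.Opens.range_ι]; rfl
  let iY := IsOpenImmersion.isoOfRangeEq Y.ι e hYr
  have hYp : IsProper (Y.ι ≫ pullback.snd (π ≫ f) q) := by
    rw [← IsOpenImmersion.isoOfRangeEq_hom_fac Y.ι e hYr, Category.assoc,
      show e ≫ pullback.snd (π ≫ f) q = pullback.snd f q from pullback.lift_snd _ _ _]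
    infer_instance
  obtain ⟨W, -, hWp, hWY⟩ := FlatFibres.ClopenProperLift.exists_lift I (π ≫ f) Y hYc hYp
  let ω : (W : Scheme.{u}) ⟶ X := W.ι ≫ π
  have : Etale ω := inferInstanceAs (Etale (W.ι ≫ π))
  have : IsProper (ω ≫ f) := by rw [Category.assoc]; exact hWp
  have : IsProper ω := IsProper.of_comp ω f
  -- `ω` is a monomorphism
  have hY : ∀ {T : Scheme.{u}} (w : T ⟶ (W : Scheme.{u})) (y : T ⟶ pullback f q), w ≫ ω = y ≫ c →
      w ≫ W.ι = y ≫ s := by
    intro T w y hw
    let w₀ : T ⟶ E₀ := hρ.lift (w ≫ W.ι) y (by rw [Category.assoc]; exact hw)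
    have hw₀ : w₀ ≫ pullback.fst (π ≫ f) q = w ≫ W.ι := hρ.lift_fst _ _ _
    have hr : Set.range w₀ ⊆ Set.range e := by
      rintro _ ⟨t, rfl⟩
      show w₀ t ∈ Y
      rw [← hWY]
      show pullback.fst (π ≫ f) q (w₀ t) ∈ W
      rw [← Scheme.Hom.comp_apply, hw₀, Scheme.Hom.comp_apply]
      exact (w t).2
    have e₁ := congrArg (· ≫ pullback.fst (π ≫ f) q) (eq_of_range_section ρ e heρ w₀ hr)
    simp only [hw₀, Category.assoc, e, pullback.lift_fst] at e₁
    rw [e₁, ← Category.assoc, hρ.lift_snd]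
  let Δ := pullback.diagonal ω
  let d := pullback.fst ω ω ≫ ω ≫ f
  have : IsProper d := inferInstanceAs (IsProper (pullback.fst ω ω ≫ ω ≫ f))
  have hΔ : Function.Surjective Δ := by
    by_contra hns
    have hne : (Set.range Δ)ᶜ.Nonempty := by
      rw [Set.nonempty_compl]
      exact fun h => hns (Set.range_eq_univ.1 h)
    obtain ⟨x, hx, hxΔ⟩ := PBC50.nonempty_inter_preimage_zeroLocus I d
      Δ.isOpenEmbedding.isOpen_range.isClosed_compl hne
    obtain ⟨a, ha⟩ : (pullback.fst ω ω ≫ ω) x ∈ Set.range c := by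
      rw [hcr]
      simpa [d] using hx
    obtain ⟨t, ht, -⟩ := Scheme.Pullback.exists_preimage_pullback (f := pullback.fst ω ω ≫ ω) (g := c) x a ha.symm
    let T := pullback (pullback.fst ω ω ≫ ω) c
    let α : T ⟶ pullback ω ω := pullback.fst _ _
    have e₁ := hY (α ≫ pullback.fst ω ω) (pullback.snd _ _) (by rw [Category.assoc]; exact pullback.condition)
    have e₂ := hY (α ≫ pullback.snd ω ω) (pullback.snd _ _) (by
      rw [Category.assoc, ← pullback.condition]; exact pullback.condition)
    have e₃ : α ≫ pullback.fst ω ω = α ≫ pullback.snd ω ω := (cancel_mono W.ι).1 (e₁.trans e₂.symm)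
    have e₄ : α = (α ≫ pullback.fst ω ω) ≫ Δ := by
      apply pullback.hom_ext
      · simp [Δ]
      · simp [Δ, e₃]
    refine hxΔ ⟨(α ≫ pullback.fst ω ω) t, ?_⟩
    rw [← Scheme.Hom.comp_apply, ← e₄]
    exact ht
  have : Surjective Δ := ⟨hΔ⟩
  have : IsIso Δ := (isomorphisms_eq_isOpenImmersion_inf_surjective.symm ▸ ⟨inferInstance, this⟩ :
    MorphismProperty.isomorphisms Scheme.{u} Δ)
  have : Mono ω := (pullback.isIso_diagonal_iff ω).1 this
  have : IsOpenImmersion ω := IsOpenImmersion.of_flat_of_mono _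
  have hsW : ∀ a, s a ∈ W := fun a => by
    have ha : e a ∈ Y := ⟨a, rfl⟩
    rw [← hWY] at ha
    have ha' : pullback.fst (π ≫ f) q (e a) ∈ W := ha
    rwa [← Scheme.Hom.comp_apply, pullback.lift_fst] at ha'
  have hωs : Function.Surjective ω := by
    by_contra hns
    have hne : (Set.range ω)ᶜ.Nonempty := by
      rw [Set.nonempty_compl]
      exact fun h => hns (Set.range_eq_univ.1 h)
    obtain ⟨x, hx, hxω⟩ := PBC50.nonempty_inter_preimage_zeroLocus I f
      ω.isOpenEmbedding.isOpen_range.isClosed_compl hne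
    obtain ⟨a, rfl⟩ : x ∈ Set.range c := by rw [hcr]; exact hx
    refine hxω ⟨⟨s a, hsW a⟩, ?_⟩
    show π (s a) = c a
    rw [← Scheme.Hom.comp_apply, hs]
  have : Surjective ω := ⟨hωs⟩
  have : IsIso ω := (isomorphisms_eq_isOpenImmersion_inf_surjective.symm ▸ ⟨inferInstance, this⟩ :
    MorphismProperty.isomorphisms Scheme.{u} ω)
  refine ⟨inv ω ≫ W.ι, by rw [Category.assoc]; exact IsIso.inv_hom_id ω, ?_⟩
  have e₁ := hY (c ≫ inv ω) (𝟙 _) (by rw [Category.assoc, IsIso.inv_hom_id, Category.comp_id, Category.id_comp])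
  rw [Category.id_comp, Category.assoc] at e₁
  exact e₁

/-- A lift over a limit of neighbourhoods comes from a stage. -/
theorem exists_lift_stage {J : Type u} [SmallCategory J] [IsCofiltered J] (T : J ⥤ Scheme.{u}) (c : Cone T)
    (hc : IsLimit c) [∀ {M N} (f : M ⟶ N), IsAffineHom (T.map f)] [∀ M, CompactSpace (T.obj M)]
    [∀ M, QuasiSeparatedSpace (T.obj M)] {X V E : Scheme.{u}} (F : X ⟶ V) [QuasiCompact F] [QuasiSeparated F]
    (π : E ⟶ X) [LocallyOfFinitePresentation π] (aN : ∀ M, T.obj M ⟶ V)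
    (hmap : ∀ {M N} (f : M ⟶ N), T.map f ≫ aN N = aN M) (aH : c.pt ⟶ V) (haN : ∀ M, c.π.app M ≫ aN M = aH)
    (a : pullback F aH ⟶ E) (ha : a ≫ π = pullback.fst F aH) :
    ∃ (M : J) (h : pullback F (aN M) ⟶ E), h ≫ π = pullback.fst _ _ ∧
      pullback.lift (pullback.fst F aH) (pullback.snd F aH ≫ c.π.app M)
        (by rw [Category.assoc, haN, pullback.condition]) ≫ h = a := by
  obtain ⟨i⟩ := (IsCofiltered.nonempty : Nonempty J)
  let xi := pullback.snd F (aN i)
  let ρ : pullback F aH ⟶ pullback F (aN i) :=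
    pullback.lift (pullback.fst F aH) (pullback.snd F aH ≫ c.π.app i) (by
      rw [Category.assoc, haN, pullback.condition])
  have sqP : IsPullback ρ (pullback.snd F aH) xi (c.π.app i) := by
    refine IsPullback.of_right ?_ (pullback.lift_snd _ _ _) (IsPullback.of_hasPullback F (aN i))
    rw [pullback.lift_fst, haN]
    exact IsPullback.of_hasPullback F aH
  have : CompactSpace ↥(pullback F (aN i)) := QuasiCompact.compactSpace_of_compactSpace xi
  have : QuasiSeparatedSpace ↥(pullback F (aN i)) := quasiSeparatedSpace_of_quasiSeparated xi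
  let τ : BC.diag T xi ⟶ (Functor.const _).obj X :=
    BC.toStart T xi ≫ (Functor.const (Over i)).map (pullback.fst F (aN i))
  obtain ⟨n, h₁, hh₁, hh₁'⟩ := Scheme.exists_π_app_comp_eq_of_locallyOfFinitePresentation (BC.diag T xi) τ π
    (BC.cone T xi sqP) (BC.isLimitCone T xi sqP hc) a (by
      ext l : 2
      simp only [τ, NatTrans.comp_app, Functor.const_map_app]
      show BC.proj T xi sqP l ≫ pullback.fst xi (T.map l.hom) ≫ pullback.fst F (aN i) = _
      rw [BC.proj_fst_assoc, pullback.lift_fst, ha])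
  let ε : pullback F (aN n.left) ⟶ pullback xi (T.map n.hom) :=
    pullback.lift (pullback.lift (pullback.fst F (aN n.left)) (pullback.snd F (aN n.left) ≫ T.map n.hom) (by
      rw [Category.assoc, hmap, pullback.condition])) (pullback.snd F (aN n.left)) (pullback.lift_snd _ _ _)
  refine ⟨n.left, ε ≫ h₁, ?_, ?_⟩
  · rw [Category.assoc, show h₁ ≫ π = pullback.fst xi (T.map n.hom) ≫ pullback.fst F (aN i) from hh₁',
      pullback.lift_fst_assoc, pullback.lift_fst]
  · refine Eq.trans ?_ hh₁
    rw [← Category.assoc]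
    refine congrArg (· ≫ h₁) ?_
    show _ = BC.proj T xi sqP n
    apply pullback.hom_ext
    · rw [Category.assoc, pullback.lift_fst, BC.proj_fst]
      apply pullback.hom_ext
      · rw [Category.assoc, pullback.lift_fst, pullback.lift_fst, pullback.lift_fst]
      · rw [Category.assoc, pullback.lift_snd, pullback.lift_snd_assoc, pullback.lift_snd, Category.assoc, c.w]
    · rw [Category.assoc, pullback.lift_snd, BC.proj_snd, pullback.lift_snd]

open Groth.Agent.Hensel in
/-- A section of an etale separated scheme over a fibre of a proper morphism extends over an etale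
neighbourhood. -/
theorem exists_split_proper {X V E P : Scheme.{u}} (F : X ⟶ V) [IsProper F] [LocallyOfFinitePresentation F]
    (π : E ⟶ X) [Etale π] [IsSeparated π] [QuasiCompact π] (z : V) {k : P ⟶ X}
    {p : P ⟶ Spec (V.residueField z)} (hP : IsPullback k p F (V.fromSpecResidueField z)) (O : E.Opens)
    (s : P ⟶ E) (hs : s ≫ π = k) (hO : ∀ a, s a ∈ O) :
    ∃ (V₂ : Scheme.{u}) (v₂ : V₂ ⟶ V) (_ : Etale v₂) (h : pullback F v₂ ⟶ O.toScheme),
      h ≫ O.ι ≫ π = pullback.fst _ _ ∧ ∀ a, ∃ x, O.ι (h x) = s a := by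
  obtain ⟨B, hB, hz, -⟩ := exists_isAffineOpen_mem_and_subset (U := (⊤ : V.Opens)) (x := z) trivial
  let R : Type u := Γ(V, B)
  let K : Type u := V.residueField z
  let φ : Γ(V, B) ⟶ V.residueField z := V.presheaf.germ B z hz ≫ V.residue z
  have hφ : Spec.map φ ≫ hB.fromSpec = V.fromSpecResidueField z := by
    rw [Spec.map_comp, Category.assoc]
    exact congrArg (Spec.map (V.residue z) ≫ ·) (hB.fromSpecStalk_eq_fromSpecStalk hz)
  let _ : Algebra R K := φ.hom.toAlgebra
  have hproj : Function.Surjective (Henz.proj R K) := by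
    intro x
    obtain ⟨y, rfl⟩ := V.residue_surjective z x
    let _ := TopCat.Presheaf.algebra_section_stalk V.presheaf (⟨z, hz⟩ : B)
    have := hB.isLocalization_stalk ⟨z, hz⟩
    obtain ⟨⟨a, b⟩, hab⟩ := IsLocalization.surj (hB.primeIdealOf ⟨z, hz⟩).asIdeal.primeCompl
      (y : V.presheaf.stalk z)
    have hb : IsUnit (algebraMap R K b.1) :=
      (IsLocalization.map_units (V.presheaf.stalk z) b).map (V.residue z).hom
    have hb' : IsUnit (algebraMap R (Henz R K) b.1) := by
      rw [Henz.isUnit_iff, AlgHom.commutes]; exact hb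
    refine ⟨algebraMap R _ a * ↑hb'.unit⁻¹, hb.mul_left_injective ?_⟩
    show Henz.proj R K (algebraMap R _ a * ↑hb'.unit⁻¹) * algebraMap R K b.1 = V.residue z y * algebraMap R K b.1
    rw [show algebraMap R K b.1 = Henz.proj R K (algebraMap R _ b.1) from (AlgHom.commutes _ _).symm, ← map_mul,
      mul_assoc, IsUnit.val_inv_mul, mul_one, AlgHom.commutes, AlgHom.commutes]
    exact ((map_mul (V.residue z).hom _ _).symm.trans (congrArg (V.residue z).hom hab)).symm
  let H := Henz R K
  let I : Ideal H := RingHom.ker (Henz.proj R K)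
  -- the limit of the neighbourhoods
  let T : (NbhdCat R K)ᵒᵖ ⥤ Scheme.{u} := (nbhdDiagram R K ⋙ Under.forget _).op ⋙ Scheme.Spec
  let c : Cone T := Scheme.Spec.mapCone ((Under.forget _).mapCocone (nbhdCocone R K)).op
  let hc : IsLimit c := isLimitOfPreserves Scheme.Spec
    (isColimitOfPreserves (Under.forget (CommRingCat.of R)) (isColimitNbhdCocone R K)).op
  have : _root_.CategoryTheory.IsConnected (NbhdCat R K)ᵒᵖ := IsCofiltered.isConnected _
  let aH : Spec (CommRingCat.of H) ⟶ V := Spec.map (CommRingCat.ofHom (algebraMap R H)) ≫ hB.fromSpec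
  let aN : ∀ M, T.obj M ⟶ V := fun M => Spec.map ((nbhdDiagram R K).obj M.unop).hom ≫ hB.fromSpec
  have haN : ∀ M, c.π.app M ≫ aN M = aH := fun M => by
    rw [← Category.assoc]
    exact congrArg (· ≫ hB.fromSpec) ((Spec.map_comp _ _).symm.trans
      (congrArg Spec.map (Under.w ((nbhdCocone R K).ι.app M.unop))))
  have hmapN : ∀ {M N} (f : M ⟶ N), T.map f ≫ aN N = aN M := fun {M N} f => by
    rw [← Category.assoc]
    exact congrArg (· ≫ hB.fromSpec) ((Spec.map_comp _ _).symm.trans
      (congrArg Spec.map (Under.w ((nbhdDiagram R K).map f.unop))))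
  have haE : ∀ M, Etale (aN M) := fun M => by
    have : Etale (Spec.map ((nbhdDiagram R K).obj M.unop).hom) := by
      show Etale (Spec.map (CommRingCat.ofHom (algebraMap R M.unop.N.B)))
      rw [HasRingHomProperty.Spec_iff (P := @Etale), CommRingCat.hom_ofHom, RingHom.etale_algebraMap]
      infer_instance
    exact inferInstanceAs (Etale (_ ≫ hB.fromSpec))
  -- the residue field
  let qK : Spec (V.residueField z) ⟶ Spec (CommRingCat.of H) :=
    Spec.map (CommRingCat.ofHom (Henz.proj R K).toRingHom : CommRingCat.of H ⟶ V.residueField z)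
  have hqK : qK ≫ aH = V.fromSpecResidueField z := by
    rw [← hφ, ← Category.assoc, ← Spec.map_comp]
    refine congrArg (Spec.map · ≫ hB.fromSpec) ?_
    ext r
    exact (Henz.proj R K).commutes r
  let θ : H ⧸ I ≃+* K := RingHom.quotientKerEquivOfSurjective hproj
  let qθ : Spec (CommRingCat.of (H ⧸ I)) ⟶ Spec (V.residueField z) :=
    Spec.map (CommRingCat.ofHom θ.symm.toRingHom : V.residueField z ⟶ CommRingCat.of (H ⧸ I))
  have hqθ : qθ ≫ qK = Spec.map (CommRingCat.ofHom (Ideal.Quotient.mk I)) := by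
    rw [← Spec.map_comp]
    congr 1
    ext x
    exact θ.symm_apply_eq.2 rfl
  let qθ' : Spec (V.residueField z) ⟶ Spec (CommRingCat.of (H ⧸ I)) :=
    Spec.map (CommRingCat.ofHom θ.toRingHom : CommRingCat.of (H ⧸ I) ⟶ V.residueField z)
  have hqθ' : qθ' ≫ Spec.map (CommRingCat.ofHom (Ideal.Quotient.mk I)) = qK := by
    rw [← Spec.map_comp]
    congr 1
  -- the section over the henselization
  let fH := pullback.snd F aH
  let πH := pullback.snd π (pullback.fst F aH)
  let q₀ := Spec.map (CommRingCat.ofHom (Ideal.Quotient.mk I))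
  let toP : pullback fH q₀ ⟶ P := hP.lift (pullback.fst fH q₀ ≫ pullback.fst F aH) (pullback.snd fH q₀ ≫ qθ) (by
    rw [Category.assoc, pullback.condition, pullback.condition_assoc, Category.assoc]
    show _ ≫ q₀ ≫ aH = _
    rw [← hqK]
    show _ ≫ q₀ ≫ aH = _ ≫ qθ ≫ qK ≫ aH
    rw [reassoc_of% hqθ])
  obtain ⟨σ, hσ, hσs⟩ := exists_lift_section I fH πH
    (pullback.lift (toP ≫ s) (pullback.fst fH q₀) (by rw [Category.assoc, hs, hP.lift_fst]))
    (pullback.lift_snd _ _ _)
  let a : pullback F aH ⟶ E := σ ≫ pullback.fst π (pullback.fst F aH)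
  have ha : a ≫ π = pullback.fst F aH := by rw [Category.assoc, pullback.condition, reassoc_of% hσ]
  have hsa : pullback.fst fH q₀ ≫ a = toP ≫ s := by
    rw [← Category.assoc, hσs, pullback.lift_fst]
  -- spreading out
  have : ∀ M, IsAffine (T.obj M) := fun M => inferInstanceAs (IsAffine (Spec _))
  have : ∀ {M N} (f : M ⟶ N), IsAffineHom (T.map f) := fun f => inferInstance
  obtain ⟨M, h₂, hh₂, hρ₂⟩ := exists_lift_stage T c hc F π aN hmapN aH haN a ha
  let v' := aN M
  have : Etale v' := haE _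
  let qH : Spec (V.residueField z) ⟶ c.pt := qK
  have hqH : qH ≫ aH = V.fromSpecResidueField z := hqK
  let q := qH ≫ c.π.app M
  have hq : q ≫ v' = V.fromSpecResidueField z := by rw [Category.assoc, haN]; exact hqH
  let l : P ⟶ pullback F v' := pullback.lift k (p ≫ q) (by rw [Category.assoc, hq]; exact hP.w)
  have hl : IsPullback l p (pullback.snd F v') q := by
    refine IsPullback.of_right ?_ (pullback.lift_snd _ _ _) (IsPullback.of_hasPullback F v')
    rw [pullback.lift_fst, hq]
    exact hP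
  let kH : P ⟶ pullback F aH := pullback.lift k (p ≫ qK) (by rw [Category.assoc, hqK]; exact hP.w)
  have hls : l ≫ h₂ = s := by
    let lam : P ⟶ pullback fH q₀ := pullback.lift kH (p ≫ qθ') (by
      rw [Category.assoc, hqθ']
      exact pullback.lift_snd _ _ _)
    have e₁ : lam ≫ pullback.fst fH q₀ = kH := pullback.lift_fst _ _ _
    have e₃ : lam ≫ toP = 𝟙 P := by
      apply hP.hom_ext
      · simp only [toP, Category.assoc, hP.lift_fst, Category.id_comp, lam, pullback.lift_fst_assoc, kH,
          pullback.lift_fst]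
      · simp only [toP, Category.assoc, hP.lift_snd, Category.id_comp, lam, pullback.lift_snd_assoc]
        rw [← Spec.map_comp]
        refine Eq.trans ?_ (Category.comp_id p)
        rw [← Spec.map_id]
        congr 2
        ext x
        exact θ.apply_symm_apply x
    have e₂ : kH ≫ pullback.lift (pullback.fst F aH) (pullback.snd F aH ≫ c.π.app M)
        (by rw [Category.assoc, haN, pullback.condition]) = l := by
      apply pullback.hom_ext
      · exact (Category.assoc _ _ _).trans ((congrArg (kH ≫ ·) (pullback.lift_fst _ _ _)).trans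
          ((pullback.lift_fst _ _ _).trans (pullback.lift_fst _ _ _).symm))
      · exact (Category.assoc _ _ _).trans ((congrArg (kH ≫ ·) (pullback.lift_snd _ _ _)).trans
          ((pullback.lift_snd_assoc _ _ _ _).trans ((Category.assoc _ _ _).trans (pullback.lift_snd _ _ _).symm)))
    rw [← e₂]
    refine (Category.assoc _ _ _).trans ((congrArg (kH ≫ ·) hρ₂).trans ?_)
    rw [← e₁, Category.assoc, hsa, reassoc_of% e₃]
  -- shrinking
  let bad := pullback.snd F v' '' (h₂ ⁻¹' (O : Set E))ᶜ
  have hbad : IsClosed bad :=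
    (pullback.snd F v').isClosedMap _ (O.isOpen.preimage h₂.continuous).isClosed_compl
  let V₂ : (T.obj M).Opens := ⟨badᶜ, hbad.isOpen_compl⟩
  have hqV : Set.range q ⊆ Set.range V₂.ι := by
    rintro _ ⟨t, rfl⟩
    rw [Scheme.Opens.range_ι]
    rintro ⟨x, hx, hxt⟩
    obtain ⟨b, rfl, -⟩ := Scheme.exists_preimage_of_isPullback hl x t hxt
    refine hx ?_
    show h₂ (l b) ∈ O
    rw [← Scheme.Hom.comp_apply, hls]
    exact hO b
  let v₂ := V₂.ι ≫ v'
  let j₂ : pullback F v₂ ⟶ pullback F v' :=
    pullback.lift (pullback.fst F v₂) (pullback.snd F v₂ ≫ V₂.ι) (by rw [Category.assoc, pullback.condition])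
  have hr : Set.range (j₂ ≫ h₂) ⊆ Set.range O.ι := by
    rintro _ ⟨x, rfl⟩
    rw [Scheme.Opens.range_ι, Scheme.Hom.comp_apply]
    by_contra hx
    refine (pullback.snd F v₂ x).2 ⟨j₂ x, hx, ?_⟩
    rw [← Scheme.Hom.comp_apply, pullback.lift_snd, Scheme.Hom.comp_apply]
    rfl
  refine ⟨V₂, v₂, inferInstance, IsOpenImmersion.lift O.ι (j₂ ≫ h₂) hr, ?_, fun b => ?_⟩
  · rw [IsOpenImmersion.lift_fac_assoc, Category.assoc, hh₂, pullback.lift_fst]
  · let q₂ := IsOpenImmersion.lift V₂.ι q hqV
    have hq₂ : q₂ ≫ V₂.ι = q := IsOpenImmersion.lift_fac _ _ _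
    let l₂ : P ⟶ pullback F v₂ := pullback.lift k (p ≫ q₂) (by
      rw [Category.assoc, reassoc_of% hq₂, hq]; exact hP.w)
    have hl₂ : l₂ ≫ j₂ = l := by
      apply pullback.hom_ext
      · simp only [j₂, Category.assoc, pullback.lift_fst, l₂, l]
      · simp only [j₂, Category.assoc, pullback.lift_snd, l₂, l, pullback.lift_snd_assoc, hq₂]
    refine ⟨l₂ b, ?_⟩
    rw [← Scheme.Hom.comp_apply, ← Scheme.Hom.comp_apply, IsOpenImmersion.lift_fac, ← Category.assoc, hl₂, hls]

/-- A section over a fibre of a proper morphism extends over an etale neighbourhood, for an etale separated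
scheme which need not be quasi-compact. -/
theorem exists_split_proper_sep {X V E P : Scheme.{u}} (F : X ⟶ V) [IsProper F] [LocallyOfFinitePresentation F]
    (π : E ⟶ X) [Etale π] [IsSeparated π] (z : V) {k : P ⟶ X}
    {p : P ⟶ Spec (V.residueField z)} (hP : IsPullback k p F (V.fromSpecResidueField z)) (O : E.Opens)
    (s : P ⟶ E) (hs : s ≫ π = k) (hO : ∀ a, s a ∈ O) :
    ∃ (V₂ : Scheme.{u}) (v₂ : V₂ ⟶ V) (_ : Etale v₂) (h : pullback F v₂ ⟶ O.toScheme),
      h ≫ O.ι ≫ π = pullback.fst _ _ ∧ ∀ a, ∃ x, O.ι (h x) = s a := by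
  obtain ⟨B, hB, hz, -⟩ := exists_isAffineOpen_mem_and_subset (U := (⊤ : V.Opens)) (x := z) trivial
  let A : X.Opens := F ⁻¹ᵁ B
  have : IsProper p := MorphismProperty.of_isPullback hP inferInstance
  have : CompactSpace P := QuasiCompact.compactSpace_of_compactSpace p
  have hA : IsCompact (A : Set X) := QuasiCompact.isCompact_preimage (B : Set V) B.isOpen hB.isCompact
  have : IsAffine (B : Scheme.{u}) := hB
  have : QuasiSeparatedSpace A.toScheme := quasiSeparatedSpace_of_quasiSeparated (F ∣_ B)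
  let C : E.Opens := O ⊓ π ⁻¹ᵁ A
  have hsC : Set.range s ⊆ C := by
    rintro _ ⟨a, rfl⟩
    refine ⟨hO a, ?_⟩
    show F (π (s a)) ∈ B
    rw [← Scheme.Hom.comp_apply, ← Scheme.Hom.comp_apply, reassoc_of% hs, hP.w, Scheme.Hom.comp_apply,
      Scheme.fromSpecResidueField_apply]
    exact hz
  obtain ⟨O', hO'c, hsO', hO'C⟩ : ∃ O' : E.Opens, IsCompact (O' : Set E) ∧ Set.range s ⊆ O' ∧ O' ≤ C := by
    classical
    have h1 : ∀ a, ∃ U : E.Opens, IsAffineOpen U ∧ s a ∈ U ∧ (U : Set E) ⊆ C := fun a =>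
      exists_isAffineOpen_mem_and_subset (hsC ⟨a, rfl⟩)
    choose U hU hmem hUC using h1
    obtain ⟨t, ht⟩ := (isCompact_range s.continuous).elim_finite_subcover (fun a => (U a : Set E))
      (fun a => (U a).isOpen) (by rintro _ ⟨a, rfl⟩; exact Set.mem_iUnion.2 ⟨a, hmem a⟩)
    have e : ((⨆ a ∈ t, U a : E.Opens) : Set E) = ⋃ a ∈ t, (U a : Set E) := by simp
    refine ⟨⨆ a ∈ t, U a, ?_, e.symm ▸ ht, iSup₂_le fun a _ => hUC a⟩
    rw [e]
    exact t.finite_toSet.isCompact_biUnion fun a _ => (hU a).isCompact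
  have : CompactSpace O'.toScheme := isCompact_iff_compactSpace.1 hO'c
  let π' : O'.toScheme ⟶ X := O'.ι ≫ π
  have hπA : Set.range π' ⊆ Set.range A.ι := by
    rintro _ ⟨x, rfl⟩
    rw [Scheme.Opens.range_ι]
    exact (hO'C x.2).2
  -- everything happens over `B`
  let s' : P ⟶ O'.toScheme := IsOpenImmersion.lift O'.ι s (by rwa [Scheme.Opens.range_ι])
  have hs' : s' ≫ O'.ι = s := IsOpenImmersion.lift_fac _ _ _
  let π'' : O'.toScheme ⟶ A.toScheme := IsOpenImmersion.lift A.ι π' hπA
  have hπ'' : π'' ≫ A.ι = π' := IsOpenImmersion.lift_fac _ _ _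
  have : Etale (π'' ≫ A.ι) := by rw [hπ'']; infer_instance
  have : Etale π'' := MorphismProperty.of_postcomp (W := @Etale) (W' := @Etale) π'' A.ι inferInstance this
  have : IsSeparated (π'' ≫ A.ι) := by rw [hπ'']; infer_instance
  have : IsSeparated π'' := IsSeparated.of_comp π'' A.ι
  have : QuasiCompact π'' := quasiCompact_of_compactSpace π''
  let zB : (B : Scheme.{u}) := ⟨z, hz⟩
  have sqA : IsPullback A.ι (F ∣_ B) F B.ι := (isPullback_morphismRestrict F B).flip
  let sqz := AlgebraicGeometry.Scheme.Hom.residueFieldMap B.ι zB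
  let θ : Spec (B.toScheme.residueField zB) ⟶ Spec (V.residueField z) := Spec.map sqz
  have hθ : θ ≫ V.fromSpecResidueField z = B.toScheme.fromSpecResidueField zB ≫ B.ι :=
    Scheme.Hom.SpecMap_residueFieldMap_fromSpecResidueField B.ι zB
  have : IsIso θ := inferInstanceAs (IsIso (Spec.map (B.ι.residueFieldMap zB)))
  let k' : P ⟶ A.toScheme := s' ≫ π''
  have hk' : k' ≫ A.ι = k := by rw [Category.assoc, hπ'']; simp only [π', reassoc_of% hs', hs]
  have hP' : IsPullback k' (p ≫ inv θ) (F ∣_ B) (B.toScheme.fromSpecResidueField zB) := by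
    have hrest : IsPullback k (p ≫ inv θ) F (θ ≫ V.fromSpecResidueField z) :=
      hP.of_iso (Iso.refl _) (Iso.refl _) (asIso θ).symm (Iso.refl _) (by simp) (by simp) (by simp) (by simp)
    rw [hθ] at hrest
    refine IsPullback.of_right (by rw [hk']; exact hrest) ?_ sqA
    rw [← cancel_mono B.ι, Category.assoc, ← sqA.w, reassoc_of% hk', Category.assoc, ← hθ, hP.w,
      Category.assoc, IsIso.inv_hom_id_assoc]
  obtain ⟨V₂, v₂, hv₂, h, hh, hx⟩ :=
    exists_split_proper (F ∣_ B) π'' zB hP' ⊤ s' rfl fun _ => trivial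
  let e : pullback F (v₂ ≫ B.ι) ⟶ pullback (F ∣_ B) v₂ :=
    pullback.lift (sqA.lift (pullback.fst _ _) (pullback.snd _ _ ≫ v₂) (by rw [pullback.condition, Category.assoc]))
      (pullback.snd _ _) (sqA.lift_snd _ _ _)
  let r : O'.toScheme ⟶ O.toScheme := E.homOfLE (hO'C.trans inf_le_left)
  refine ⟨V₂, v₂ ≫ B.ι, inferInstance, e ≫ h ≫ Scheme.Opens.ι _ ≫ r, ?_, fun a => ?_⟩
  · rw [Category.assoc, Category.assoc, Category.assoc, Scheme.homOfLE_ι_assoc]
    show e ≫ h ≫ Scheme.Opens.ι _ ≫ π' = _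
    rw [← hπ'', reassoc_of% hh, pullback.lift_fst_assoc, sqA.lift_fst]
  · obtain ⟨x, hx⟩ := hx a
    let e' : pullback (F ∣_ B) v₂ ⟶ pullback F (v₂ ≫ B.ι) :=
      pullback.lift (pullback.fst _ _ ≫ A.ι) (pullback.snd _ _) (by
        rw [Category.assoc, sqA.w, pullback.condition_assoc])
    have he : e' ≫ e = 𝟙 _ := by
      apply pullback.hom_ext
      · apply sqA.hom_ext
        · simp [e, e']
        · simp [e, e', pullback.condition]
      · simp [e, e']
    refine ⟨e' x, ?_⟩
    rw [← Scheme.Hom.comp_apply e', reassoc_of% he, ← Scheme.Hom.comp_apply]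
    simp only [Category.assoc, r, Scheme.homOfLE_ι]
    rw [Scheme.Hom.comp_apply, Scheme.Hom.comp_apply, hx, ← Scheme.Hom.comp_apply, hs']

variable {S S' : Scheme.{u}} {g : S' ⟶ S} {D : SchDDFam (fun _ : PUnit.{1} => g)}

theorem canSplit_of_proper [IsProper g] [LocallyOfFinitePresentation g] : CanSplit g := by
  intro V j _ z P k p hP E π _ _ O s hs hO a₀
  obtain ⟨V₂, v₂, hv₂, h, hh, hx⟩ := exists_split_proper_sep (pullback.fst j g) π z hP O s hs hO
  exact ⟨V₂, v₂, hv₂, h, hh, hx a₀⟩

/-- Effectivity of etale descent along proper surjective morphisms of finite presentation. -/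
theorem exists_repBy_of_proper [IsProper g] [LocallyOfFinitePresentation g] [Surjective g]
    [Etale (D.obj PUnit.unit).hom] [QuasiCompact (D.obj PUnit.unit).hom] [IsSeparated (D.obj PUnit.unit).hom] :
    ∃ U : Over S, QuasiCompact U.hom ∧ IsSeparated U.hom ∧ Etale U.hom ∧ RepBy D U :=
  exists_repBy_of_charts (univSubmersive_of_universallyClosed g) (hasCharts_of_canSplit canSplit_of_proper)

end Groth.Agent.SchDesc82
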