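import Groth.Agent.SchDesc82.Glue

/-!
# Etale schemes representing compatible families: uniqueness, restriction, effectivity, base change
-/

universe w' w u

set_option autoImplicit false
set_option backward.isDefEq.respectTransparency false
set_option backward.isDefEq.respectTransparency.types false

open CategoryTheory CategoryTheory.Limits AlgebraicGeometry Opposite Desc

namespace Groth.Agent.SchDesc82

open DescLib

section general

variable {S : Scheme.{u}} {ι : Type w} {X : ι → Scheme.{u}} {f : ∀ i, X i ⟶ S}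

/-- `U` represents the functor of compatible families. -/
def RepBy (D : SchDDFam f) (U : Over S) : Prop :=
  ∃ c₀ : Compat D U.hom, ∀ ⦃T : Scheme.{u}⦄ (s : T ⟶ S) (c : Compat D s),
    ∃! p : Lifts U s, c₀.res p.1 s p.2 = c

/-- `U` represents the functor of compatible families restricted along `j`. -/
def RepByOn (D : SchDDFam f) {S' : Scheme.{u}} (j : S' ⟶ S) (U : Over S') : Prop :=
  ∃ c₀ : Compat D (U.hom ≫ j), ∀ ⦃T : Scheme.{u}⦄ (x : T ⟶ S') (c : Compat D (x ≫ j)),
    ∃! p : Lifts U x, c₀.res p.1 (x ≫ j) (by rw [← Category.assoc, p.2]) = c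

variable {D : SchDDFam f}

theorem RepBy.rep {U : Over S} (h : RepBy D U) : Rep D := ⟨U, h⟩

theorem RepByOn.repOn {S' : Scheme.{u}} {j : S' ⟶ S} {U : Over S'} (h : RepByOn D j U) : RepOn D j :=
  ⟨U, h⟩

theorem exists_repBy (h : Rep D) : ∃ U, RepBy D U := h

theorem RepBy.of_iso {D' : SchDDFam f} {U : Over S} (h : RepBy D U) (I : D ≅ D') : RepBy D' U := by
  obtain ⟨c₀, hu⟩ := h
  refine ⟨c₀.map I.hom, fun T s c => ?_⟩
  obtain ⟨p, hp, huniq⟩ := hu s (c.map I.inv)
  refine ⟨p, ?_, fun q hq => huniq q ?_⟩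
  · simp only [← Compat.map_res, hp, Compat.map_map, I.inv_hom_id, Compat.map_id]
  · simp only [← hq, Compat.map_res, Compat.map_map, I.hom_inv_id, Compat.map_id]

/-- Representing schemes are unique. -/
theorem RepByOn.unique {S' : Scheme.{u}} {j : S' ⟶ S} {U U' : Over S'} (h : RepByOn D j U)
    (h' : RepByOn D j U') : Nonempty (U ≅ U') := by
  obtain ⟨c₀, hu⟩ := h
  obtain ⟨d₀, hu'⟩ := h'
  obtain ⟨p, hp, -⟩ := hu' U.hom c₀
  obtain ⟨q, hq, -⟩ := hu U'.hom d₀
  let a : U ⟶ U' := Over.homMk p.1 p.2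
  let b : U' ⟶ U := Over.homMk q.1 q.2
  have e₁ : p.1 ≫ q.1 = 𝟙 _ := congrArg Subtype.val ((hu U.hom c₀).unique
    (y₁ := ⟨p.1 ≫ q.1, by rw [Category.assoc, q.2, p.2]⟩) (y₂ := ⟨𝟙 _, Category.id_comp _⟩)
    ((Compat.res_res c₀ q.1 _ (by rw [← Category.assoc, q.2]) p.1 _ (by rw [← Category.assoc, p.2]) _ rfl
      (by rw [Category.assoc, ← Category.assoc q.1, q.2, ← Category.assoc, p.2])).symm.trans
      ((congrArg (fun z : Compat D (U'.hom ≫ j) => z.res p.1 (U.hom ≫ j) (by rw [← Category.assoc, p.2])) hq).trans hp))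
    (Compat.res_id _ _))
  have e₂ : q.1 ≫ p.1 = 𝟙 _ := congrArg Subtype.val ((hu' U'.hom d₀).unique
    (y₁ := ⟨q.1 ≫ p.1, by rw [Category.assoc, p.2, q.2]⟩) (y₂ := ⟨𝟙 _, Category.id_comp _⟩)
    ((Compat.res_res d₀ p.1 _ (by rw [← Category.assoc, p.2]) q.1 _ (by rw [← Category.assoc, q.2]) _ rfl
      (by rw [Category.assoc, ← Category.assoc p.1, p.2, ← Category.assoc, q.2])).symm.trans
      ((congrArg (fun z : Compat D (U.hom ≫ j) => z.res q.1 (U'.hom ≫ j) (by rw [← Category.assoc, q.2])) hp).trans hq))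
    (Compat.res_id _ _))
  exact ⟨⟨a, b, Over.OverMorphism.ext e₁, Over.OverMorphism.ext e₂⟩⟩

theorem RepByOn.of_iso_right {S' : Scheme.{u}} {j : S' ⟶ S} {U U' : Over S'} (h : RepByOn D j U)
    (I : U ≅ U') : RepByOn D j U' := by
  obtain ⟨c₀, hu⟩ := h
  refine ⟨c₀.res I.inv.left (U'.hom ≫ j) (by rw [← Category.assoc, Over.w]), fun T x c => ?_⟩
  obtain ⟨p, hp, huniq⟩ := hu x c
  have hinv : I.hom.left ≫ I.inv.left = 𝟙 _ := congr($(I.hom_inv_id).left)
  have hinv' : I.inv.left ≫ I.hom.left = 𝟙 _ := congr($(I.inv_hom_id).left)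
  refine ⟨⟨p.1 ≫ I.hom.left, by rw [Category.assoc, Over.w, p.2]⟩, ?_, fun q hq => ?_⟩
  · exact (Compat.res_res _ _ _ _ _ _ _ p.1 (by simp [hinv]) _).trans hp
  · refine Subtype.ext ?_
    have hq' : (q.1 ≫ I.inv.left) ≫ U.hom = x := by rw [Category.assoc, Over.w]; exact q.2
    have := huniq ⟨_, hq'⟩ ((Compat.res_res _ _ _ _ _ _ _ _ rfl _).symm.trans hq)
    show q.1 = p.1 ≫ I.hom.left
    rw [← congrArg Subtype.val this]
    simp [hinv']

/-- Restriction of a representing scheme. -/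
theorem RepBy.restrict {U : Over S} (h : RepBy D U) {S' : Scheme.{u}} (j : S' ⟶ S) :
    RepByOn D j (Over.mk (pullback.snd U.hom j)) := by
  obtain ⟨c₀, hu⟩ := h
  refine ⟨c₀.res (pullback.fst U.hom j) _ pullback.condition, fun T x c => ?_⟩
  obtain ⟨p, hp, huniq⟩ := hu (x ≫ j) c
  refine ⟨⟨pullback.lift p.1 x p.2, pullback.lift_snd _ _ _⟩, ?_, fun q hq => ?_⟩
  · exact (Compat.res_res _ _ _ _ _ _ _ p.1 (pullback.lift_fst _ _ _) p.2).trans hp
  · refine Subtype.ext (pullback.hom_ext ?_ ?_)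
    · rw [pullback.lift_fst]
      have hq' : (q.1 ≫ pullback.fst U.hom j) ≫ U.hom = x ≫ j := by
        rw [Category.assoc, pullback.condition, ← Category.assoc]
        exact congrArg (· ≫ j) q.2
      exact congrArg Subtype.val (huniq ⟨_, hq'⟩ ((Compat.res_res _ _ _ _ _ _ _ _ rfl _).symm.trans hq))
    · rw [pullback.lift_snd]; exact q.2

theorem RepBy.repByOn_id {U : Over S} (h : RepBy D U) : RepByOn D (𝟙 S) U := by
  obtain ⟨V, c₀, hu⟩ := repOn_of_rep h.rep
  refine (h.restrict (𝟙 S)).of_iso_right ?_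
  exact Over.isoMk (asIso (pullback.fst U.hom (𝟙 S))) (by
    show pullback.fst U.hom (𝟙 S) ≫ U.hom = pullback.snd U.hom (𝟙 S)
    rw [pullback.condition, Category.comp_id])

theorem RepBy.unique {U U' : Over S} (h : RepBy D U) (h' : RepBy D U') : Nonempty (U ≅ U') :=
  h.repByOn_id.unique h'.repByOn_id

/-- A representing scheme descends the datum. -/
theorem RepBy.effective {U : Over S} (h : RepBy D U) : Nonempty ((toDDFam f).obj U ≅ D) := by
  obtain ⟨c₀, hu⟩ := h
  have hl : ∀ {i : ι} {T : Scheme.{u}} (y : T ⟶ X i) (v : Lifts (((toDDFam f).obj U).obj i) y),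
      (v.1 ≫ pullback.snd (f i) U.hom) ≫ U.hom = y ≫ f i := fun {i T} y v => by
    have e : v.1 ≫ pullback.fst (f i) U.hom = y := v.2
    rw [Category.assoc, ← pullback.condition, ← Category.assoc, e]
  have he : ∀ {i : ι} {T : Scheme.{u}} (y : T ⟶ X i), y ≫ f i = 𝟙 T ≫ y ≫ f i :=
    fun y => (Category.id_comp _).symm
  let e : ∀ (i : ι) ⦃T : Scheme.{u}⦄ (y : T ⟶ X i),
      Lifts (((toDDFam f).obj U).obj i) y ≃ Lifts (D.obj i) y := fun i T y =>
    { toFun := fun v => (c₀.res (v.1 ≫ pullback.snd (f i) U.hom) (y ≫ f i) (hl y v)).pt (𝟙 T) y (he y)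
      invFun := fun a => ⟨pullback.lift y (hu _ (Compat.ofPoint D a (y ≫ f i) rfl)).choose.1
          (hu _ (Compat.ofPoint D a (y ≫ f i) rfl)).choose.2.symm, pullback.lift_fst _ _ _⟩
      left_inv := fun v => Subtype.ext (pullback.hom_ext (by
          rw [pullback.lift_fst]; exact v.2.symm) (by
          rw [pullback.lift_snd]
          refine congrArg Subtype.val ((hu _ _).choose_spec.2 ⟨_, hl y v⟩ ?_).symm
          exact (Compat.eq_ofPoint (c₀.res (v.1 ≫ pullback.snd (f i) U.hom) (y ≫ f i) (hl y v)) y (he y)).symm))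
      right_inv := fun a => Subtype.ext (by
        have hp := (hu _ (Compat.ofPoint D a (y ≫ f i) rfl)).choose_spec.1
        refine Eq.trans ?_ (Compat.ofPoint_pt_self a rfl (he y))
        rw [← hp]
        exact c₀.pt_congr (by rw [pullback.lift_snd]) rfl _ _) }
  obtain ⟨I, -⟩ := exists_iso_of_points (A := (toDDFam f).obj U) (B := D) e
    (fun i T T' g x y hy v v' hv => by
      refine c₀.nat g _ x _ _ y ?_ hy _
      rw [hv]; simp)
    (fun T i k x₀ x₁ h v => by
      refine (c₀.comp (𝟙 T ≫ v.1 ≫ pullback.snd (f i) U.hom) x₀ x₁ _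
        (by rw [Category.id_comp, hl x₀ v, h])).trans (Subtype.ext (c₀.pt_congr ?_ rfl _ _))
      simp [toDDFam, canonicalDDFam])
  exact ⟨I⟩

end general

section one

variable {S X : Scheme.{u}} {g : X ⟶ S}

/-- The canonical datum of an etale scheme is represented by it, for a universally submersive morphism. -/
theorem repBy_canonical (hg : SGA1.UnivSubmersive g) (U : Over S) [Etale U.hom] :
    RepBy ((toDDFam (fun _ : PUnit.{w + 1} => g)).obj U) U := by
  refine ⟨{ pt := fun T t i y h => ⟨pullback.lift y t h, pullback.lift_fst _ _ _⟩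
            nat := fun T T' m t i y h t' y' hg hy h' => pullback.hom_ext (by simp [hy]) (by simp [hg])
            comp := fun T t i k y y' h h' => Subtype.ext (pullback.hom_ext
              (by simp [toDDFam, canonicalDDFam]) (by simp [toDDFam, canonicalDDFam])) }, fun T s c => ?_⟩
  have hind : ∀ {T' : Scheme.{u}} (t : T' ⟶ T) (y y' : T' ⟶ X) (h : y ≫ g = t ≫ s) (h' : y' ≫ g = t ≫ s),
      (c.pt (i := PUnit.unit) t y h).1 ≫ pullback.snd g U.hom =
        (c.pt (i := PUnit.unit) t y' h').1 ≫ pullback.snd g U.hom := by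
    intro T' t y y' h h'
    rw [← c.comp (i := PUnit.unit) (k := PUnit.unit) t y y' h h']
    simp [toDDFam, canonicalDDFam]
  have hh : SGA1.UnivSubmersive (pullback.fst s g) :=
    SGA1Q.univSubmersive_of_isPullback hg (IsPullback.of_hasPullback s g)
  let v := c.pt (i := PUnit.unit) (pullback.fst s g) (pullback.snd s g) pullback.condition.symm
  have hov : ∀ {T' : Scheme.{u}} (t : T' ⟶ T) (y : T' ⟶ X) (h : y ≫ g = t ≫ s),
      ((c.pt (i := PUnit.unit) t y h).1 ≫ pullback.snd g U.hom) ≫ U.hom = t ≫ s := fun t y h => by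
    rw [Category.assoc, ← pullback.condition, ← Category.assoc,
      show (c.pt (i := PUnit.unit) t y h).1 ≫ pullback.fst g U.hom = y from (c.pt t y h).2, h]
  obtain ⟨a, ⟨ha₁, ha₂⟩, -⟩ := existsUnique_lift hh U.hom s (v.1 ≫ pullback.snd g U.hom)
    (hov _ _ _) (fun Z p q e => by
      have hp : (p ≫ pullback.snd s g) ≫ g = (p ≫ pullback.fst s g) ≫ s := by
        simp only [Category.assoc, pullback.condition]
      have hq : (q ≫ pullback.snd s g) ≫ g = (p ≫ pullback.fst s g) ≫ s := by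
        rw [e]; simp only [Category.assoc, pullback.condition]
      rw [← Category.assoc, ← Category.assoc, ← c.nat p _ _ pullback.condition.symm _ _ rfl rfl hp,
        ← c.nat q _ _ pullback.condition.symm _ _ e.symm rfl hq]
      exact hind _ _ _ _ _)
  refine ⟨⟨a, ha₁⟩, Compat.ext fun T' t i y hy => pullback.hom_ext ?_ ?_, fun q hq => Subtype.ext ?_⟩
  · exact (pullback.lift_fst _ _ _).trans (c.pt t y hy).2.symm
  · refine (pullback.lift_snd _ _ _).trans ?_
    have e := congrArg (pullback.lift t y hy.symm ≫ ·) ha₂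
    simp only [pullback.lift_fst_assoc] at e
    rw [e, ← Category.assoc, ← c.nat (pullback.lift t y hy.symm) _ _ pullback.condition.symm t y
      (pullback.lift_fst _ _ _) (pullback.lift_snd _ _ _) hy]
  · refine hom_ext_lift hh U.hom (q.2.trans ha₁.symm) ?_
    rw [ha₂]
    have := congrArg (fun d : Compat _ s => (d.pt (i := PUnit.unit) (pullback.fst s g) (pullback.snd s g)
      pullback.condition.symm).1 ≫ pullback.snd g U.hom) hq
    exact (pullback.lift_snd _ _ _).symm.trans this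

/-- An etale effective datum is represented. -/
theorem repBy_of_effective (hg : SGA1.UnivSubmersive g) {D : SchDDFam (fun _ : PUnit.{w + 1} => g)}
    (U : Over S) [Etale U.hom] (I : (toDDFam (fun _ : PUnit.{w + 1} => g)).obj U ≅ D) : RepBy D U :=
  (repBy_canonical hg U).of_iso I

variable {D : SchDDFam (fun _ : PUnit.{w + 1} => g)}
  {S' X' : Scheme.{u}} {g' : X' ⟶ S'} {j : S' ⟶ S} {k : X' ⟶ X}

/-- A compatible family over `X`-points is spanned by any of its values. -/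
theorem res_eq_ofPoint {T T' : Scheme.{u}} {s : T ⟶ S} (c : Compat D s) (h : T' ⟶ T) (s' : T' ⟶ S)
    (hs : h ≫ s = s') (y : T' ⟶ X) (hy : y ≫ g = h ≫ s) :
    c.res h s' hs = Compat.ofPoint D (i := PUnit.unit) (c.pt h y hy) s' (hy.trans hs) := by
  refine ((c.res h s' hs).eq_ofPoint (i := PUnit.unit) y (by rw [Category.id_comp, hy, hs])).symm.trans ?_
  congr 1

variable (w : ∀ _ : PUnit.{w' + 1}, k ≫ g = g' ≫ j)

/-- The pulled back datum is again etale. -/
theorem etale_pull [Etale (D.obj PUnit.unit).hom] (i : PUnit.{w' + 1}) :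
    Etale (((pullDDFam (f := fun _ : PUnit.{w + 1} => g) (f' := fun _ : PUnit.{w' + 1} => g')
      (α := fun _ => PUnit.unit) (p' := fun _ => k) w).obj D).obj i).hom :=
  inferInstanceAs (Etale (pullback.snd (D.obj PUnit.unit).hom k))

variable [Etale (D.obj PUnit.unit).hom] (hg' : SGA1.UnivSubmersive g') {T : Scheme.{u}} {x : T ⟶ S'}
  {s : T ⟶ S} (hs : x ≫ j = s)

include hg' in
theorem pull_injective : Function.Injective (Compat.pull (D := D) (α := fun _ => PUnit.unit) w hs) := by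
  intro c c' e
  have hh : SGA1.UnivSubmersive (pullback.fst x g') :=
    SGA1Q.univSubmersive_of_isPullback hg' (IsPullback.of_hasPullback x g')
  have : ∀ i, Etale (D.obj i).hom := fun _ => ‹_›
  refine compat_ext hh ?_
  have hy : (pullback.snd x g' ≫ k) ≫ g = pullback.fst x g' ≫ s := by
    rw [Category.assoc, w PUnit.unit, ← Category.assoc, ← pullback.condition, Category.assoc, hs]
  rw [res_eq_ofPoint c _ _ rfl _ hy, res_eq_ofPoint c' _ _ rfl _ hy]
  congr 1
  have := congrArg (fun q => liftsPullbackEquiv (D.obj PUnit.unit) k (pullback.snd x g')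
    (q.pt (i := PUnit.unit) (pullback.fst x g') (pullback.snd x g') pullback.condition.symm)) e
  simpa only [Compat.pull, Equiv.apply_symm_apply] using this

include hg' in
theorem pull_surjective : Function.Surjective (Compat.pull (D := D) (α := fun _ => PUnit.unit) w hs) := by
  intro c'
  have hh : SGA1.UnivSubmersive (pullback.fst x g') :=
    SGA1Q.univSubmersive_of_isPullback hg' (IsPullback.of_hasPullback x g')
  have : ∀ i, Etale (D.obj i).hom := fun _ => ‹_›
  have := etale_pull (D := D) w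
  let F := pullback.fst x g'
  let z₀ := pullback.snd x g'
  let b := liftsPullbackEquiv (D.obj PUnit.unit) k z₀ (c'.pt (i := PUnit.unit) F z₀ pullback.condition.symm)
  have hy : (z₀ ≫ k) ≫ g = F ≫ s := by
    rw [Category.assoc, w PUnit.unit, ← Category.assoc, ← pullback.condition, Category.assoc, hs]
  let c₁ : Compat D (F ≫ s) := Compat.ofPoint D (i := PUnit.unit) b (F ≫ s) hy
  obtain ⟨c, hc⟩ := compat_glue hh (F ≫ s) rfl c₁ fun Z p q sz hp hq e => by
    have hyz : ((p ≫ z₀) ≫ k) ≫ g = 𝟙 Z ≫ sz := by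
      rw [Category.id_comp, Category.assoc p, Category.assoc, hy, hp]
    rw [← (c₁.res q sz hq).eq_ofPoint (i := PUnit.unit) ((p ≫ z₀) ≫ k) hyz,
      ← (c₁.res p sz hp).eq_ofPoint (i := PUnit.unit) ((p ≫ z₀) ≫ k) hyz]
    congr 1
    have hpF : (p ≫ z₀) ≫ g' = (p ≫ F) ≫ x := by simp only [Category.assoc, F, z₀, pullback.condition]
    have hqF : (q ≫ z₀) ≫ g' = (p ≫ F) ≫ x := by
      rw [e]; simp only [Category.assoc, F, z₀, pullback.condition]
    have val : ∀ (r : Z ⟶ pullback x g') (hr : r ≫ F = p ≫ F) (hrz : (r ≫ z₀) ≫ g' = (p ≫ F) ≫ x)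
        (hr' : (r ≫ z₀ ≫ k) ≫ g = ((p ≫ z₀) ≫ k) ≫ g),
        D.φ (i := PUnit.unit) (j := PUnit.unit) (r ≫ z₀ ≫ k) ((p ≫ z₀) ≫ k) hr'
          ⟨r ≫ b.1, by rw [Category.assoc, b.2]⟩ =
        liftsPullbackEquiv (D.obj PUnit.unit) k (p ≫ z₀) (c'.pt (i := PUnit.unit) (p ≫ F) (p ≫ z₀) hpF) := by
      intro r hr hrz hr'
      have hb : r ≫ b.1 = (liftsPullbackEquiv (D.obj PUnit.unit) k (r ≫ z₀)
          (c'.pt (i := PUnit.unit) (p ≫ F) (r ≫ z₀) hrz)).1 :=
        (lpe_natural (D.obj PUnit.unit) k r z₀ (r ≫ z₀) _ _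
          (c'.nat r F z₀ pullback.condition.symm (p ≫ F) (r ≫ z₀) hr rfl hrz)).symm
      have key : ∀ (y : Z ⟶ X) (hy₁ : y = (r ≫ z₀) ≫ k) (h₁ : y ≫ g = ((p ≫ z₀) ≫ k) ≫ g)
          (b' : Lifts (D.obj PUnit.unit) y),
          b'.1 = (liftsPullbackEquiv (D.obj PUnit.unit) k (r ≫ z₀)
            (c'.pt (i := PUnit.unit) (p ≫ F) (r ≫ z₀) hrz)).1 →
          D.φ (i := PUnit.unit) (j := PUnit.unit) y ((p ≫ z₀) ≫ k) h₁ b' =
            liftsPullbackEquiv (D.obj PUnit.unit) k (p ≫ z₀) (c'.pt (i := PUnit.unit) (p ≫ F) (p ≫ z₀) hpF) := by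
        rintro y rfl h₁ b' hb'
        rw [Subtype.ext hb', ← c'.comp (i := PUnit.unit) (k := PUnit.unit) (p ≫ F) (r ≫ z₀) (p ≫ z₀) hrz hpF]
        simp only [pullDDFam, pullDDFamObj, Equiv.trans_apply, Equiv.apply_symm_apply]
      exact key _ (Category.assoc _ _ _).symm _ _ hb
    have v1 : ∀ (r : Z ⟶ pullback x g') (hr : r ≫ F = p ≫ F) (hrz : (r ≫ z₀) ≫ g' = (p ≫ F) ≫ x)
        (hr' : r ≫ F ≫ s = sz), (c₁.res r sz hr').pt (i := PUnit.unit) (𝟙 Z) ((p ≫ z₀) ≫ k) hyz =
          liftsPullbackEquiv (D.obj PUnit.unit) k (p ≫ z₀) (c'.pt (i := PUnit.unit) (p ≫ F) (p ≫ z₀) hpF) := by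
      intro r hr hrz hr'
      have h₁ : (r ≫ z₀ ≫ k) ≫ g = ((p ≫ z₀) ≫ k) ≫ g := by
        rw [hyz, Category.id_comp, Category.assoc, hy, hr']
      refine Eq.trans ?_ (val r hr hrz h₁)
      refine Subtype.ext ?_
      show (D.φ ((𝟙 Z ≫ r) ≫ z₀ ≫ k) ((p ≫ z₀) ≫ k) _ ⟨(𝟙 Z ≫ r) ≫ b.1, _⟩).1 = _
      have kk : ∀ (r' : Z ⟶ pullback x g') (_ : r' = r) (h₂ : (r' ≫ z₀ ≫ k) ≫ g = ((p ≫ z₀) ≫ k) ≫ g),
          (D.φ (i := PUnit.unit) (j := PUnit.unit) (r' ≫ z₀ ≫ k) ((p ≫ z₀) ≫ k) h₂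
            ⟨r' ≫ b.1, by rw [Category.assoc, b.2]⟩).1 =
          (D.φ (i := PUnit.unit) (j := PUnit.unit) (r ≫ z₀ ≫ k) ((p ≫ z₀) ≫ k) h₁
            ⟨r ≫ b.1, by rw [Category.assoc, b.2]⟩).1 := by
        rintro r' rfl h₂; rfl
      exact kk _ (Category.id_comp r) _
    rw [v1 p rfl hpF hp, v1 q e.symm hqF hq]
  refine ⟨c, compat_ext hh ?_⟩
  have hz : z₀ ≫ g' = 𝟙 _ ≫ F ≫ x := by rw [Category.id_comp]; exact pullback.condition.symm
  rw [← ((c.pull (α := fun _ => PUnit.unit) w hs).res F (F ≫ x) rfl).eq_ofPoint (i := PUnit.unit) z₀ hz,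
    ← (c'.res F (F ≫ x) rfl).eq_ofPoint (i := PUnit.unit) z₀ hz]
  congr 1
  apply (liftsPullbackEquiv (D.obj PUnit.unit) k z₀).injective
  simp only [Compat.res_pt, Compat.pull, Equiv.apply_symm_apply]
  refine Subtype.ext ?_
  have e₁ : ((c.res F (F ≫ s) rfl).pt (i := PUnit.unit) (𝟙 _) (z₀ ≫ k) (by rw [Category.id_comp]; exact hy)).1
      = b.1 := by
    rw [hc]
    exact Compat.ofPoint_pt_self b hy _
  refine Eq.trans ?_ (e₁.trans (congrArg (fun q => q.1 ≫ pullback.fst (D.obj PUnit.unit).hom k)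
    (Subtype.ext (c'.pt_congr (Category.id_comp F).symm rfl _ _) :
      c'.pt (i := PUnit.unit) F z₀ pullback.condition.symm = c'.pt (𝟙 _ ≫ F) z₀ (by rw [Category.assoc]; exact hz))))
  rfl

include hg' in
/-- Representability transfers along base change. -/
theorem repBy_pull_iff (U : Over S') :
    RepBy ((pullDDFam (f := fun _ : PUnit.{w + 1} => g) (f' := fun _ : PUnit.{w' + 1} => g')
      (α := fun _ => PUnit.unit) (p' := fun _ => k) w).obj D) U ↔ RepByOn D j U := by
  have hj : ∀ {T : Scheme.{u}} (x : T ⟶ S') (q : Lifts U x), q.1 ≫ U.hom ≫ j = x ≫ j :=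
    fun x q => by rw [← Category.assoc, q.2]
  constructor
  · rintro ⟨c', hu⟩
    obtain ⟨c₀, rfl⟩ := pull_surjective w hg' (x := U.hom) rfl c'
    refine ⟨c₀, fun T x c => ?_⟩
    obtain ⟨p, hp, huniq⟩ := hu x (c.pull (α := fun _ => PUnit.unit) w rfl)
    refine ⟨p, pull_injective w hg' rfl ?_, fun q hq => huniq q ?_⟩
    · exact (Compat.pull_res (α := fun _ => PUnit.unit) w rfl c₀ p.1 x p.2 _ (hj x p) rfl).trans hp
    · exact (Compat.pull_res (α := fun _ => PUnit.unit) w rfl c₀ q.1 x q.2 _ (hj x q) rfl).symm.trans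
        (congrArg (Compat.pull (α := fun _ => PUnit.unit) w rfl) hq)
  · rintro ⟨c₀, hu⟩
    refine ⟨c₀.pull (α := fun _ => PUnit.unit) w rfl, fun T x c' => ?_⟩
    obtain ⟨c, rfl⟩ := pull_surjective w hg' (x := x) rfl c'
    obtain ⟨p, hp, huniq⟩ := hu x c
    refine ⟨p, ?_, fun q hq => huniq q (pull_injective w hg' rfl ?_)⟩
    · exact (Compat.pull_res (α := fun _ => PUnit.unit) w rfl c₀ p.1 x p.2 _ (hj x p) rfl).symm.trans
        (congrArg (Compat.pull (α := fun _ => PUnit.unit) w rfl) hp)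
    · exact (Compat.pull_res (α := fun _ => PUnit.unit) w rfl c₀ q.1 x q.2 _ (hj x q) rfl).trans hq

end one

end Groth.Agent.SchDesc82
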