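import Groth.Agent.SchDesc82.StageSch
import Groth.Agent.SchDesc82.Rep

/-!
# An etale descent datum along a limit comes from a stage
-/

set_option autoImplicit false
set_option backward.isDefEq.respectTransparency false
set_option backward.isDefEq.respectTransparency.types false

universe u

open AlgebraicGeometry CategoryTheory Limits Desc

namespace Groth.Agent.SchDesc82

open DescLib Groth.Agent.MorLib

variable {I : Type u} [SmallCategory I] [IsCofiltered I] {S : Scheme.{u}} [IsAffine S] (T : I ⥤ Scheme.{u})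
  [∀ i, IsAffine (T.obj i)] (t : ∀ i, T.obj i ⟶ S) (ht : ∀ {i j : I} (f : i ⟶ j), T.map f ≫ t j = t i)
  (c : Cone T) {g : c.pt ⟶ S} (hτ : ∀ i, c.π.app i ≫ t i = g)
  (D : SchDDFam (fun _ : PUnit.{1} => g))

include ht hτ in
set_option maxHeartbeats 800000 in
/-- An etale separated quasi-compact descent datum along a limit is the pullback of one along a stage. -/
theorem exists_stage_datum (hc : IsLimit c) [Etale (D.obj PUnit.unit).hom] [IsSeparated (D.obj PUnit.unit).hom]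
    [QuasiCompact (D.obj PUnit.unit).hom] :
    ∃ (n : I) (Dn : SchDDFam (fun _ : PUnit.{1} => t n)) (_ : Etale (Dn.obj PUnit.unit).hom)
      (_ : IsSeparated (Dn.obj PUnit.unit).hom) (_ : QuasiCompact (Dn.obj PUnit.unit).hom)
      (w : ∀ _ : PUnit.{1}, c.π.app n ≫ t n = g ≫ 𝟙 S),
      Nonempty ((pullDDFam (f := fun _ : PUnit.{1} => t n) (f' := fun _ : PUnit.{1} => g)
        (α := fun _ => PUnit.unit) (p' := fun _ => c.π.app n) w).obj Dn ≅ D) := by
  let E := (D.obj PUnit.unit).left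
  let e : E ⟶ c.pt := (D.obj PUnit.unit).hom
  obtain ⟨k₀, E₀, e₀, q₀, sq₀, he₀, hs₀, hq₀⟩ := exists_stage_etale_sep T c hc e
  haveI : CompactSpace E₀ := QuasiCompact.compactSpace_of_compactSpace e₀
  haveI : QuasiSeparatedSpace E₀ := quasiSeparatedSpace_of_quasiSeparated e₀
  haveI : ∀ {i j : I} (f : i ⟶ j), IsAffineHom (T.map f) := fun f => inferInstance
  let A := BC.diag T e₀
  let B : Over k₀ ⥤ Scheme.{u} := Over.forget k₀ ⋙ T
  haveI : ∀ j, IsAffine (B.obj j) := fun j => inferInstanceAs (IsAffine (T.obj j.left))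
  haveI : ∀ j, CompactSpace ↥(A.obj j) := fun j => BC.compactSpace_obj T e₀ j
  haveI : ∀ j, QuasiSeparatedSpace ↥(A.obj j) := fun j => BC.quasiSeparatedSpace_obj T e₀ j
  haveI : ∀ {i j : Over k₀} (f : i ⟶ j), IsAffineHom (A.map f) := fun f => BC.isAffineHom_map T e₀ f
  haveI : ∀ {i j : Over k₀} (f : i ⟶ j), IsAffineHom (B.map f) :=
    fun f => inferInstanceAs (IsAffineHom (T.map f.left))
  let ea : ∀ j : Over k₀, A.obj j ⟶ T.obj j.left := fun j => pullback.snd e₀ (T.map j.hom)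
  let a : ∀ j : Over k₀, A.obj j ⟶ S := fun j => ea j ≫ t j.left
  let b : ∀ j : Over k₀, B.obj j ⟶ S := fun j => t j.left
  have hTw : ∀ {i j : Over k₀} (f : i ⟶ j), T.map f.left ≫ T.map j.hom = T.map i.hom := fun f => by
    rw [← T.map_comp, Over.w f]
  have hea : ∀ {i j : Over k₀} (f : i ⟶ j), A.map f ≫ ea j = ea i ≫ T.map f.left := fun f => BC.map_snd T e₀ f
  have ha : ∀ {i j : Over k₀} (f : i ⟶ j), A.map f ≫ a j = a i := fun {i j} f => by
    simp only [a]; rw [reassoc_of% (hea f), ht]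
  have hb : ∀ {i j : Over k₀} (f : i ⟶ j), B.map f ≫ b j = b i := fun f => ht f.left
  haveI : Nonempty (Over k₀) := ⟨Over.mk (𝟙 k₀)⟩
  let P := PairSys.diag a ha b hb
  haveI : ∀ j, CompactSpace ↥(P.obj j) := fun j => PairSys.compactSpace_obj a ha b hb j
  haveI : ∀ j, QuasiSeparatedSpace ↥(P.obj j) := fun j => PairSys.quasiSeparatedSpace_obj a ha b hb j
  haveI : ∀ {i j : Over k₀} (f : i ⟶ j), IsAffineHom (P.map f) := fun f => PairSys.isAffineHom_map a ha b hb f
  let cA := BC.cone T e₀ sq₀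
  let cB := c.whisker (Over.forget k₀)
  have hcA : IsLimit cA := BC.isLimitCone T e₀ sq₀ hc
  have hcB : IsLimit cB := (Functor.Initial.isLimitWhiskerEquiv (Over.forget k₀) c).symm hc
  let qj : ∀ j : Over k₀, E ⟶ A.obj j := fun j => BC.proj T e₀ sq₀ j
  have hqj : ∀ j, qj j ≫ ea j = e ≫ c.π.app j.left := fun j => BC.proj_snd T e₀ sq₀ j
  have hqj₁ : ∀ j, qj j ≫ pullback.fst e₀ (T.map j.hom) = q₀ := fun j => BC.proj_fst T e₀ sq₀ j
  have hsA : ∀ j, cA.π.app j ≫ a j = e ≫ g := fun j => by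
    show qj j ≫ ea j ≫ t j.left = _
    rw [reassoc_of% (hqj j), hτ]
  have hsB : ∀ j, cB.π.app j ≫ b j = g := fun j => hτ j.left
  let cP := PairSys.cone a ha b hb (cA := cA) (cB := cB) (e ≫ g) hsA g hsB
  have hcP : IsLimit cP := PairSys.isLimitCone a ha b hb (e ≫ g) hsA g hsB hcA hcB
  let pr : ∀ j, pullback (e ≫ g) g ⟶ P.obj j := fun j => PairSys.proj a b (cA := cA) (cB := cB) (e ≫ g) hsA g hsB j
  have hpr₁ : ∀ j, pr j ≫ pullback.fst (a j) (b j) = pullback.fst (e ≫ g) g ≫ qj j := fun j =>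
    PairSys.proj_fst a b (cA := cA) (cB := cB) (e ≫ g) hsA g hsB j
  have hpr₂ : ∀ j, pr j ≫ pullback.snd (a j) (b j) = pullback.snd (e ≫ g) g ≫ c.π.app j.left := fun j =>
    PairSys.proj_snd a b (cA := cA) (cB := cB) (e ≫ g) hsA g hsB j
  -- the gluing morphism at the limit
  let v₀ : Lifts (D.obj PUnit.unit) (pullback.fst (e ≫ g) g ≫ e) := ⟨pullback.fst (e ≫ g) g, rfl⟩
  let αL := D.φ (i := PUnit.unit) (j := PUnit.unit) (pullback.fst (e ≫ g) g ≫ e) (pullback.snd (e ≫ g) g)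
    (by rw [Category.assoc]; exact pullback.condition) v₀
  have hφ : ∀ {Z : Scheme.{u}} (x₀ x₁ : Z ⟶ c.pt) (h : x₀ ≫ g = x₁ ≫ g) (v : Lifts (D.obj PUnit.unit) x₀)
      (h' : v.1 ≫ e ≫ g = x₁ ≫ g),
      (D.φ (i := PUnit.unit) (j := PUnit.unit) x₀ x₁ h v).1 = pullback.lift v.1 x₁ h' ≫ αL.1 := by
    intro Z x₀ x₁ h v h'
    refine D.φ_natural (pullback.lift v.1 x₁ h') (pullback.fst (e ≫ g) g ≫ e) (pullback.snd (e ≫ g) g) _ x₀ x₁ ?_
      (pullback.lift_snd _ _ _) h v₀ v (pullback.lift_fst _ _ _).symm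
    rw [pullback.lift_fst_assoc]; exact v.2
  -- it comes from a stage
  let σt : P ⟶ (Functor.const _).obj (T.obj k₀) :=
    { app := fun j => pullback.snd (a j) (b j) ≫ T.map j.hom
      naturality := fun i j f => by
        show P.map f ≫ pullback.snd (a j) (b j) ≫ T.map j.hom = (pullback.snd (a i) (b i) ≫ T.map i.hom) ≫ 𝟙 _
        rw [PairSys.map_snd_assoc, Category.comp_id]
        exact congrArg (pullback.snd (a i) (b i) ≫ ·) (hTw f) }
  obtain ⟨j₀, α₀, hα₀, hα₀'⟩ := Scheme.exists_π_app_comp_eq_of_locallyOfFinitePresentation P σt e₀ cP hcP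
    (αL.1 ≫ q₀) (by
      ext j : 2
      show pr j ≫ pullback.snd (a j) (b j) ≫ T.map j.hom = (αL.1 ≫ q₀) ≫ e₀
      rw [reassoc_of% (hpr₂ j), Category.assoc, sq₀.w, ← Category.assoc αL.1, αL.2, c.w])
  change pr j₀ ≫ α₀ = αL.1 ≫ q₀ at hα₀
  change α₀ ≫ e₀ = pullback.snd (a j₀) (b j₀) ≫ T.map j₀.hom at hα₀'
  -- the gluing morphisms at the stages below
  let α : ∀ (l : Over k₀) (ψ : l ⟶ j₀), P.obj l ⟶ A.obj l := fun l ψ =>
    pullback.lift (P.map ψ ≫ α₀) (pullback.snd (a l) (b l)) (by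
      rw [Category.assoc, hα₀', PairSys.map_snd_assoc]
      exact congrArg (pullback.snd (a l) (b l) ≫ ·) (hTw ψ))
  have hα₁ : ∀ l ψ, α l ψ ≫ pullback.fst e₀ (T.map l.hom) = P.map ψ ≫ α₀ := fun l ψ => pullback.lift_fst _ _ _
  have hα₂ : ∀ l ψ, α l ψ ≫ ea l = pullback.snd (a l) (b l) := fun l ψ => pullback.lift_snd _ _ _
  have hprα : ∀ l ψ, pr l ≫ α l ψ = αL.1 ≫ qj l := fun l ψ => by
    apply pullback.hom_ext
    · rw [Category.assoc, hα₁, Category.assoc, hqj₁]
      have : pr l ≫ P.map ψ = pr j₀ := cP.w ψ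
      rw [reassoc_of% this, hα₀]
    · rw [Category.assoc, hα₂, hpr₂, Category.assoc, hqj, ← Category.assoc αL.1, αL.2]
  -- the identity
  have hσ : ∀ l, (𝟙 (A.obj l)) ≫ a l = ea l ≫ b l := fun l => Category.id_comp _
  let σ : ∀ l, A.obj l ⟶ P.obj l := fun l => pullback.lift (𝟙 _) (ea l) (hσ l)
  have hσn : ∀ {i j : Over k₀} (f : i ⟶ j), A.map f ≫ σ j = σ i ≫ P.map f := fun {i j} f => by
    apply pullback.hom_ext
    · rw [Category.assoc, pullback.lift_fst, Category.comp_id, Category.assoc, PairSys.map_fst,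
        pullback.lift_fst_assoc, Category.id_comp]
    · rw [Category.assoc, pullback.lift_snd, Category.assoc, PairSys.map_snd, pullback.lift_snd_assoc]
      exact hea f
  have hσπ : qj j₀ ≫ σ j₀ = pullback.lift (𝟙 E) e (Category.id_comp _) ≫ pr j₀ := by
    apply pullback.hom_ext
    · rw [Category.assoc, pullback.lift_fst, Category.comp_id, Category.assoc, hpr₁, pullback.lift_fst_assoc,
        Category.id_comp]
    · rw [Category.assoc, pullback.lift_snd, hqj, Category.assoc, hpr₂, pullback.lift_snd_assoc]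
  let σA : A ⟶ (Functor.const _).obj (T.obj k₀) :=
    { app := fun j => ea j ≫ T.map j.hom
      naturality := fun i j f => by
        show A.map f ≫ ea j ≫ T.map j.hom = (ea i ≫ T.map i.hom) ≫ 𝟙 _
        rw [reassoc_of% (hea f), Category.comp_id, hTw f] }
  obtain ⟨j₁, ψ₁, hj₁⟩ := Scheme.exists_hom_comp_eq_comp_of_locallyOfFiniteType A σA e₀ cA hcA (i := j₀)
    (σ j₀ ≫ α₀) (pullback.fst e₀ (T.map j₀.hom)) (by
      show ea j₀ ≫ T.map j₀.hom = _
      rw [Category.assoc, hα₀', pullback.lift_snd_assoc])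
    (pullback.condition).symm (by
      show qj j₀ ≫ σ j₀ ≫ α₀ = qj j₀ ≫ pullback.fst e₀ (T.map j₀.hom)
      rw [reassoc_of% hσπ, hα₀, hqj₁, ← Category.assoc]
      refine (congrArg (· ≫ q₀) ?_).trans (Category.id_comp q₀)
      rw [← hφ e e rfl ⟨𝟙 E, Category.id_comp e⟩ (Category.id_comp _)]
      exact congrArg Subtype.val (D.φ_self e ⟨𝟙 E, Category.id_comp e⟩))
  have hid : ∀ (l : Over k₀) (ψ : l ⟶ j₁), σ l ≫ α l (ψ ≫ ψ₁) = 𝟙 _ := fun l ψ => by
    apply pullback.hom_ext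
    · rw [Category.assoc, hα₁, ← Category.assoc, ← hσn, A.map_comp, Category.assoc, Category.assoc]
      refine (congrArg (A.map ψ ≫ ·) hj₁).trans ?_
      rw [Category.id_comp, ← Category.assoc, ← A.map_comp]
      exact BC.map_fst T e₀ _
    · rw [Category.assoc, hα₂, pullback.lift_snd, Category.id_comp]
  -- the cocycle condition
  let a' : ∀ j, P.obj j ⟶ S := fun j => pullback.snd (a j) (b j) ≫ b j
  have ha' : ∀ {i j : Over k₀} (f : i ⟶ j), P.map f ≫ a' j = a' i := fun {i j} f => by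
    simp only [a']; rw [PairSys.map_snd_assoc, hb]
  let Q := PairSys.diag a' ha' b hb
  haveI : ∀ j, CompactSpace ↥(Q.obj j) := fun j => PairSys.compactSpace_obj a' ha' b hb j
  haveI : ∀ {i j : Over k₀} (f : i ⟶ j), IsAffineHom (Q.map f) := fun f => PairSys.isAffineHom_map a' ha' b hb f
  have hsP : ∀ j, cP.π.app j ≫ a' j = pullback.snd (e ≫ g) g ≫ g := fun j => by
    show pr j ≫ pullback.snd (a j) (b j) ≫ b j = _
    rw [reassoc_of% (hpr₂ j)]
    exact congrArg (pullback.snd (e ≫ g) g ≫ ·) (hτ j.left)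
  let cQ := PairSys.cone a' ha' b hb (cA := cP) (cB := cB) (pullback.snd (e ≫ g) g ≫ g) hsP g hsB
  have hcQ : IsLimit cQ := PairSys.isLimitCone a' ha' b hb (pullback.snd (e ≫ g) g ≫ g) hsP g hsB hcP hcB
  let p₁ := pullback.fst (pullback.snd (e ≫ g) g ≫ g) g
  let z₁ := pullback.snd (pullback.snd (e ≫ g) g ≫ g) g
  let prQ : ∀ j, pullback (pullback.snd (e ≫ g) g ≫ g) g ⟶ Q.obj j := fun j =>
    PairSys.proj a' b (cA := cP) (cB := cB) (pullback.snd (e ≫ g) g ≫ g) hsP g hsB j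
  have hprQ₁ : ∀ j, prQ j ≫ pullback.fst (a' j) (b j) = p₁ ≫ pr j := fun j =>
    PairSys.proj_fst a' b (cA := cP) (cB := cB) (pullback.snd (e ≫ g) g ≫ g) hsP g hsB j
  have hprQ₂ : ∀ j, prQ j ≫ pullback.snd (a' j) (b j) = z₁ ≫ c.π.app j.left := fun j =>
    PairSys.proj_snd a' b (cA := cP) (cB := cB) (pullback.snd (e ≫ g) g ≫ g) hsP g hsB j
  let m₁ : ∀ (l : Over k₀) (ψ : l ⟶ j₁), Q.obj l ⟶ P.obj l := fun l ψ =>
    pullback.lift (pullback.fst (a' l) (b l) ≫ α l (ψ ≫ ψ₁)) (pullback.snd (a' l) (b l)) (by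
      show (_ ≫ α l (ψ ≫ ψ₁)) ≫ ea l ≫ b l = _
      rw [Category.assoc, reassoc_of% (hα₂ l (ψ ≫ ψ₁))]
      exact pullback.condition)
  let m₂ : ∀ l, Q.obj l ⟶ P.obj l := fun l =>
    pullback.lift (pullback.fst (a' l) (b l) ≫ pullback.fst (a l) (b l)) (pullback.snd (a' l) (b l)) (by
      rw [Category.assoc, pullback.condition]
      exact pullback.condition)
  have hαn : ∀ {i j : Over k₀} (f : i ⟶ j) (ψ : j ⟶ j₀), P.map f ≫ α j ψ = α i (f ≫ ψ) ≫ A.map f :=
    fun {i j} f ψ => by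
    apply pullback.hom_ext
    · rw [Category.assoc, hα₁, ← Category.assoc, ← P.map_comp, Category.assoc, BC.map_fst, hα₁]
    · rw [Category.assoc, hα₂, PairSys.map_snd, Category.assoc, hea, reassoc_of% (hα₂ i (f ≫ ψ))]
      rfl
  have hm₁ : ∀ {i j : Over k₀} (f : i ⟶ j) (ψ : j ⟶ j₁), Q.map f ≫ m₁ j ψ = m₁ i (f ≫ ψ) ≫ P.map f :=
    fun {i j} f ψ => by
    apply pullback.hom_ext
    · rw [Category.assoc, pullback.lift_fst, PairSys.map_fst_assoc, hαn, Category.assoc, PairSys.map_fst,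
        pullback.lift_fst_assoc, Category.assoc, Category.assoc f]
    · rw [Category.assoc, pullback.lift_snd, PairSys.map_snd, Category.assoc, PairSys.map_snd,
        pullback.lift_snd_assoc]
  have hm₂ : ∀ {i j : Over k₀} (f : i ⟶ j), Q.map f ≫ m₂ j = m₂ i ≫ P.map f := fun {i j} f => by
    apply pullback.hom_ext
    · rw [Category.assoc, pullback.lift_fst, PairSys.map_fst_assoc, PairSys.map_fst, Category.assoc,
        PairSys.map_fst, pullback.lift_fst_assoc, Category.assoc]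
    · rw [Category.assoc, pullback.lift_snd, PairSys.map_snd, Category.assoc, PairSys.map_snd,
        pullback.lift_snd_assoc]
  let σQ : Q ⟶ (Functor.const _).obj (T.obj k₀) :=
    { app := fun j => pullback.snd (a' j) (b j) ≫ T.map j.hom
      naturality := fun i j f => by
        show Q.map f ≫ pullback.snd (a' j) (b j) ≫ T.map j.hom = (pullback.snd (a' i) (b i) ≫ T.map i.hom) ≫ 𝟙 _
        rw [PairSys.map_snd_assoc, Category.comp_id]
        exact congrArg (pullback.snd (a' i) (b i) ≫ ·) (hTw f) }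
  have hcocL : p₁ ≫ αL.1 ≫ e ≫ g = z₁ ≫ g := by
    rw [← Category.assoc αL.1, αL.2]
    exact pullback.condition
  have hcoc₂ : (p₁ ≫ pullback.fst (e ≫ g) g) ≫ e ≫ g = z₁ ≫ g := by
    rw [Category.assoc, pullback.condition]
    exact pullback.condition
  obtain ⟨j₂, ψ₂, hj₂⟩ := Scheme.exists_hom_comp_eq_comp_of_locallyOfFiniteType Q σQ e₀ cQ hcQ (i := j₁)
    (m₁ j₁ (𝟙 j₁) ≫ P.map ψ₁ ≫ α₀) (m₂ j₁ ≫ P.map ψ₁ ≫ α₀) (by
      show pullback.snd (a' j₁) (b j₁) ≫ T.map j₁.hom = _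
      rw [Category.assoc, Category.assoc, hα₀', PairSys.map_snd_assoc, pullback.lift_snd_assoc]
      exact congrArg (pullback.snd (a' j₁) (b j₁) ≫ ·) (hTw ψ₁).symm) (by
      show pullback.snd (a' j₁) (b j₁) ≫ T.map j₁.hom = _
      rw [Category.assoc, Category.assoc, hα₀', PairSys.map_snd_assoc, pullback.lift_snd_assoc]
      exact congrArg (pullback.snd (a' j₁) (b j₁) ≫ ·) (hTw ψ₁).symm) (by
      show prQ j₁ ≫ m₁ j₁ (𝟙 j₁) ≫ P.map ψ₁ ≫ α₀ = prQ j₁ ≫ m₂ j₁ ≫ P.map ψ₁ ≫ α₀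
      have e₁ : prQ j₁ ≫ m₁ j₁ (𝟙 j₁) = pullback.lift (p₁ ≫ αL.1) z₁ (by
          rw [Category.assoc]; exact hcocL) ≫ pr j₁ := by
        apply pullback.hom_ext
        · rw [Category.assoc, pullback.lift_fst, reassoc_of% (hprQ₁ j₁), hprα, Category.assoc, hpr₁,
            pullback.lift_fst_assoc, Category.assoc]
        · rw [Category.assoc, pullback.lift_snd, hprQ₂, Category.assoc, hpr₂, pullback.lift_snd_assoc]
      have e₂ : prQ j₁ ≫ m₂ j₁ = pullback.lift (p₁ ≫ pullback.fst (e ≫ g) g) z₁ hcoc₂ ≫ pr j₁ := by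
        apply pullback.hom_ext
        · rw [Category.assoc, pullback.lift_fst, reassoc_of% (hprQ₁ j₁), hpr₁, Category.assoc, hpr₁,
            pullback.lift_fst_assoc, Category.assoc]
        · rw [Category.assoc, pullback.lift_snd, hprQ₂, Category.assoc, hpr₂, pullback.lift_snd_assoc]
      have hw : pr j₁ ≫ P.map ψ₁ = pr j₀ := cP.w ψ₁
      rw [reassoc_of% e₁, reassoc_of% e₂, reassoc_of% hw, hα₀]
      refine (Category.assoc _ _ _).symm.trans (Eq.trans ?_ (Category.assoc _ _ _))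
      refine congrArg (· ≫ q₀) ?_
      let x₀ := p₁ ≫ pullback.fst (e ≫ g) g ≫ e
      let x₁ := p₁ ≫ pullback.snd (e ≫ g) g
      let v : Lifts (D.obj PUnit.unit) x₀ := ⟨p₁ ≫ pullback.fst (e ≫ g) g, Category.assoc _ _ _⟩
      have h01 : x₀ ≫ g = x₁ ≫ g := by simp only [x₀, x₁, Category.assoc, pullback.condition]
      have h12 : x₁ ≫ g = z₁ ≫ g := (Category.assoc _ _ _).trans pullback.condition
      let v₁ : Lifts (D.obj PUnit.unit) x₁ := ⟨p₁ ≫ αL.1, by rw [Category.assoc, αL.2]⟩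
      have hv₁ : D.φ (i := PUnit.unit) (j := PUnit.unit) x₀ x₁ h01 v = v₁ := Subtype.ext (by
        rw [hφ x₀ x₁ h01 v (by simp only [v, x₁, Category.assoc, pullback.condition])]
        congr 1
        apply pullback.hom_ext
        · rw [pullback.lift_fst]
        · rw [pullback.lift_snd])
      rw [← hφ x₀ z₁ (h01.trans h12) v hcoc₂,
        ← hφ x₁ z₁ h12 v₁ (by simp only [v₁, Category.assoc]; exact hcocL), ← hv₁, D.φ_comp])
  let n := j₂
  have hψ : n ⟶ j₁ := ψ₂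
  let αn := α n (ψ₂ ≫ ψ₁)
  have hαnn : αn ≫ ea n = pullback.snd (a n) (b n) := hα₂ _ _
  have hidn : σ n ≫ αn = 𝟙 _ := hid n ψ₂
  have hcocn : m₁ n ψ₂ ≫ αn = m₂ n ≫ αn := by
    apply pullback.hom_ext
    · rw [Category.assoc, hα₁, Category.assoc, hα₁, P.map_comp, Category.assoc, ← reassoc_of% (hm₂ ψ₂)]
      have := hm₁ ψ₂ (𝟙 j₁)
      rw [Category.comp_id] at this
      rw [← reassoc_of% this]
      exact hj₂
    · rw [Category.assoc, hα₂, Category.assoc, hα₂, pullback.lift_snd, pullback.lift_snd]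
  -- the datum
  have hl : ∀ {Z : Scheme.{u}} (x₀ x₁ : Z ⟶ T.obj n.left) (_ : x₀ ≫ t n.left = x₁ ≫ t n.left)
      (v : Lifts (Over.mk (ea n)) x₀), v.1 ≫ a n = x₁ ≫ b n := fun x₀ x₁ h v => by
    show v.1 ≫ ea n ≫ t n.left = _
    rw [← Category.assoc, show v.1 ≫ ea n = x₀ from v.2, h]
  let Φ : ∀ {Z : Scheme.{u}} (x₀ x₁ : Z ⟶ T.obj n.left) (_ : x₀ ≫ t n.left = x₁ ≫ t n.left),
      Lifts (Over.mk (ea n)) x₀ → Lifts (Over.mk (ea n)) x₁ := fun x₀ x₁ h v =>
    ⟨pullback.lift v.1 x₁ (hl x₀ x₁ h v) ≫ αn, by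
      show (_ ≫ αn) ≫ ea n = x₁
      rw [Category.assoc, hαnn, pullback.lift_snd]⟩
  have hself : ∀ {Z : Scheme.{u}} (x : Z ⟶ T.obj n.left) (v : Lifts (Over.mk (ea n)) x), Φ x x rfl v = v := by
    intro Z x v
    refine Subtype.ext ?_
    refine Eq.trans ?_ ((congrArg (v.1 ≫ ·) hidn).trans (Category.comp_id (X := Z) (Y := A.obj n) v.1))
    refine Eq.trans ?_ (Category.assoc _ _ _)
    refine congrArg (· ≫ αn) ?_
    apply pullback.hom_ext
    · rw [pullback.lift_fst, Category.assoc, pullback.lift_fst]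
      exact (Category.comp_id (X := Z) (Y := A.obj n) v.1).symm
    · rw [pullback.lift_snd, Category.assoc, pullback.lift_snd]
      exact v.2.symm
  have hcomp : ∀ {Z : Scheme.{u}} (x₀ x₁ x₂ : Z ⟶ T.obj n.left) (h₀₁ : x₀ ≫ t n.left = x₁ ≫ t n.left)
      (h₁₂ : x₁ ≫ t n.left = x₂ ≫ t n.left) (v : Lifts (Over.mk (ea n)) x₀),
      Φ x₁ x₂ h₁₂ (Φ x₀ x₁ h₀₁ v) = Φ x₀ x₂ (h₀₁.trans h₁₂) v := by
    intro Z x₀ x₁ x₂ h₀₁ h₁₂ v
    let r : Z ⟶ Q.obj n := pullback.lift (pullback.lift v.1 x₁ (hl x₀ x₁ h₀₁ v)) x₂ (by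
      show _ ≫ pullback.snd (a n) (b n) ≫ b n = _
      rw [pullback.lift_snd_assoc]
      exact h₁₂)
    refine Subtype.ext ?_
    show pullback.lift (pullback.lift v.1 x₁ (hl x₀ x₁ h₀₁ v) ≫ αn) x₂ _ ≫ αn =
      pullback.lift v.1 x₂ (hl x₀ x₂ (h₀₁.trans h₁₂) v) ≫ αn
    refine Eq.trans (congrArg (· ≫ αn) (?_ : _ = r ≫ m₁ n ψ₂)) (Eq.trans ((Category.assoc _ _ _).trans
      ((congrArg (r ≫ ·) hcocn).trans (Category.assoc _ _ _).symm)) (congrArg (· ≫ αn) ?_))
    · apply pullback.hom_ext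
      · rw [pullback.lift_fst, Category.assoc, pullback.lift_fst, ← Category.assoc, pullback.lift_fst]
      · rw [pullback.lift_snd, Category.assoc, pullback.lift_snd, pullback.lift_snd]
    · apply pullback.hom_ext
      · rw [pullback.lift_fst, Category.assoc, pullback.lift_fst, ← Category.assoc, pullback.lift_fst,
          pullback.lift_fst]
      · rw [pullback.lift_snd, Category.assoc, pullback.lift_snd, pullback.lift_snd]
  let Dn : SchDDFam (fun _ : PUnit.{1} => t n.left) :=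
    { obj := fun _ => Over.mk (ea n)
      φ := fun Z i j x₀ x₁ h =>
        { toFun := Φ x₀ x₁ h
          invFun := Φ x₁ x₀ h.symm
          left_inv := fun v => (hcomp x₀ x₁ x₀ h h.symm v).trans (hself x₀ v)
          right_inv := fun v => (hcomp x₁ x₀ x₁ h.symm h v).trans (hself x₁ v) }
      φ_natural := fun Z Z' r i j x₀ x₁ h y₀ y₁ hy₀ hy₁ h' v v' hv => by
        show pullback.lift v'.1 y₁ _ ≫ αn = r ≫ pullback.lift v.1 x₁ _ ≫ αn
        rw [← Category.assoc r]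
        congr 1
        apply pullback.hom_ext
        · rw [pullback.lift_fst, Category.assoc, pullback.lift_fst, hv]
        · rw [pullback.lift_snd, Category.assoc, pullback.lift_snd, hy₁]
      φ_self := fun Z i x v => hself x v
      φ_comp := fun Z i j k x₀ x₁ x₂ h₀₁ h₁₂ v => hcomp x₀ x₁ x₂ h₀₁ h₁₂ v }
  haveI : Etale (Dn.obj PUnit.unit).hom := inferInstanceAs (Etale (pullback.snd e₀ (T.map n.hom)))
  haveI : IsSeparated (Dn.obj PUnit.unit).hom := inferInstanceAs (IsSeparated (pullback.snd e₀ (T.map n.hom)))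
  haveI : QuasiCompact (Dn.obj PUnit.unit).hom := inferInstanceAs (QuasiCompact (pullback.snd e₀ (T.map n.hom)))
  refine ⟨n.left, Dn, inferInstance, inferInstance, inferInstance,
    fun _ => (hτ n.left).trans (Category.comp_id g).symm, ?_⟩
  have sqn : IsPullback (qj n) e (ea n) (c.π.app n.left) := BC.isPullback_proj T e₀ sq₀ n
  let pe : ∀ (i : PUnit.{1}) ⦃Z : Scheme.{u}⦄ (y : Z ⟶ c.pt),
      Lifts (Over.mk (pullback.snd (ea n) (c.π.app n.left))) y ≃ Lifts (D.obj i) y := fun i Z y =>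
    { toFun := fun v => ⟨v.1 ≫ sqn.isoPullback.inv, by
        show (v.1 ≫ _) ≫ e = y
        rw [Category.assoc, IsPullback.isoPullback_inv_snd]
        exact v.2⟩
      invFun := fun v => ⟨v.1 ≫ sqn.isoPullback.hom, by
        show (v.1 ≫ _) ≫ pullback.snd (ea n) (c.π.app n.left) = y
        rw [Category.assoc, IsPullback.isoPullback_hom_snd]
        exact v.2⟩
      left_inv := fun v => Subtype.ext (by
        show (v.1 ≫ sqn.isoPullback.inv) ≫ sqn.isoPullback.hom = v.1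
        rw [Category.assoc, Iso.inv_hom_id, Category.comp_id])
      right_inv := fun v => Subtype.ext (by
        show (v.1 ≫ sqn.isoPullback.hom) ≫ sqn.isoPullback.inv = v.1
        rw [Category.assoc, Iso.hom_inv_id, Category.comp_id]) }
  refine Nonempty.intro (exists_iso_of_points (B := D) pe (fun i Z Z' r x y hy v v' hv => by
    show v'.1 ≫ sqn.isoPullback.inv = r ≫ v.1 ≫ sqn.isoPullback.inv
    rw [hv, Category.assoc]) fun Z i j x₀ x₁ h v => Subtype.ext ?_).choose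
  have hv : (pe i x₀ v).1 ≫ e = x₀ := (pe i x₀ v).2
  refine (hφ x₀ x₁ h (pe i x₀ v) (((Category.assoc _ _ _).symm.trans (congrArg (· ≫ g) hv)).trans h)).trans ?_
  have hx : (x₀ ≫ c.π.app n.left) ≫ t n.left = (x₁ ≫ c.π.app n.left) ≫ t n.left := by
    rw [Category.assoc, Category.assoc, hτ, h]
  let out := liftsPullbackEquiv (Dn.obj PUnit.unit) (c.π.app n.left) x₀ v
  show _ = (((liftsPullbackEquiv (Dn.obj PUnit.unit) (c.π.app n.left) x₁).symm
    (Φ (x₀ ≫ c.π.app n.left) (x₁ ≫ c.π.app n.left) hx out)).1) ≫ sqn.isoPullback.inv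
  apply sqn.hom_ext
  · refine ((Category.assoc _ _ _).trans ((congrArg (_ ≫ ·) (hprα n (ψ₂ ≫ ψ₁)).symm).trans
      (Category.assoc _ _ _).symm)).trans ?_
    refine Eq.trans ?_ ((Category.assoc _ _ _).trans (congrArg (_ ≫ ·) sqn.isoPullback_inv_fst)).symm
    show _ = pullback.lift (Φ (x₀ ≫ c.π.app n.left) (x₁ ≫ c.π.app n.left) hx out).1 x₁ _ ≫ pullback.fst (ea n) _
    rw [pullback.lift_fst]
    show _ = pullback.lift out.1 (x₁ ≫ c.π.app n.left) _ ≫ αn
    refine congrArg (· ≫ αn) ?_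
    apply pullback.hom_ext
    · refine ((Category.assoc _ _ _).trans ((congrArg (_ ≫ ·) (hpr₁ n)).trans
        (pullback.lift_fst_assoc _ _ _ _))).trans (Eq.trans ?_ (pullback.lift_fst _ _ _).symm)
      exact (Category.assoc _ _ _).trans (congrArg (_ ≫ ·) sqn.isoPullback_inv_fst)
    · exact ((Category.assoc _ _ _).trans ((congrArg (_ ≫ ·) (hpr₂ n)).trans
        (pullback.lift_snd_assoc _ _ _ _))).trans (pullback.lift_snd _ _ _).symm
  · refine ((Category.assoc _ _ _).trans ((congrArg (_ ≫ ·) αL.2).trans (pullback.lift_snd _ _ _))).trans ?_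
    refine Eq.trans ?_ ((Category.assoc _ _ _).trans (congrArg (_ ≫ ·) sqn.isoPullback_inv_snd)).symm
    exact (pullback.lift_snd _ _ _).symm

end Groth.Agent.SchDesc82
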