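import Groth.Agent.SchDesc82.Subtrusive
import Groth.Agent.SchDesc82.StageDatum
import Groth.Agent.LimMor.RelLimit

/-!
# Effectivity of etale descent data along quasi-compact universally subtrusive morphisms
-/

universe u

set_option autoImplicit false
set_option backward.isDefEq.respectTransparency false
set_option backward.isDefEq.respectTransparency.types false

open CategoryTheory CategoryTheory.Limits AlgebraicGeometry Opposite Desc

namespace Groth.Agent.SchDesc82

open DescLib

/-- The first of two composable morphisms may be dropped. -/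
theorem univSSubtrusive_of_comp {W X S : Scheme.{u}} (k : W ⟶ X) (g : X ⟶ S) (h : Subtr.UnivSSubtrusive (k ≫ g)) :
    Subtr.UnivSSubtrusive g := fun X' Y' a b f' sq y y' hy => by
  have H := h _ _ _ ((IsPullback.of_hasPullback a k).paste_horiz sq)
  obtain ⟨x, x', hx, e, e'⟩ := H hy
  exact ⟨pullback.fst a k x, pullback.fst a k x', hx.map (pullback.fst a k).continuous, e, e'⟩

/-- A flat surjection may be put in front. -/
theorem univSSubtrusive_flat_comp {W X S : Scheme.{u}} (k : W ⟶ X) (g : X ⟶ S) [Flat k] [Surjective k]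
    (h : Subtr.UnivSSubtrusive g) : Subtr.UnivSSubtrusive (k ≫ g) := fun X' Y' a b f' sq y y' hy => by
  let r : X' ⟶ pullback g b := pullback.lift (a ≫ k) f' (by rw [Category.assoc, sq.w])
  have hr : IsPullback r a (pullback.fst g b) k := by
    refine (IsPullback.of_bot ?_ (pullback.lift_fst _ _ _).symm (IsPullback.of_hasPullback g b)).flip
    rw [pullback.lift_snd]
    exact sq.flip
  have : Flat r := MorphismProperty.of_isPullback hr.flip ‹Flat k›
  have : Surjective r := MorphismProperty.of_isPullback hr.flip ‹Surjective k›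
  obtain ⟨x, x', hx, e, e'⟩ := h _ _ _ (IsPullback.of_hasPullback g b).flip hy
  obtain ⟨z, rfl⟩ := r.surjective x
  obtain ⟨z', hz', rfl⟩ := Flat.generalizingMap r hx
  refine ⟨z, z', hz', ?_, ?_⟩
  · rw [← e, ← Scheme.Hom.comp_apply, pullback.lift_snd]
  · rw [← e', ← Scheme.Hom.comp_apply, pullback.lift_snd]

variable {S S' : Scheme.{u}} {g : S' ⟶ S} {D : SchDDFam (fun _ : PUnit.{1} => g)}

/-- Effectivity transfers from a refinement. -/
theorem exists_repBy_of_refine {X₁ : Scheme.{u}} (k : X₁ ⟶ S') (hg : SGA1.UnivSubmersive g)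
    (hk : SGA1.UnivSubmersive (k ≫ g)) [Etale (D.obj PUnit.unit).hom] [IsSeparated (D.obj PUnit.unit).hom]
    (h : ∀ (D₁ : SchDDFam (fun _ : PUnit.{1} => k ≫ g)) (_ : Etale (D₁.obj PUnit.unit).hom)
      (_ : IsSeparated (D₁.obj PUnit.unit).hom) (_ : QuasiCompact (D.obj PUnit.unit).hom →
        QuasiCompact (D₁.obj PUnit.unit).hom), ∃ U : Over S, Etale U.hom ∧ RepBy D₁ U) :
    ∃ U : Over S, IsSeparated U.hom ∧ Etale U.hom ∧ RepBy D U := by
  let w : ∀ _ : PUnit.{1}, k ≫ g = (k ≫ g) ≫ 𝟙 _ := fun _ => (Category.comp_id _).symm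
  let D₁ := (pullDDFam (f := fun _ : PUnit.{1} => g) (f' := fun _ : PUnit.{1} => k ≫ g)
    (α := fun _ => PUnit.unit) (p' := fun _ => k) w).obj D
  obtain ⟨U, hU, hr⟩ := h D₁ (inferInstanceAs (Etale (pullback.snd _ _)))
    (inferInstanceAs (IsSeparated (pullback.snd _ _)))
    (fun _ => inferInstanceAs (QuasiCompact (pullback.snd _ _)))
  have h := (repBy_pull_iff (D := D) w hk U).1 hr
  obtain ⟨U', hU'⟩ := exists_repBy (rep_of_repOn h.repOn)
  obtain ⟨I⟩ := hU'.repByOn_id.unique h
  refine ⟨U', sep_of_repBy hg hU', ?_, hU'⟩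
  rw [← Over.w I.hom]
  infer_instance

/-- Effectivity over an affine base along a morphism from an affine scheme. -/
theorem exists_repBy_of_univSSubtrusive_affine [IsAffine S] [IsAffine S'] (hg : Subtr.UnivSSubtrusive g)
    [Etale (D.obj PUnit.unit).hom] [IsSeparated (D.obj PUnit.unit).hom] [QuasiCompact (D.obj PUnit.unit).hom] :
    ∃ U : Over S, Etale U.hom ∧ RepBy D U := by
  have hgs := DescLib.univSubmersive_of_univSSubtrusive g hg
  obtain ⟨I, _, _, _, F, c, hc, hF, ⟨ε⟩⟩ := LimMor.exists_isLimit_affine_fp g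
  haveI : _root_.CategoryTheory.IsConnected Iᵒᵖ := IsCofiltered.isConnected _
  let c₂ := c.extend ε.inv
  let hc₂ : IsLimit c₂ := hc.extendIso ε.inv
  let T := F ⋙ Over.forget S
  let c₃ : Cone T := (Over.forget S).mapCone c₂
  let hc₃ : IsLimit c₃ := isLimitOfPreserves (Over.forget S) hc₂
  haveI : ∀ i, IsAffine (T.obj i) := fun i =>
    have := (hF i).1
    isAffine_of_isAffineHom (F.obj i).hom
  let t : ∀ i, T.obj i ⟶ S := fun i => (F.obj i).hom
  obtain ⟨n, Dn, he, hs, hq, w, ⟨J⟩⟩ := exists_stage_datum T t (fun f => Over.w (F.map f)) c₃ (g := g)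
    (fun i => Over.w (c₂.π.app i)) D hc₃
  haveI := (hF n).1
  haveI : LocallyOfFinitePresentation (t n) := (hF n).2
  haveI : QuasiCompact (t n) := inferInstance
  have hn : Subtr.UnivSSubtrusive (t n) := univSSubtrusive_of_comp (c₃.π.app n) (t n) (by
    rw [show c₃.π.app n ≫ t n = g from Over.w (c₂.π.app n)]
    exact hg)
  obtain ⟨U, -, hU, hr⟩ := exists_repBy_of_univSSubtrusive (D := Dn) hn
  exact ⟨U, hU, ((repBy_pull_iff (D := Dn) w hgs U).2 hr.repByOn_id).of_iso J⟩

/-- Effectivity of etale separated quasi-compact descent data along quasi-compact universally subtrusive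
morphisms. -/
theorem exists_repBy_of_univSSubtrusive_qc [QuasiCompact g] (hg : Subtr.UnivSSubtrusive g)
    [Etale (D.obj PUnit.unit).hom] [IsSeparated (D.obj PUnit.unit).hom] [QuasiCompact (D.obj PUnit.unit).hom] :
    ∃ U : Over S, QuasiCompact U.hom ∧ IsSeparated U.hom ∧ Etale U.hom ∧ RepBy D U := by
  have hgs := DescLib.univSubmersive_of_univSSubtrusive g hg
  obtain ⟨U, hU, hr⟩ := exists_repBy_of_opens (D := D) (κ := {A : S.Opens // IsAffineOpen A}) (fun A => A.1)
    (fun x => by
      obtain ⟨A, hA, hx, -⟩ := exists_isAffineOpen_mem_and_subset (U := (⊤ : S.Opens)) (x := x) trivial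
      exact ⟨⟨A, hA⟩, hx⟩)
    fun ⟨A, hA⟩ => by
      let gA := pullback.snd g A.ι
      let DA := pullD D A.ι
      have : IsAffine (A : Scheme.{u}) := hA
      have : Etale (DA.obj PUnit.unit).hom := inferInstanceAs (Etale (pullback.snd _ _))
      have : IsSeparated (DA.obj PUnit.unit).hom := inferInstanceAs (IsSeparated (pullback.snd _ _))
      have hqD : QuasiCompact (DA.obj PUnit.unit).hom := inferInstanceAs (QuasiCompact (pullback.snd _ _))
      have : QuasiCompact gA := MorphismProperty.pullback_snd (P := @QuasiCompact) _ _ inferInstance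
      have : CompactSpace ↥(pullback g A.ι) := QuasiCompact.compactSpace_of_compactSpace gA
      have hgA := ValRefine.univSSubtrusive_pullback_snd g A.ι hg
      let 𝒰 := (pullback g A.ι).affineCover.finiteSubcover
      have : ∀ i, IsAffine (𝒰.X i) := fun i => inferInstanceAs (IsAffine ((pullback g A.ι).affineCover.X _))
      let k := Sigma.desc 𝒰.f
      have : Flat k := IsZariskiLocalAtSource.sigmaDesc fun i => inferInstance
      have : Surjective k := Surjective.sigmaDesc_of_union_range_eq_univ 𝒰.iUnion_range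
      have hk := univSSubtrusive_flat_comp k gA hgA
      obtain ⟨U, -, hU, hr⟩ := exists_repBy_of_refine (D := DA) k (DescLib.univSubmersive_of_univSSubtrusive gA hgA)
        (by
          haveI : QuasiCompact (k ≫ gA) := inferInstance
          exact DescLib.univSubmersive_of_univSSubtrusive (k ≫ gA) hk)
        fun D₁ _ _ h₁ => by
          have := h₁ hqD
          exact exists_repBy_of_univSSubtrusive_affine (D := D₁) hk
      exact ⟨U, hU, (repBy_pull_iff (D := D) (fun _ => pullback.condition) (univSubmersive_snd hgs A.ι) U).1 hr⟩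
  obtain ⟨h1, h2⟩ := qc_sep_of_repBy hgs hr
  exact ⟨U, h1, h2, hU, hr⟩

end Groth.Agent.SchDesc82
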