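import Groth.Agent.SchDesc82.Effective
import Groth.Agent.MorLib.OpenGeneralizing

/-!
# Effectivity of etale separated descent data along universally open surjective morphisms
-/

universe u

set_option autoImplicit false
set_option backward.isDefEq.respectTransparency false
set_option backward.isDefEq.respectTransparency.types false

open CategoryTheory CategoryTheory.Limits AlgebraicGeometry Opposite Desc

namespace Groth.Agent.SchDesc82

open DescLib

variable {S S' : Scheme.{u}} {g : S' ⟶ S} {D : SchDDFam (fun _ : PUnit.{1} => g)}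

/-- Universally open surjective morphisms are universally subtrusive. -/
theorem univSSubtrusive_of_universallyOpen [UniversallyOpen g] [Surjective g] :
    Subtr.UnivSSubtrusive g := fun X Y i₁ i₂ f sq y y' h => by
  have : UniversallyOpen f := MorphismProperty.of_isPullback sq.flip ‹UniversallyOpen g›
  have : Surjective f := MorphismProperty.of_isPullback sq.flip ‹Surjective g›
  obtain ⟨x, rfl⟩ := f.surjective y
  obtain ⟨x', hx, rfl⟩ := Groth.Agent.MorLib.generalizingMap_of_isOpenMap f f.isOpenMap h
  exact ⟨x, x', hx, rfl, rfl⟩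

/-- The family of all translates of a point of the underlying scheme. -/
noncomputable def taut (D : SchDDFam (fun _ : PUnit.{1} => g)) : Compat D ((D.obj PUnit.unit).hom ≫ g) :=
  Compat.ofPoint D (i := PUnit.unit) (⟨𝟙 _, Category.id_comp _⟩ : Lifts (D.obj PUnit.unit) (D.obj PUnit.unit).hom)
    ((D.obj PUnit.unit).hom ≫ g) rfl

/-- Along a universally open morphism translates of opens are open. -/
theorem isOpenMap_value_taut [UniversallyOpen g] : IsOpenMap (value (taut D)) := by
  let e := (D.obj PUnit.unit).hom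
  let P := pullback (e ≫ g) g
  let β := value (taut D)
  have hβ : β ≫ e = pullback.snd (e ≫ g) g := value_over _
  let θ : P ⟶ P := pullback.lift β (pullback.fst (e ≫ g) g ≫ e) (by
    rw [reassoc_of% hβ, Category.assoc, pullback.condition])
  have hθ : θ ≫ pullback.fst (e ≫ g) g = β := pullback.lift_fst _ _ _
  have hθ₂ : θ ≫ pullback.snd (e ≫ g) g = pullback.fst (e ≫ g) g ≫ e := pullback.lift_snd _ _ _
  have h₁ : θ ≫ β = pullback.fst (e ≫ g) g := by
    have h := lift_value (taut D) β (pullback.fst (e ≫ g) g ≫ e)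
      (by rw [reassoc_of% hβ, Category.assoc, pullback.condition])
    refine h.trans ?_
    let x₀ := pullback.fst (e ≫ g) g ≫ e
    let x₁ := pullback.snd (e ≫ g) g
    have hx : x₀ ≫ g = x₁ ≫ g := (Category.assoc _ _ _).trans pullback.condition
    let a : Lifts (D.obj PUnit.unit) x₀ := ⟨pullback.fst (e ≫ g) g, rfl⟩
    have hb : (D.φ (i := PUnit.unit) (j := PUnit.unit) x₀ x₁ hx a).1 = β :=
      φ_congr rfl rfl _ _ _ _ (Category.comp_id _).symm
    refine (φ_congr (x₀' := x₁) (x₁' := x₀) hβ rfl _ hx.symm _ (D.φ (i := PUnit.unit) (j := PUnit.unit) x₀ x₁ hx a)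
      ((Category.comp_id _).trans hb.symm)).trans ?_
    exact congrArg Subtype.val
      ((D.φ_comp (i := PUnit.unit) (j := PUnit.unit) (k := PUnit.unit) x₀ x₁ x₀ hx hx.symm a).trans (D.φ_self x₀ a))
  have hθθ : θ ≫ θ = 𝟙 P := by
    apply pullback.hom_ext
    · rw [Category.assoc, hθ, h₁, Category.id_comp]
    · rw [Category.assoc, hθ₂, reassoc_of% hθ, hβ, Category.id_comp]
  have : IsIso θ := ⟨θ, hθθ, hθθ⟩
  have : UniversallyOpen (pullback.fst (e ≫ g) g) := MorphismProperty.pullback_fst _ _ inferInstance
  have hf : IsOpenMap (pullback.fst (e ≫ g) g) := Scheme.Hom.isOpenMap _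
  show IsOpenMap β
  rw [← hθ]
  exact (hf.comp θ.isOpenEmbedding.isOpenMap :)

/-- Effectivity along quasi-compact universally open surjective morphisms to affine schemes. -/
theorem exists_repBy_of_universallyOpen_affine [IsAffine S] [QuasiCompact g] [UniversallyOpen g] [Surjective g]
    [Etale (D.obj PUnit.unit).hom] [IsSeparated (D.obj PUnit.unit).hom] :
    ∃ U : Over S, Etale U.hom ∧ RepBy D U := by
  have hg : Subtr.UnivSSubtrusive g := univSSubtrusive_of_universallyOpen
  have hgs := DescLib.univSubmersive_of_univSSubtrusive g hg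
  have key : ∀ x, ∃ W : (D.obj PUnit.unit).left.Opens, Stable D W ∧ x ∈ W ∧
      QuasiCompact (W.ι ≫ (D.obj PUnit.unit).hom) := by
    intro x
    obtain ⟨B, hB, hxB, -⟩ := exists_isAffineOpen_mem_and_subset (U := (⊤ : (D.obj PUnit.unit).left.Opens))
      (x := x) trivial
    obtain ⟨W, hW, hWr⟩ := exists_stable_value_of_isOpenMap (taut D) isOpenMap_value_taut B
    refine ⟨W, hW, ?_, quasiCompact_value (taut D) hB hWr⟩
    let δ : (D.obj PUnit.unit).left ⟶ pullback ((D.obj PUnit.unit).hom ≫ g) g :=
      pullback.lift (𝟙 _) (D.obj PUnit.unit).hom (Category.id_comp _)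
    rw [← SetLike.mem_coe, hWr]
    refine ⟨δ x, ?_, ?_⟩
    · show pullback.fst _ g (δ x) ∈ B
      rw [← Scheme.Hom.comp_apply, pullback.lift_fst]
      exact hxB
    · have e : δ ≫ value (taut D) = 𝟙 _ := (lift_value (taut D) (𝟙 _) (D.obj PUnit.unit).hom
        (Category.id_comp _).symm).trans (Compat.ofPoint_pt_self _ rfl _)
      rw [← Scheme.Hom.comp_apply, e]
      rfl
  choose W hW heW hWq using key
  refine exists_repBy_of_stable_cover hgs W hW (fun x => ⟨x, heW x⟩) fun x => ?_
  have : Etale ((subDD (hW x)).obj PUnit.unit).hom := inferInstanceAs (Etale (_ ≫ (D.obj PUnit.unit).hom))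
  have : IsSeparated ((subDD (hW x)).obj PUnit.unit).hom :=
    inferInstanceAs (IsSeparated (_ ≫ (D.obj PUnit.unit).hom))
  have : QuasiCompact ((subDD (hW x)).obj PUnit.unit).hom := hWq x
  obtain ⟨U, -, -, hU, hr⟩ := exists_repBy_of_univSSubtrusive_qc (D := subDD (hW x)) hg
  exact ⟨U, hU, hr⟩

/-- Universally open surjective morphisms are universally submersive. -/
theorem univSubmersive_of_universallyOpen' [UniversallyOpen g] [Surjective g] : SGA1.UnivSubmersive g :=
  fun _ _ i₁ i₂ f h => by
  have : UniversallyOpen f := MorphismProperty.of_isPullback h.flip ‹UniversallyOpen g›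
  have : Surjective f := MorphismProperty.of_isPullback h.flip ‹Surjective g›
  exact f.isOpenMap.isQuotientMap f.continuous f.surjective

/-- Effectivity of etale separated descent data along universally open surjective morphisms. -/
theorem exists_repBy_of_universallyOpen_sep [UniversallyOpen g] [Surjective g]
    [Etale (D.obj PUnit.unit).hom] [IsSeparated (D.obj PUnit.unit).hom] :
    ∃ U : Over S, IsSeparated U.hom ∧ Etale U.hom ∧ RepBy D U := by
  have hgs : SGA1.UnivSubmersive g := univSubmersive_of_universallyOpen'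
  obtain ⟨U, hU, hr⟩ := exists_repBy_of_opens (D := D) (κ := {A : S.Opens // IsAffineOpen A}) (fun A => A.1)
    (fun x => by
      obtain ⟨A, hA, hx, -⟩ := exists_isAffineOpen_mem_and_subset (U := (⊤ : S.Opens)) (x := x) trivial
      exact ⟨⟨A, hA⟩, hx⟩)
    fun ⟨A, hA⟩ => by
      let gA := pullback.snd g A.ι
      let DA := pullD D A.ι
      have : IsAffine (A : Scheme.{u}) := hA
      have : Etale (DA.obj PUnit.unit).hom := inferInstanceAs (Etale (pullback.snd _ _))
      have : IsSeparated (DA.obj PUnit.unit).hom := inferInstanceAs (IsSeparated (pullback.snd _ _))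
      have : UniversallyOpen gA := MorphismProperty.pullback_snd _ _ inferInstance
      have : Surjective gA := MorphismProperty.pullback_snd _ _ inferInstance
      let 𝒱 := (pullback g A.ι).affineCover
      obtain ⟨s, hs⟩ := isCompact_univ.elim_finite_subcover (fun i => Set.range (𝒱.f i ≫ gA))
        (fun i => (𝒱.f i ≫ gA).isOpenMap.isOpen_range) fun x _ => by
          obtain ⟨y, rfl⟩ := gA.surjective x
          obtain ⟨i, z, rfl⟩ := 𝒱.exists_eq y
          exact Set.mem_iUnion.2 ⟨i, z, Scheme.Hom.comp_apply _ _ _⟩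
      let k := Sigma.desc fun i : s => 𝒱.f i.1
      have : UniversallyOpen k := IsZariskiLocalAtSource.sigmaDesc fun i => inferInstance
      have : ∀ i, IsAffine (𝒱.X i) := fun i => inferInstanceAs (IsAffine ((pullback g A.ι).affineCover.X _))
      have : QuasiCompact (k ≫ gA) := quasiCompact_of_compactSpace _
      have : Surjective (k ≫ gA) := ⟨fun x => by
        obtain ⟨i, hi, z, hz⟩ := Set.mem_iUnion₂.1 (hs (Set.mem_univ x))
        refine ⟨Sigma.ι (fun i : s => 𝒱.X i.1) ⟨i, hi⟩ z, ?_⟩
        rw [← Scheme.Hom.comp_apply, Sigma.ι_desc_assoc]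
        exact hz⟩
      obtain ⟨U, -, hU, hr⟩ := exists_repBy_of_refine (D := DA) k univSubmersive_of_universallyOpen'
        univSubmersive_of_universallyOpen' fun D₁ _ _ _ => exists_repBy_of_universallyOpen_affine (D := D₁)
      exact ⟨U, hU, (repBy_pull_iff (D := D) (fun _ => pullback.condition) (univSubmersive_snd hgs A.ι) U).1 hr⟩
  exact ⟨U, sep_of_repBy hgs hr, hU, hr⟩

end Groth.Agent.SchDesc82
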