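import Groth.Agent.SchDesc82.Stalk
import Groth.Agent.LC.CanonComplete
import Groth.Agent.S4514

/-!
# Effectivity over completions and over complete local rings with algebraically closed residue field
-/

universe u

set_option autoImplicit false
set_option backward.isDefEq.respectTransparency false
set_option backward.isDefEq.respectTransparency.types false
set_option linter.style.haveILetI false

open CategoryTheory CategoryTheory.Limits AlgebraicGeometry Opposite Desc

namespace Groth.Agent.SchDesc82

open DescLib

variable {S S' : Scheme.{u}} {g : S' ⟶ S} {D : SchDDFam (fun _ : PUnit.{1} => g)}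

/-- Representability over a composite is representability for the pulled back datum. -/
theorem repByOn_pullD (hg : SGA1.UnivSubmersive g) [Etale (D.obj PUnit.unit).hom] {W W' : Scheme.{u}}
    (j : W ⟶ S) (m : W' ⟶ W) (U : Over W') (h : RepByOn D (m ≫ j) U) : RepByOn (pullD D j) m U := by
  obtain ⟨c₀, hu⟩ := h
  have hg' := univSubmersive_snd hg j
  let w : ∀ _ : PUnit.{1}, pullback.fst g j ≫ g = pullback.snd g j ≫ j := fun _ => pullback.condition
  refine ⟨c₀.pull (α := fun _ => PUnit.unit) (j := j) w (Category.assoc _ _ _), fun T x c' => ?_⟩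
  obtain ⟨c, rfl⟩ := pull_surjective (D := D) w hg' (x := x ≫ m) (Category.assoc x m j) c'
  obtain ⟨p, hp, huniq⟩ := hu x c
  have key : ∀ q : Lifts U x,
      (c₀.pull (α := fun _ => PUnit.unit) (j := j) w (Category.assoc U.hom m j)).res q.1 (x ≫ m)
        (by rw [← Category.assoc, q.2]) =
      (c₀.res q.1 (x ≫ m ≫ j) (by rw [← Category.assoc, q.2])).pull (α := fun _ => PUnit.unit) (j := j) w
        (Category.assoc x m j) :=
    fun q => (Compat.pull_res (α := fun _ => PUnit.unit) w (Category.assoc U.hom m j) c₀ q.1 _ _ _ _ _).symm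
  refine ⟨p, ?_, fun q hq => huniq q (pull_injective w hg' (Category.assoc x m j) ?_)⟩
  · refine (key p).trans ?_
    rw [hp]
  · rw [← key, hq]

/-- Effectivity in etale separated quasi-compact schemes over `W₁` descends to `W` along an fpqc map. -/
theorem exists_repByOn_of_fpqc (hg : SGA1.UnivSubmersive g) [Etale (D.obj PUnit.unit).hom]
    [QuasiCompact g] [QuasiSeparated g] [QuasiCompact (D.obj PUnit.unit).hom]
    [IsSeparated (D.obj PUnit.unit).hom] {W W₁ : Scheme.{u}} [IsAffine W₁] (j : W ⟶ S) (p : W₁ ⟶ W)
    [Flat p] [Surjective p] [QuasiCompact p] (U₁ : Over W₁) [Etale U₁.hom] (h : RepByOn D (p ≫ j) U₁) :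
    ∃ U : Over W, Etale U.hom ∧ RepByOn D j U := by
  obtain ⟨v, hv, -, hiso⟩ := exists_triv h
  haveI : QuasiCompact U₁.hom := (qcqs_of_triv hg hv hiso).1
  haveI : IsSeparated U₁.hom := by
    let F := pullback.fst (U₁.hom ≫ p ≫ j) g
    let k := pullback.fst (p ≫ j) g
    let f' : pullback (U₁.hom ≫ p ≫ j) g ⟶ pullback (p ≫ j) g :=
      pullback.map (U₁.hom ≫ p ≫ j) g (p ≫ j) g U₁.hom (𝟙 S') (𝟙 S) (by simp) (by simp)
    have hsq : IsPullback f' F k U₁.hom := by
      refine IsPullback.of_right ?_ (pullback.lift_fst _ _ _) (IsPullback.of_hasPullback (p ≫ j) g).flip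
      rw [pullback.lift_snd, Category.comp_id]
      exact (IsPullback.of_hasPullback (U₁.hom ≫ p ≫ j) g).flip
    have hf' : IsSeparated f' := by
      haveI := hiso
      haveI : IsSeparated (p ≫ j) := by
        haveI : IsSeparated ((p ≫ j) ≫ terminal.from S) := by
          rw [Subsingleton.elim ((p ≫ j) ≫ terminal.from S) (terminal.from W₁)]
          infer_instance
        exact IsSeparated.of_comp (p ≫ j) (terminal.from S)
      haveI : IsSeparated (f' ≫ pullback.snd (p ≫ j) g) := by
        rw [pullback.lift_snd, Category.comp_id,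
          show pullback.snd (U₁.hom ≫ p ≫ j) g = psi (p ≫ j) U₁ v hv ≫
            pullback.fst ((D.obj PUnit.unit).hom ≫ g) (p ≫ j) ≫ (D.obj PUnit.unit).hom by
            rw [reassoc_of% psi_fst, hv]]
        infer_instance
      exact IsSeparated.of_comp f' (pullback.snd (p ≫ j) g)
    exact SGA1Q.isSeparated_of_isPullback hsq
      (SGA1Q.univSubmersive_of_isPullback hg (IsPullback.of_hasPullback (p ≫ j) g)) hf'
  haveI : Etale ((pullD D j).obj PUnit.unit).hom := inferInstanceAs (Etale (pullback.snd _ _))
  obtain ⟨U, -, -, hU, hr⟩ := exists_repBy_of_fpqc p (repByOn_pullD hg j p U₁ h)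
  exact ⟨U, hU, (repBy_pull_iff (D := D) (fun _ => pullback.condition) (univSubmersive_snd hg j) U).1 hr⟩

theorem flat_surjective_spec {A B : CommRingCat.{u}} (f : A ⟶ B) (h : f.hom.FaithfullyFlat) :
    Flat (Spec.map f) ∧ Surjective (Spec.map f) :=
  (flat_and_surjective_SpecMap_iff f).2 h

/-- A Noetherian local ring has a faithfully flat complete extension with algebraically closed residue field. -/
theorem exists_algClosed_extension (A : Type u) [CommRing A] [IsLocalRing A] [IsNoetherianRing A] :
    ∃ (B : Type u) (_ : CommRing B) (_ : IsNoetherianRing B) (_ : IsLocalRing B)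
      (_ : IsAdicComplete (IsLocalRing.maximalIdeal B) B) (_ : IsAlgClosed (IsLocalRing.ResidueField B))
      (f : A →+* B), f.FaithfullyFlat := by
  let K := AlgebraicClosure (IsLocalRing.ResidueField A)
  haveI : IsAdicComplete (IsLocalRing.maximalIdeal K) K := by
    rw [IsLocalRing.maximalIdeal_eq_bot]; infer_instance
  obtain ⟨B, iB, iL, iN, iA, iH, hc, hf, ⟨e⟩⟩ := Groth.Agent.S4514.result (A := A) K
  let q : B →+* K := e.toRingHom.comp Algebra.TensorProduct.includeRight.toRingHom
  have hq : Function.Surjective q := by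
    refine e.surjective.comp fun z => ?_
    induction z using TensorProduct.induction_on with
    | zero => exact ⟨0, map_zero _⟩
    | tmul r b =>
      obtain ⟨a, rfl⟩ := IsLocalRing.residue_surjective r
      refine ⟨a • b, ?_⟩
      show (1 : IsLocalRing.ResidueField A) ⊗ₜ[A] (a • b) = _
      rw [TensorProduct.tmul_smul, TensorProduct.smul_tmul', Algebra.smul_def, mul_one]
      rfl
    | add x y hx hy =>
      obtain ⟨a, ha⟩ := hx
      obtain ⟨b, hb⟩ := hy
      exact ⟨a + b, by rw [map_add, ha, hb]⟩
  have hk : RingHom.ker q = IsLocalRing.maximalIdeal B :=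
    IsLocalRing.eq_maximalIdeal (RingHom.ker_isMaximal_of_surjective q hq)
  haveI : IsAlgClosed (IsLocalRing.ResidueField B) :=
    IsAlgClosed.of_ringEquiv K _ ((Ideal.quotEquivOfEq hk).symm.trans
      (RingHom.quotientKerEquivOfSurjective hq)).symm
  haveI := hf
  exact ⟨B, iB, iN, iL, hc, inferInstance, algebraMap A B, by
    rw [RingHom.faithfullyFlat_algebraMap_iff]; exact Module.FaithfullyFlat.of_flat_of_isLocalHom⟩

end Groth.Agent.SchDesc82
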