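import Groth.Agent.SchDesc82.ValRefine
import Groth.Agent.H23.RedSub

/-!
# Refinements over affine and Noetherian bases
-/

universe u

set_option autoImplicit false
set_option backward.isDefEq.respectTransparency false
set_option backward.isDefEq.respectTransparency.types false

open CategoryTheory CategoryTheory.Limits AlgebraicGeometry TopologicalSpace

namespace Groth.Agent.SchDesc82.ValRefine

variable {X Y : Scheme.{u}} (f : X ⟶ Y)

theorem univSSubtrusive_pullback_snd {Z : Scheme.{u}} (g : Z ⟶ Y) (hf : Subtr.UnivSSubtrusive f) :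
    Subtr.UnivSSubtrusive (pullback.snd f g) :=
  MorphismProperty.pullback_snd (P := MorphismProperty.universally fun _ _ f => Subtr.IsSSubtrusive f) f g hf

/-- A proper surjective morphism over the base with local lifts over an affine open. -/
theorem exists_piece [LocallyOfFinitePresentation f] [QuasiCompact f] (hf : Subtr.UnivSSubtrusive f)
    {R : Type u} [CommRing R] (u : Spec (CommRingCat.of R) ⟶ Y) [IsOpenImmersion u] :
    ∃ (K : Scheme.{u}) (k : K ⟶ Y), IsProper k ∧ Surjective k ∧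
      ∀ y : K, k y ∈ Set.range u →
        ∃ (V : K.Opens) (_ : y ∈ V) (h : V.toScheme ⟶ X), h ≫ f = V.ι ≫ k := by
  have : LocallyOfFinitePresentation (pullback.snd f u) :=
    MorphismProperty.pullback_snd (P := @LocallyOfFinitePresentation) _ _ inferInstance
  have : QuasiCompact (pullback.snd f u) := MorphismProperty.pullback_snd (P := @QuasiCompact) _ _ inferInstance
  obtain ⟨T, _, Y₁, q₁, O, h, hqp, hqs, -, -, hcov, hcomp, Z₀, zZ, k₁, hZp, hZs, hk₁, hk₁q⟩ :=
    exists_refinement (pullback.snd f u) (univSSubtrusive_pullback_snd f u hf)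
  let zY := pullback.snd zZ (specULiftZIsTerminal.from Y)
  have : IsProper zY := MorphismProperty.pullback_snd _ _ hZp
  have : Surjective zY := MorphismProperty.pullback_snd _ _ hZs
  let e : pullback zZ (specULiftZIsTerminal.from (ValChart.S R)) ⟶ pullback zZ (specULiftZIsTerminal.from Y) :=
    pullback.map _ _ _ _ (𝟙 _) u (𝟙 _) (by simp) (specULiftZIsTerminal.hom_ext _ _)
  have : IsOpenImmersion e := inferInstanceAs (IsOpenImmersion (pullback.map _ _ _ _ (𝟙 _) u (𝟙 _) _ _))
  have her : Set.range e = zY ⁻¹' Set.range u := by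
    rw [show e = pullback.map _ _ _ _ (𝟙 _) u (𝟙 _) (by simp) (specULiftZIsTerminal.hom_ext _ _) from rfl,
      AlgebraicGeometry.Scheme.Pullback.range_map]
    simp [zY]
  have hez : e ≫ zY = pullback.snd _ _ ≫ u := pullback.lift_snd _ _ _
  let C : Closeds (pullback zZ (specULiftZIsTerminal.from Y) : Scheme.{u}) :=
    ⟨(e '' (Set.range k₁)ᶜ)ᶜ, (e.isOpenEmbedding.isOpenMap _
      k₁.isClosedEmbedding.isClosed_range.isOpen_compl).isClosed_compl⟩
  let κ := (Scheme.IdealSheafData.vanishingIdeal C).subschemeι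
  have hκr : Set.range κ = C := H23.RedSub.range_vanishingIdeal C
  have : IsReduced (Scheme.IdealSheafData.vanishingIdeal C).subscheme := H23.RedSub.isReduced_vanishingIdeal C
  refine ⟨_, κ ≫ zY, inferInstance, ⟨fun y => ?_⟩, fun y hy => ?_⟩
  · suffices ∃ p ∈ (C : Set _), zY p = y by
      obtain ⟨p, hp, rfl⟩ := this
      obtain ⟨p', rfl⟩ := hκr.symm ▸ hp
      exact ⟨p', Scheme.Hom.comp_apply _ _ _⟩
    by_cases hy : y ∈ Set.range u
    · obtain ⟨x, rfl⟩ := hy
      obtain ⟨p, rfl⟩ := q₁.surjective x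
      refine ⟨e (k₁ p), fun ⟨p', hp', he⟩ => hp' ⟨p, e.isOpenEmbedding.injective he.symm⟩, ?_⟩
      rw [← Scheme.Hom.comp_apply, hez, ← hk₁q]
      rfl
    · obtain ⟨p, rfl⟩ := zY.surjective y
      refine ⟨p, fun ⟨p', _, hp'⟩ => hy ?_, rfl⟩
      have : e p' ∈ zY ⁻¹' Set.range u := her ▸ Set.mem_range_self p'
      rwa [hp'] at this
  · let a := pullback.fst κ e
    let b := pullback.snd κ e
    have : IsReduced (pullback κ e) := isReduced_of_isOpenImmersion a
    have hb : Set.range b ⊆ Set.range k₁ := by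
      rintro _ ⟨p, rfl⟩
      by_contra hp
      have h1 : κ (a p) ∈ (C : Set _) := hκr ▸ Set.mem_range_self _
      exact h1 ⟨b p, hp, by rw [← Scheme.Hom.comp_apply, ← Scheme.Hom.comp_apply, ← pullback.condition]⟩
    let c := pullback.fst b k₁
    have : Surjective c := ⟨fun p => by
      have : p ∈ Set.range c := by
        rw [AlgebraicGeometry.Scheme.Pullback.range_fst]
        exact hb (Set.mem_range_self p)
      exact this⟩
    have : IsIso c := isIso_of_isClosedImmersion_of_surjective c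
    let r := inv c ≫ pullback.snd b k₁
    have hr : r ≫ k₁ = b := by rw [Category.assoc, ← pullback.condition, IsIso.inv_hom_id_assoc]
    obtain ⟨p, rfl⟩ : y ∈ Set.range a := by
      rw [AlgebraicGeometry.Scheme.Pullback.range_fst]
      show κ y ∈ Set.range e
      rw [her]
      rwa [Scheme.Hom.comp_apply] at hy
    obtain ⟨t, ht⟩ := hcov (r p)
    refine ⟨a ''ᵁ (r ⁻¹ᵁ O t), ⟨p, ht, rfl⟩,
      (a.isoImage (r ⁻¹ᵁ O t)).inv ≫ r.resLE (O t) _ le_rfl ≫ h t ≫ pullback.fst f u, ?_⟩
    simp only [Category.assoc]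
    rw [pullback.condition, reassoc_of% (hcomp t), Scheme.Hom.resLE_comp_ι_assoc, ← hk₁q]
    have : r ≫ (k₁ ≫ pullback.snd _ _) ≫ u = a ≫ κ ≫ zY := by
      rw [Category.assoc k₁, reassoc_of% hr, ← hez, ← pullback.condition_assoc]
    rw [this, Scheme.Hom.isoImage_inv_ι_assoc]

/-- The refinement over an affine or Noetherian base. -/
theorem exists_cover_refinement (hY : IsAffine Y ∨ IsNoetherian Y) [LocallyOfFinitePresentation f] [QuasiCompact f]
    (hf : Subtr.UnivSSubtrusive f) :
    ∃ (T : Type u) (_ : Finite T) (Y' : Scheme.{u}) (q : Y' ⟶ Y) (O : T → Y'.Opens)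
      (h : ∀ t, (O t).toScheme ⟶ X),
      IsProper q ∧ Surjective q ∧ LocallyOfFinitePresentation q ∧ QuasiSeparatedSpace Y' ∧
      (∀ t, IsCompact (O t : Set Y')) ∧ (∀ y, ∃ t, y ∈ O t) ∧ ∀ t, h t ≫ f = (O t).ι ≫ q := by
  classical
  rcases hY with hY | hY
  · let u := Y.isoSpec.inv
    have : LocallyOfFinitePresentation (pullback.snd f u) :=
      MorphismProperty.pullback_snd (P := @LocallyOfFinitePresentation) _ _ inferInstance
    have : QuasiCompact (pullback.snd f u) := MorphismProperty.pullback_snd (P := @QuasiCompact) _ _ inferInstance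
    obtain ⟨T, hT, Y₁, q₁, O, h, hqp, hqs, hql, hOc, hcov, hcomp, -⟩ :=
      exists_refinement (R := Γ(Y, ⊤)) (pullback.snd f u) (univSSubtrusive_pullback_snd f u hf)
    refine ⟨T, hT, Y₁, q₁ ≫ u, O, fun t => h t ≫ pullback.fst f u, inferInstance, inferInstance, inferInstance,
      quasiSeparatedSpace_of_quasiSeparated q₁, hOc, hcov, fun t => ?_⟩
    rw [Category.assoc, pullback.condition, reassoc_of% (hcomp t)]
  · let 𝒰 := Y.affineCover.finiteSubcover
    have : ∀ i, IsAffine (𝒰.X i) := fun i => inferInstanceAs (IsAffine (Y.affineCover.X _))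
    let uu : ∀ i, Spec Γ(𝒰.X i, ⊤) ⟶ Y := fun i => (𝒰.X i).isoSpec.inv ≫ 𝒰.f i
    have key : ∀ s : Finset 𝒰.I₀, ∃ (W : Scheme.{u}) (w : W ⟶ Y), IsProper w ∧ Surjective w ∧
        ∀ x : W, (∃ i ∈ s, w x ∈ Set.range (uu i)) →
          ∃ (V : W.Opens) (_ : x ∈ V) (h : V.toScheme ⟶ X), h ≫ f = V.ι ≫ w := by
      intro s
      induction s using Finset.induction with
      | empty => exact ⟨Y, 𝟙 Y, inferInstance, inferInstance, fun x ⟨i, hi, _⟩ => absurd hi (Finset.notMem_empty i)⟩
      | insert i s _ ih =>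
        obtain ⟨W, w, hwp, hws, hw⟩ := ih
        obtain ⟨K, k, hkp, hks, hk⟩ := exists_piece f hf (R := Γ(𝒰.X i, ⊤)) (uu i)
        have : IsProper (pullback.fst w k) := MorphismProperty.pullback_fst _ _ hkp
        have : Surjective (pullback.fst w k) := MorphismProperty.pullback_fst _ _ hks
        refine ⟨pullback w k, pullback.fst w k ≫ w, inferInstance, inferInstance, fun x ⟨j, hj, hx⟩ => ?_⟩
        rcases Finset.mem_insert.1 hj with rfl | hj
        · rw [pullback.condition, Scheme.Hom.comp_apply] at hx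
          obtain ⟨V, hV, h, e⟩ := hk _ hx
          exact ⟨pullback.snd w k ⁻¹ᵁ V, hV, (pullback.snd w k).resLE V _ le_rfl ≫ h, by
            rw [Category.assoc, e, Scheme.Hom.resLE_comp_ι_assoc, pullback.condition]⟩
        · rw [Scheme.Hom.comp_apply] at hx
          obtain ⟨V, hV, h, e⟩ := hw _ ⟨j, hj, hx⟩
          exact ⟨pullback.fst w k ⁻¹ᵁ V, hV, (pullback.fst w k).resLE V _ le_rfl ≫ h, by
            rw [Category.assoc, e, Scheme.Hom.resLE_comp_ι_assoc]⟩
    obtain ⟨W, w, hwp, hws, hw⟩ := key Finset.univ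
    have hcov : ∀ x : W, ∃ (V : W.Opens) (_ : x ∈ V) (h : V.toScheme ⟶ X), h ≫ f = V.ι ≫ w := fun x => by
      refine hw x ?_
      obtain ⟨i, y, hy⟩ := 𝒰.exists_eq (w x)
      refine ⟨i, Finset.mem_univ _, (𝒰.X i).isoSpec.hom y, ?_⟩
      show ((𝒰.X i).isoSpec.hom ≫ (𝒰.X i).isoSpec.inv ≫ 𝒰.f i) y = _
      rw [Iso.hom_inv_id_assoc, hy]
    choose V hV h hh using hcov
    have : IsLocallyNoetherian W := LocallyOfFiniteType.isLocallyNoetherian w
    have : CompactSpace W := QuasiCompact.compactSpace_of_compactSpace w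
    have : IsNoetherian W := { }
    obtain ⟨s, hs⟩ := isCompact_univ.elim_finite_subcover (fun x => (V x : Set W)) (fun x => (V x).isOpen)
      fun x _ => Set.mem_iUnion.2 ⟨x, hV x⟩
    refine ⟨s, inferInstance, W, w, fun t => V t.1, fun t => h t.1, hwp, hws,
      LocallyOfFinitePresentation.iff_locallyOfFiniteType.2 inferInstance, inferInstance,
      fun t => NoetherianSpace.isCompact _, fun y => ?_, fun t => hh t.1⟩
    obtain ⟨x, hx, hy⟩ := Set.mem_iUnion₂.1 (hs (Set.mem_univ y))
    exact ⟨⟨x, hx⟩, hy⟩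

/-- The disjoint union of the opens. -/
theorem exists_openCover_then_proper (hY : IsAffine Y ∨ IsNoetherian Y) [LocallyOfFinitePresentation f] [QuasiCompact f]
    (hf : Subtr.UnivSSubtrusive f) :
    ∃ (X' Y' : Scheme.{u}) (h : X' ⟶ X) (p : X' ⟶ Y') (q : Y' ⟶ Y), h ≫ f = p ≫ q ∧
      Surjective p ∧ QuasiCompact p ∧ QuasiSeparated p ∧ Flat p ∧ LocallyOfFinitePresentation p ∧
      (∀ x : X', ∃ U : X'.Opens, x ∈ U ∧ IsOpenImmersion (U.ι ≫ p)) ∧
      IsProper q ∧ Surjective q ∧ LocallyOfFinitePresentation q := by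
  obtain ⟨T, hT, Y', q, O, h, hqp, hqs, hql, hqq, hOc, hcov, hcomp⟩ := exists_cover_refinement f hY hf
  have : ∀ t, CompactSpace (O t).toScheme := fun t => isCompact_iff_compactSpace.1 (hOc t)
  have : ∀ t, QuasiSeparatedSpace (O t).toScheme := fun t => (O t).ι.isOpenEmbedding.quasiSeparatedSpace
  let p : (∐ fun t => (O t).toScheme) ⟶ Y' := Sigma.desc fun t => (O t).ι
  have hqs' : QuasiSeparatedSpace ↥(∐ fun t => (O t).toScheme) := quasiSeparatedSpace_sigma _
  have : CompactSpace ↥(∐ fun t => (O t).toScheme) := by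
    refine ⟨?_⟩
    have : (Set.univ : Set ↥(∐ fun t => (O t).toScheme)) =
        ⋃ t, Set.range (Sigma.ι (fun t => (O t).toScheme) t) := (sigmaOpenCover _).iUnion_range.symm
    rw [this]
    exact isCompact_iUnion fun t => isCompact_range (Scheme.Hom.continuous _)
  refine ⟨_, Y', Sigma.desc h, p, q, Sigma.hom_ext _ _ fun t => by simp [p, hcomp], ⟨fun y => ?_⟩,
    inferInstance, ?_, IsZariskiLocalAtSource.sigmaDesc fun t => inferInstance,
    IsZariskiLocalAtSource.sigmaDesc fun t => inferInstance, fun x => ?_, hqp, hqs, hql⟩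
  · obtain ⟨t, ht⟩ := hcov y
    refine ⟨Sigma.ι (fun t => (O t).toScheme) t ⟨y, ht⟩, ?_⟩
    show (Sigma.ι (fun t => (O t).toScheme) t ≫ p) _ = y
    rw [Sigma.ι_desc]
    rfl
  · exact QuasiSeparated.of_comp p (terminal.from _)
  · obtain ⟨t, y, rfl⟩ := (sigmaOpenCover fun t => (O t).toScheme).exists_eq x
    refine ⟨(Sigma.ι (fun t => (O t).toScheme) t).opensRange, ⟨y, rfl⟩, ?_⟩
    rw [← Scheme.Hom.isoOpensRange_inv_comp (Sigma.ι (fun t => (O t).toScheme) t), Category.assoc, Sigma.ι_desc]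
    infer_instance

end Groth.Agent.SchDesc82.ValRefine
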