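import Groth.Agent.SchDesc82.Sep
import Groth.Agent.SchDesc82.ValRefineMain
import Groth.Agent.SchDesc82.Completion
import Groth.Agent.DescLib.SubtrSubm

/-!
# Effectivity of etale separated descent data along universally subtrusive morphisms of finite presentation
-/

universe u

set_option autoImplicit false
set_option backward.isDefEq.respectTransparency false
set_option backward.isDefEq.respectTransparency.types false

open CategoryTheory CategoryTheory.Limits AlgebraicGeometry Opposite Desc

namespace Groth.Agent.SchDesc82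

open DescLib

variable {S S' : Scheme.{u}} {g : S' ⟶ S} {D : SchDDFam (fun _ : PUnit.{1} => g)}

/-- Universally closed surjective morphisms are universally subtrusive. -/
theorem univSSubtrusive_of_universallyClosed [UniversallyClosed g] [Surjective g] :
    Subtr.UnivSSubtrusive g := fun X Y i₁ i₂ f sq y y' h => by
  have : UniversallyClosed f := MorphismProperty.of_isPullback sq.flip ‹UniversallyClosed g›
  have : Surjective f := MorphismProperty.of_isPullback sq.flip ‹Surjective g›
  obtain ⟨x', rfl⟩ := f.surjective y'
  obtain ⟨x, hx, rfl⟩ := f.isClosedMap.specializingMap h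
  exact ⟨x, x', hx, rfl, rfl⟩

/-- Effectivity along a morphism which has sections on the members of an open covering. -/
theorem exists_repBy_of_local_sections (hg : SGA1.UnivSubmersive g) {κ : Type u} (O : κ → S.Opens)
    (hO : ∀ x, ∃ a, x ∈ O a) (h : ∀ a, (O a).toScheme ⟶ S') (hh : ∀ a, h a ≫ g = (O a).ι)
    [Etale (D.obj PUnit.unit).hom] [IsSeparated (D.obj PUnit.unit).hom] :
    ∃ U : Over S, IsSeparated U.hom ∧ Etale U.hom ∧ RepBy D U := by
  obtain ⟨U, hU, hr⟩ := exists_repBy_of_opens (D := D) O hO fun a => by
    have : Etale ((pullD D (O a).ι).obj PUnit.unit).hom := inferInstanceAs (Etale (pullback.snd _ _))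
    have : IsSeparated ((pullD D (O a).ι).obj PUnit.unit).hom := inferInstanceAs (IsSeparated (pullback.snd _ _))
    obtain ⟨U, -, hU, hr⟩ := exists_repBy_of_section (D := pullD D (O a).ι) (univSubmersive_snd hg (O a).ι)
      (pullback.lift (h a) (𝟙 _) (by rw [hh, Category.id_comp])) (pullback.lift_snd _ _ _)
    exact ⟨U, hU, (repBy_pull_iff (D := D) (fun _ => pullback.condition) (univSubmersive_snd hg (O a).ι) U).1 hr⟩
  exact ⟨U, sep_of_repBy hg hr, hU, hr⟩

/-- Effectivity descends along proper surjective morphisms of finite presentation. -/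
theorem exists_repBy_of_repByOn_proper {Y : Scheme.{u}} (q : Y ⟶ S) [IsProper q] [Surjective q]
    [LocallyOfFinitePresentation q] [Etale (D.obj PUnit.unit).hom] {U₁ : Over Y} [Etale U₁.hom]
    [IsSeparated U₁.hom] (h : RepByOn D q U₁) :
    ∃ U : Over S, Etale U.hom ∧ RepBy D U := by
  obtain ⟨c₁, hu⟩ := h
  have : ∀ i, Etale (D.obj i).hom := fun _ => ‹_›
  let T := (SchDDFam.ofSchDD.{0} q).obj (transDD c₁ hu)
  have : Etale (T.obj PUnit.unit).hom := ‹Etale U₁.hom›
  have : IsSeparated (T.obj PUnit.unit).hom := ‹IsSeparated U₁.hom›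
  obtain ⟨U, -, hU, hr⟩ := exists_repBy_of_proper_sep (D := T)
  obtain ⟨I⟩ := hr.effective
  exact ⟨U, hU, repBy_of_transDD c₁ hu (univSubmersive_of_universallyClosed q) U
    ((SchDDFam.toSchDD q).mapIso I)⟩

/-- Effectivity of etale separated descent data along universally subtrusive morphisms of finite presentation. -/
theorem exists_repBy_of_univSSubtrusive [LocallyOfFinitePresentation g] [QuasiCompact g]
    (hg : Subtr.UnivSSubtrusive g) [Etale (D.obj PUnit.unit).hom] [IsSeparated (D.obj PUnit.unit).hom] :
    ∃ U : Over S, IsSeparated U.hom ∧ Etale U.hom ∧ RepBy D U := by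
  have hgs := DescLib.univSubmersive_of_univSSubtrusive g hg
  obtain ⟨U, hU, hr⟩ := exists_repBy_of_opens (D := D) (κ := {A : S.Opens // IsAffineOpen A}) (fun A => A.1)
    (fun x => by
      obtain ⟨A, hA, hx, -⟩ := exists_isAffineOpen_mem_and_subset (U := (⊤ : S.Opens)) (x := x) trivial
      exact ⟨⟨A, hA⟩, hx⟩)
    fun ⟨A, hA⟩ => by
      let gA := pullback.snd g A.ι
      let DA := pullD D A.ι
      have : IsAffine (A : Scheme.{u}) := hA
      have : Etale (DA.obj PUnit.unit).hom := inferInstanceAs (Etale (pullback.snd _ _))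
      have : IsSeparated (DA.obj PUnit.unit).hom := inferInstanceAs (IsSeparated (pullback.snd _ _))
      have : LocallyOfFinitePresentation gA :=
        MorphismProperty.pullback_snd (P := @LocallyOfFinitePresentation) _ _ inferInstance
      have : QuasiCompact gA := MorphismProperty.pullback_snd (P := @QuasiCompact) _ _ inferInstance
      have hgA := ValRefine.univSSubtrusive_pullback_snd g A.ι hg
      have hgAs := DescLib.univSubmersive_of_univSSubtrusive gA hgA
      obtain ⟨T, _, Y, q, O, h, hqp, hqs, hql, -, -, hcov, hcomp⟩ :=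
        ValRefine.exists_cover_refinement gA (Or.inl inferInstance) hgA
      let DY := pullD DA q
      have : Etale (DY.obj PUnit.unit).hom := inferInstanceAs (Etale (pullback.snd _ _))
      have : IsSeparated (DY.obj PUnit.unit).hom := inferInstanceAs (IsSeparated (pullback.snd _ _))
      obtain ⟨U₁, hU₁s, hU₁, hr₁⟩ := exists_repBy_of_local_sections (D := DY) (univSubmersive_snd hgAs q) O hcov
        (fun t => pullback.lift (h t) (O t).ι (hcomp t)) (fun t => pullback.lift_snd _ _ _)
      obtain ⟨U, hU, hr⟩ := exists_repBy_of_repByOn_proper (D := DA) q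
        ((repBy_pull_iff (D := DA) (fun _ => pullback.condition) (univSubmersive_snd hgAs q) U₁).1 hr₁)
      exact ⟨U, hU, (repBy_pull_iff (D := D) (fun _ => pullback.condition) (univSubmersive_snd hgs A.ι) U).1 hr⟩
  exact ⟨U, sep_of_repBy hgs hr, hU, hr⟩

end Groth.Agent.SchDesc82
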