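import Groth.Agent.SchDesc82.ValFiniteAlg
import Groth.Agent.SchDesc82.ValRefineMain
import Groth.Agent.MdlA1.FinExtend
import Mathlib.AlgebraicGeometry.Morphisms.QuasiFinite

/-!
# Open coverings followed by finite morphisms refine quasi-finite universally subtrusive morphisms
-/

universe u

set_option autoImplicit false
set_option backward.isDefEq.respectTransparency false
set_option backward.isDefEq.respectTransparency.types false

open CategoryTheory CategoryTheory.Limits AlgebraicGeometry TopologicalSpace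

namespace Groth.Agent.SchDesc82.ValFinite

variable {R : Type u} [CommRing R] {S' : Scheme.{u}} (f : S' ⟶ Spec (CommRingCat.of R))

open Groth.Agent.MorLib in
/-- The refinement over an affine base. -/
theorem exists_refinement [LocallyOfFinitePresentation f] [QuasiCompact f] [LocallyQuasiFinite f]
    (hf : Subtr.UnivSSubtrusive f) :
    ∃ (W : Scheme.{u}) (q : W ⟶ Spec (CommRingCat.of R)), IsFinite q ∧ Surjective q ∧ LocallyOfFinitePresentation q ∧
      ∃ (T : Type u) (_ : Finite T) (O : T → W.Opens) (h : ∀ t, (O t).toScheme ⟶ S'),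
        (∀ t, IsCompact (O t : Set W)) ∧ (∀ y, ∃ t, y ∈ O t) ∧ ∀ t, h t ≫ f = (O t).ι ≫ q := by
  classical
  have : CompactSpace S' := QuasiCompact.compactSpace_of_compactSpace f
  -- the affine pieces
  let 𝒰 := S'.affineCover.finiteSubcover
  have : ∀ i, IsAffine (𝒰.X i) := fun i => inferInstanceAs (IsAffine (S'.affineCover.X _))
  let B : 𝒰.I₀ → Type u := fun i => Γ(𝒰.X i, ⊤)
  let j : ∀ i, Spec (CommRingCat.of (B i)) ⟶ S' := fun i => (𝒰.X i).isoSpec.inv ≫ 𝒰.f i
  let alg : ∀ i, Algebra R (B i) := fun i => (Spec.preimage (j i ≫ f)).hom.toAlgebra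
  have hj : ∀ i, j i ≫ f = Spec.map (CommRingCat.ofHom (algebraMap R (B i))) := fun i =>
    (Spec.map_preimage (j i ≫ f)).symm
  have hBfp : ∀ i, Algebra.FinitePresentation R (B i) := fun i => by
    have : LocallyOfFinitePresentation (Spec.map (CommRingCat.ofHom (algebraMap R (B i)))) := hj i ▸ inferInstance
    exact RingHom.finitePresentation_algebraMap.1
      ((HasRingHomProperty.Spec_iff (P := @LocallyOfFinitePresentation)).1 this)
  -- integral points
  have hB : ∀ (O : Type u) [CommRing O] [IsDomain O] [ValuationRing O] [Algebra R O],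
      IsAlgClosed (FractionRing O) → ∃ i, Nonempty (B i →ₐ[R] O) := by
    intro O _ _ _ _ _
    obtain ⟨V, _, _, _, a, b, hb, hab⟩ := (Groth.Agent.S14769.result f).1 hf O
      (Spec.map (CommRingCat.ofHom (algebraMap R O)))
    obtain ⟨β, rfl⟩ := Spec.map_surjective b
    obtain ⟨i, u, hu⟩ := 𝒰.exists_eq (a (IsLocalRing.closedPoint V))
    have hr : Set.range a ⊆ Set.range (j i) := by
      rintro _ ⟨y, rfl⟩
      have h1 : y ⤳ IsLocalRing.closedPoint V := IsLocalRing.specializes_closedPoint y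
      refine (h1.map a.continuous).mem_open (j i).isOpenEmbedding.isOpen_range ⟨(𝒰.X i).isoSpec.hom u, ?_⟩
      rw [← hu]
      show ((𝒰.X i).isoSpec.hom ≫ (𝒰.X i).isoSpec.inv ≫ 𝒰.f i) u = _
      rw [Iso.hom_inv_id_assoc]
    obtain ⟨χ, hχ⟩ := Spec.map_surjective (IsOpenImmersion.lift (j i) a hr)
    let _ : Algebra O V := β.hom.toAlgebra
    let _ : Algebra (B i) V := χ.hom.toAlgebra
    have hcomm : CommRingCat.ofHom (algebraMap R (B i)) ≫ χ = CommRingCat.ofHom (algebraMap R O) ≫ β := by
      apply Spec.map_injective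
      rw [Spec.map_comp, Spec.map_comp, hχ, ← hj, IsOpenImmersion.lift_fac_assoc, hab]
    have hinj : Function.Injective (algebraMap O V) := by
      obtain ⟨P, hP⟩ := hb.1 (⟨⊥, Ideal.isPrime_bot⟩ : PrimeSpectrum O)
      rw [RingHom.injective_iff_ker_eq_bot, eq_bot_iff]
      intro x hx
      have hx' : x ∈ Ideal.comap β.hom (show PrimeSpectrum V from P).asIdeal := by
        rw [Ideal.mem_comap, show β.hom x = 0 from hx]
        exact zero_mem _
      rwa [show Ideal.comap β.hom (show PrimeSpectrum V from P).asIdeal = ⊥ from congrArg PrimeSpectrum.asIdeal hP] at hx'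
    have hloc : IsLocalHom (algebraMap O V) := by
      obtain ⟨P, hP⟩ := hb.1 (IsLocalRing.closedPoint O)
      refine ((IsLocalRing.local_hom_TFAE β.hom).out 0 4).2 (le_antisymm ?_ ?_)
      · exact IsLocalRing.le_maximalIdeal (Ideal.comap_ne_top _ (IsLocalRing.maximalIdeal.isMaximal V).ne_top)
      · rw [show IsLocalRing.maximalIdeal O = Ideal.comap β.hom (show PrimeSpectrum V from P).asIdeal from
          (congrArg PrimeSpectrum.asIdeal hP).symm]
        exact Ideal.comap_mono (IsLocalRing.le_maximalIdeal (show PrimeSpectrum V from P).isPrime.ne_top)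
    let algV : Algebra R V := ((algebraMap O V).comp (algebraMap R O)).toAlgebra
    have : IsScalarTower R O V := .of_algebraMap_eq' rfl
    let algOB : Algebra O (TensorProduct R O (B i)) := inferInstance
    let f₁ : TensorProduct R O (B i) →ₐ[O] V :=
      Algebra.TensorProduct.lift (Algebra.ofId O V)
        { χ.hom with commutes' := fun r => congr($hcomm r) } fun _ _ => .all _ _
    obtain ⟨θ⟩ := nonempty_algHom_of_valuationRing (FractionRing O) hinj f₁
    exact ⟨i, ⟨(θ.restrictScalars R).comp Algebra.TensorProduct.includeRight⟩⟩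
  have hBqf : ∀ i, Algebra.QuasiFinite R (B i) := fun i => by
    have : LocallyQuasiFinite (Spec.map (CommRingCat.ofHom (algebraMap R (B i)))) := hj i ▸ inferInstance
    exact RingHom.quasiFinite_algebraMap.1
      ((HasRingHomProperty.Spec_iff (P := @LocallyQuasiFinite)).1 this)
  obtain ⟨D, _, _, hDf, hDp, hDs, T, hT, hd⟩ := exists_finite_cover B hB
  choose i χ using fun d : T => hd d.1 d.2
  let Ob : T → (Spec (CommRingCat.of D)).Opens := fun d => PrimeSpectrum.basicOpen d.1
  let q : Spec (CommRingCat.of D) ⟶ Spec (CommRingCat.of R) := Spec.map (CommRingCat.ofHom (algebraMap R D))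
  have hfac : ∀ d : T, ∃ h : (Ob d).toScheme ⟶ S',
      h ≫ f = (Ob d).ι ≫ q := by
    intro d
    let u : Spec (CommRingCat.of (Localization.Away d.1)) ⟶ Spec (CommRingCat.of D) :=
      Spec.map (CommRingCat.ofHom (algebraMap D (Localization.Away d.1)))
    have : IsOpenImmersion u := IsOpenImmersion.of_isLocalization d.1
    have he : Set.range u = Set.range (Ob d).ι := by
      rw [Scheme.Opens.range_ι]
      exact PrimeSpectrum.localization_away_comap_range (Localization.Away d.1) d.1
    let m := IsOpenImmersion.isoOfRangeEq u (Ob d).ι he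
    refine ⟨m.inv ≫ Spec.map (CommRingCat.ofHom (χ d).some.toRingHom) ≫ j (i d), ?_⟩
    rw [Category.assoc, Category.assoc, hj, ← Spec.map_comp, ← IsOpenImmersion.isoOfRangeEq_inv_fac_assoc u
      (Ob d).ι he, ← Spec.map_comp]
    congr 2
    exact CommRingCat.hom_ext (((χ d).some.comp_algebraMap).trans (IsScalarTower.algebraMap_eq R D _))
  choose h hh using hfac
  refine ⟨_, q, (IsFinite.SpecMap_iff _).2 (RingHom.finite_algebraMap.2 hDf), ⟨fun p => hDs p⟩,
    (HasRingHomProperty.Spec_iff (P := @LocallyOfFinitePresentation)).2 (RingHom.finitePresentation_algebraMap.2 hDp),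
    T, inferInstance, Ob, h, fun d => PrimeSpectrum.isCompact_basicOpen d.1,
    fun y => ?_, hh⟩
  by_contra hy
  push Not at hy
  refine (show PrimeSpectrum D from y).isPrime.ne_top (top_le_iff.1 ?_)
  rw [← hT, Ideal.span_le]
  exact fun d hd => not_not.1 (hy ⟨d, hd⟩)

variable {X Y : Scheme.{u}} (g : X ⟶ Y)

/-- A finite surjective morphism with lifts over an affine open. -/
theorem exists_finite_piece [IsNoetherian Y] [LocallyOfFinitePresentation g] [QuasiCompact g] [LocallyQuasiFinite g]
    (hg : Subtr.UnivSSubtrusive g) (u : Spec (CommRingCat.of R) ⟶ Y) [IsOpenImmersion u] :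
    ∃ (K : Scheme.{u}) (k : K ⟶ Y), IsFinite k ∧ Surjective k ∧
      ∀ y : K, k y ∈ Set.range u →
        ∃ (V : K.Opens) (_ : y ∈ V) (h : V.toScheme ⟶ X), h ≫ g = V.ι ≫ k := by
  have : LocallyOfFinitePresentation (pullback.snd g u) :=
    MorphismProperty.pullback_snd (P := @LocallyOfFinitePresentation) _ _ inferInstance
  have : QuasiCompact (pullback.snd g u) := MorphismProperty.pullback_snd (P := @QuasiCompact) _ _ inferInstance
  have : LocallyQuasiFinite (pullback.snd g u) :=
    MorphismProperty.pullback_snd (P := @LocallyQuasiFinite) _ _ inferInstance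
  obtain ⟨W, q, hqf, hqs, -, T, hT, O, h, -, hcov, hcomp⟩ :=
    exists_refinement (pullback.snd g u) (ValRefine.univSSubtrusive_pullback_snd g u hg)
  have : QuasiCompact u.opensRange.ι := inferInstance
  obtain ⟨W', w', jW, hw', hjW, -, hr, he⟩ :=
    MdlA1.FinExtend.exists_finite_extend u.opensRange (q ≫ u.isoOpensRange.hom)
  let C : Closeds Y := ⟨(u.opensRange : Set Y)ᶜ, u.opensRange.isOpen.isClosed_compl⟩
  let κ := (Scheme.IdealSheafData.vanishingIdeal C).subschemeι
  have hκr : Set.range κ = C := H23.RedSub.range_vanishingIdeal C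
  have hju : jW ≫ w' = q ≫ u := by rw [he, Category.assoc, Scheme.Hom.isoOpensRange_hom_ι]
  refine ⟨W' ⨿ _, coprod.desc w' κ, inferInstance, ⟨fun y => ?_⟩, fun y hy => ?_⟩
  · by_cases hy : y ∈ u.opensRange
    · obtain ⟨x, rfl⟩ := hy
      obtain ⟨p, rfl⟩ := q.surjective x
      refine ⟨(coprod.inl (Y := (Scheme.IdealSheafData.vanishingIdeal C).subscheme)) (jW p), ?_⟩
      rw [← Scheme.Hom.comp_apply, ← Scheme.Hom.comp_apply, coprod.inl_desc, hju, Scheme.Hom.comp_apply]
    · obtain ⟨p, rfl⟩ : y ∈ Set.range κ := by rw [hκr]; exact hy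
      exact ⟨(coprod.inr (X := W')) p, by rw [← Scheme.Hom.comp_apply, coprod.inr_desc]⟩
  · let il : W' ⟶ W' ⨿ (Scheme.IdealSheafData.vanishingIdeal C).subscheme := coprod.inl
    obtain ⟨p, rfl⟩ | ⟨p, rfl⟩ : y ∈ Set.range il ∨
        y ∈ Set.range (coprod.inr (X := W') (Y := (Scheme.IdealSheafData.vanishingIdeal C).subscheme)) := by
      have := (isCompl_range_inl_inr W' (Scheme.IdealSheafData.vanishingIdeal C).subscheme).sup_eq_top
      exact Set.eq_univ_iff_forall.1 this y
    · rw [← Scheme.Hom.comp_apply, coprod.inl_desc] at hy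
      obtain ⟨p₀, rfl⟩ : p ∈ Set.range jW := by
        rw [hr]
        exact hy
      obtain ⟨t, ht⟩ := hcov p₀
      refine ⟨(jW ≫ il) ''ᵁ O t, ⟨p₀, ht, rfl⟩,
        ((jW ≫ il).isoImage (O t)).inv ≫ h t ≫ pullback.fst g u, ?_⟩
      simp only [Category.assoc]
      rw [pullback.condition, reassoc_of% (hcomp t), ← hju,
        show jW ≫ w' = (jW ≫ il) ≫ coprod.desc w' κ by rw [Category.assoc, coprod.inl_desc],
        Scheme.Hom.isoImage_inv_ι_assoc]
    · rw [← Scheme.Hom.comp_apply, coprod.inr_desc] at hy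
      have : κ p ∈ (C : Set Y) := hκr ▸ Set.mem_range_self p
      exact absurd hy this

/-- The refinement over an affine or Noetherian base. -/
theorem exists_cover_refinement (hY : IsAffine Y ∨ IsNoetherian Y) [LocallyOfFinitePresentation g] [QuasiCompact g]
    [LocallyQuasiFinite g] (hg : Subtr.UnivSSubtrusive g) :
    ∃ (Y' : Scheme.{u}) (q : Y' ⟶ Y), IsFinite q ∧ Surjective q ∧ LocallyOfFinitePresentation q ∧
      QuasiSeparatedSpace Y' ∧
      ∃ (T : Type u) (_ : Finite T) (O : T → Y'.Opens) (h : ∀ t, (O t).toScheme ⟶ X),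
        (∀ t, IsCompact (O t : Set Y')) ∧ (∀ y, ∃ t, y ∈ O t) ∧ ∀ t, h t ≫ g = (O t).ι ≫ q := by
  classical
  rcases hY with hY | hY
  · let u := Y.isoSpec.inv
    have : LocallyOfFinitePresentation (pullback.snd g u) :=
      MorphismProperty.pullback_snd (P := @LocallyOfFinitePresentation) _ _ inferInstance
    have : QuasiCompact (pullback.snd g u) := MorphismProperty.pullback_snd (P := @QuasiCompact) _ _ inferInstance
    have : LocallyQuasiFinite (pullback.snd g u) :=
      MorphismProperty.pullback_snd (P := @LocallyQuasiFinite) _ _ inferInstance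
    obtain ⟨W, q, hqf, hqs, hql, T, hT, O, h, hOc, hcov, hcomp⟩ :=
      exists_refinement (R := Γ(Y, ⊤)) (pullback.snd g u) (ValRefine.univSSubtrusive_pullback_snd g u hg)
    refine ⟨W, q ≫ u, inferInstance, inferInstance, inferInstance,
      quasiSeparatedSpace_of_quasiSeparated q, T, hT, O, fun t => h t ≫ pullback.fst g u, hOc, hcov, fun t => ?_⟩
    rw [Category.assoc, pullback.condition, reassoc_of% (hcomp t)]
  · let 𝒰 := Y.affineCover.finiteSubcover
    have : ∀ i, IsAffine (𝒰.X i) := fun i => inferInstanceAs (IsAffine (Y.affineCover.X _))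
    let uu : ∀ i, Spec Γ(𝒰.X i, ⊤) ⟶ Y := fun i => (𝒰.X i).isoSpec.inv ≫ 𝒰.f i
    have key : ∀ s : Finset 𝒰.I₀, ∃ (W : Scheme.{u}) (w : W ⟶ Y), IsFinite w ∧ Surjective w ∧
        ∀ x : W, (∃ i ∈ s, w x ∈ Set.range (uu i)) →
          ∃ (V : W.Opens) (_ : x ∈ V) (h : V.toScheme ⟶ X), h ≫ g = V.ι ≫ w := by
      intro s
      induction s using Finset.induction with
      | empty => exact ⟨Y, 𝟙 Y, inferInstance, inferInstance, fun x ⟨i, hi, _⟩ => absurd hi (Finset.notMem_empty i)⟩
      | insert i s _ ih =>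
        obtain ⟨W, w, hwp, hws, hw⟩ := ih
        obtain ⟨K, k, hkp, hks, hk⟩ := exists_finite_piece (R := Γ(𝒰.X i, ⊤)) g hg (uu i)
        have : IsFinite (pullback.fst w k) := MorphismProperty.pullback_fst _ _ hkp
        have : Surjective (pullback.fst w k) := MorphismProperty.pullback_fst _ _ hks
        refine ⟨pullback w k, pullback.fst w k ≫ w, inferInstance, inferInstance, fun x ⟨j, hj, hx⟩ => ?_⟩
        rcases Finset.mem_insert.1 hj with rfl | hj
        · rw [pullback.condition, Scheme.Hom.comp_apply] at hx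
          obtain ⟨V, hV, h, e⟩ := hk _ hx
          exact ⟨pullback.snd w k ⁻¹ᵁ V, hV, (pullback.snd w k).resLE V _ le_rfl ≫ h, by
            rw [Category.assoc, e, Scheme.Hom.resLE_comp_ι_assoc, pullback.condition]⟩
        · rw [Scheme.Hom.comp_apply] at hx
          obtain ⟨V, hV, h, e⟩ := hw _ ⟨j, hj, hx⟩
          exact ⟨pullback.fst w k ⁻¹ᵁ V, hV, (pullback.fst w k).resLE V _ le_rfl ≫ h, by
            rw [Category.assoc, e, Scheme.Hom.resLE_comp_ι_assoc]⟩
    obtain ⟨W, w, hwp, hws, hw⟩ := key Finset.univ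
    have hcov : ∀ x : W, ∃ (V : W.Opens) (_ : x ∈ V) (h : V.toScheme ⟶ X), h ≫ g = V.ι ≫ w := fun x => by
      refine hw x ?_
      obtain ⟨i, y, hy⟩ := 𝒰.exists_eq (w x)
      refine ⟨i, Finset.mem_univ _, (𝒰.X i).isoSpec.hom y, ?_⟩
      show ((𝒰.X i).isoSpec.hom ≫ (𝒰.X i).isoSpec.inv ≫ 𝒰.f i) y = _
      rw [Iso.hom_inv_id_assoc, hy]
    choose V hV h hh using hcov
    have : IsLocallyNoetherian W := LocallyOfFiniteType.isLocallyNoetherian w
    have : CompactSpace W := QuasiCompact.compactSpace_of_compactSpace w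
    have : IsNoetherian W := { }
    obtain ⟨s, hs⟩ := isCompact_univ.elim_finite_subcover (fun x => (V x : Set W)) (fun x => (V x).isOpen)
      fun x _ => Set.mem_iUnion.2 ⟨x, hV x⟩
    refine ⟨W, w, hwp, hws, LocallyOfFinitePresentation.iff_locallyOfFiniteType.2 inferInstance, inferInstance,
      s, inferInstance, fun t => V t.1, fun t => h t.1,
      fun t => NoetherianSpace.isCompact _, fun y => ?_, fun t => hh t.1⟩
    obtain ⟨x, hx, hy⟩ := Set.mem_iUnion₂.1 (hs (Set.mem_univ y))
    exact ⟨⟨x, hx⟩, hy⟩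

/-- The disjoint union of the opens. -/
theorem exists_openCover_then_finite (hY : IsAffine Y ∨ IsNoetherian Y) [LocallyOfFinitePresentation g] [QuasiCompact g] [LocallyQuasiFinite g]
    (hf : Subtr.UnivSSubtrusive g) :
    ∃ (X' Y' : Scheme.{u}) (h : X' ⟶ X) (p : X' ⟶ Y') (q : Y' ⟶ Y), h ≫ g = p ≫ q ∧
      Surjective p ∧ QuasiCompact p ∧ QuasiSeparated p ∧ Flat p ∧ LocallyOfFinitePresentation p ∧
      (∀ x : X', ∃ U : X'.Opens, x ∈ U ∧ IsOpenImmersion (U.ι ≫ p)) ∧
      IsFinite q ∧ Surjective q ∧ LocallyOfFinitePresentation q := by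
  obtain ⟨Y', q, hqp, hqs, hql, hqq, T, hT, O, h, hOc, hcov, hcomp⟩ := exists_cover_refinement g hY hf
  have : ∀ t, CompactSpace (O t).toScheme := fun t => isCompact_iff_compactSpace.1 (hOc t)
  have : ∀ t, QuasiSeparatedSpace (O t).toScheme := fun t => (O t).ι.isOpenEmbedding.quasiSeparatedSpace
  let p : (∐ fun t => (O t).toScheme) ⟶ Y' := Sigma.desc fun t => (O t).ι
  have hqs' : QuasiSeparatedSpace ↥(∐ fun t => (O t).toScheme) := ValRefine.quasiSeparatedSpace_sigma _
  have : CompactSpace ↥(∐ fun t => (O t).toScheme) := by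
    refine ⟨?_⟩
    have : (Set.univ : Set ↥(∐ fun t => (O t).toScheme)) =
        ⋃ t, Set.range (Sigma.ι (fun t => (O t).toScheme) t) := (sigmaOpenCover _).iUnion_range.symm
    rw [this]
    exact isCompact_iUnion fun t => isCompact_range (Scheme.Hom.continuous _)
  refine ⟨_, Y', Sigma.desc h, p, q, Sigma.hom_ext _ _ fun t => by simp [p, hcomp], ⟨fun y => ?_⟩,
    inferInstance, ?_, IsZariskiLocalAtSource.sigmaDesc fun t => inferInstance,
    IsZariskiLocalAtSource.sigmaDesc fun t => inferInstance, fun x => ?_, hqp, hqs, hql⟩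
  · obtain ⟨t, ht⟩ := hcov y
    refine ⟨Sigma.ι (fun t => (O t).toScheme) t ⟨y, ht⟩, ?_⟩
    show (Sigma.ι (fun t => (O t).toScheme) t ≫ p) _ = y
    rw [Sigma.ι_desc]
    rfl
  · exact QuasiSeparated.of_comp p (terminal.from _)
  · obtain ⟨t, y, rfl⟩ := (sigmaOpenCover fun t => (O t).toScheme).exists_eq x
    refine ⟨(Sigma.ι (fun t => (O t).toScheme) t).opensRange, ⟨y, rfl⟩, ?_⟩
    rw [← Scheme.Hom.isoOpensRange_inv_comp (Sigma.ι (fun t => (O t).toScheme) t), Category.assoc, Sigma.ι_desc]
    infer_instance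

end Groth.Agent.SchDesc82.ValFinite
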