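import Groth.Agent.SchDesc82.UltraGen
import Groth.Agent.MorLib.BaseChangeLim

/-!
# Universal openness and universal subtrusiveness descend to a stage of a limit
-/

universe u

set_option autoImplicit false
set_option backward.isDefEq.respectTransparency false
set_option backward.isDefEq.respectTransparency.types false

open CategoryTheory CategoryTheory.Limits AlgebraicGeometry Filter

namespace Groth.Agent.SchDesc82.UltraVal

/-- The square of a composite base change. -/
theorem isPullback_comp {X Y Z T : Scheme.{u}} {q : X ⟶ Z} {f : X ⟶ Y} {f₀ : Z ⟶ T} {p : Y ⟶ T}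
    (h : IsPullback q f f₀ p) {A : Scheme.{u}} (t : A ⟶ Y) :
    IsPullback (pullback.fst f t ≫ q) (pullback.snd f t) f₀ (t ≫ p) :=
  (IsPullback.of_hasPullback f t).paste_horiz h

/-- A square factored through a base change. -/
theorem exists_isPullback {X Z S S' A : Scheme.{u}} {f₀ : X ⟶ Z} {s : S ⟶ Z} {u : S' ⟶ S} {q : A ⟶ X} {g : A ⟶ S'}
    (h : IsPullback q g f₀ (u ≫ s)) : ∃ v : A ⟶ pullback f₀ s, IsPullback v g (pullback.snd f₀ s) u :=
  ⟨pullback.lift q (g ≫ u) (by rw [Category.assoc, h.w]), IsPullback.of_right (by rwa [pullback.lift_fst])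
    (pullback.lift_snd _ _ _) (IsPullback.of_hasPullback f₀ s)⟩

section pi

variable {ι : Type u} (V : ι → Type u) [∀ i, CommRing (V i)] [∀ i, IsDomain (V i)] [∀ i, ValuationRing (V i)]
  (U : Ultrafilter ι)

instance isClosedImmersion_eval (i : ι) :
    IsClosedImmersion (Spec.map (CommRingCat.ofHom (Pi.evalRingHom V i))) :=
  IsClosedImmersion.spec_of_surjective _ fun x => by
    classical exact ⟨Function.update (0 : ∀ j, V j) i x, by simp⟩

instance isClosedImmersion_mk :
    IsClosedImmersion (Spec.map (CommRingCat.ofHom (Ideal.Quotient.mk (gen V U)))) :=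
  IsClosedImmersion.spec_of_surjective _ Ideal.Quotient.mk_surjective

theorem map_eta_mk :
    Spec.map (CommRingCat.ofHom (Ideal.Quotient.mk (gen V U))) (DescLib.etaPt ((∀ i, V i) ⧸ gen V U)) = genSpec V U :=
  PrimeSpectrum.ext (show (⊥ : Ideal ((∀ i, V i) ⧸ gen V U)).comap (Ideal.Quotient.mk (gen V U)) = gen V U by
    rw [← RingHom.ker_eq_comap_bot, Ideal.mk_ker])

theorem map_closedPoint_mk :
    Spec.map (CommRingCat.ofHom (Ideal.Quotient.mk (gen V U))) (IsLocalRing.closedPoint ((∀ i, V i) ⧸ gen V U)) =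
      closedSpec V U := by
  classical
  refine PrimeSpectrum.ext ?_
  show (IsLocalRing.maximalIdeal ((∀ i, V i) ⧸ gen V U)).comap (Ideal.Quotient.mk (gen V U)) = closed V U
  ext a
  rw [Ideal.mem_comap, IsLocalRing.mem_maximalIdeal, mem_nonunits_iff, mem_closed]
  constructor
  · intro h
    refine (Ultrafilter.eventually_not).2 fun hu => h ?_
    refine IsUnit.of_mul_eq_one (b := Ideal.Quotient.mk _ (fun i => if h : IsUnit (a i) then (↑h.unit⁻¹ : V i) else 0)) ?_
    rw [← map_mul, ← map_one (Ideal.Quotient.mk (gen V U)), Ideal.Quotient.eq, mem_gen]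
    exact hu.mono fun i hi => by simp [hi]
  · intro h hu
    obtain ⟨b, hb⟩ := hu.exists_right_inv
    obtain ⟨b, rfl⟩ := Ideal.Quotient.mk_surjective b
    rw [← map_mul, ← map_one (Ideal.Quotient.mk (gen V U)), Ideal.Quotient.eq, mem_gen] at hb
    obtain ⟨i, hi, hi'⟩ := (h.and hb).exists
    exact hi (IsUnit.of_mul_eq_one (b := b i) (sub_eq_zero.1 hi'))

theorem map_eta_eval (i : ι) :
    Spec.map (CommRingCat.ofHom (Pi.evalRingHom V i)) (DescLib.etaPt (V i)) =
      (⟨genPt V i, inferInstance⟩ : PrimeSpectrum (∀ i, V i)) :=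
  PrimeSpectrum.ext (show (⊥ : Ideal (V i)).comap (Pi.evalRingHom V i) = genPt V i by
    rw [← RingHom.ker_eq_comap_bot]; rfl)

theorem map_closedPoint_eval (i : ι) :
    Spec.map (CommRingCat.ofHom (Pi.evalRingHom V i)) (IsLocalRing.closedPoint (V i)) =
      (⟨closedPt V i, inferInstance⟩ : PrimeSpectrum (∀ i, V i)) :=
  PrimeSpectrum.ext rfl

end pi

section descend

variable {I : Type u} [SmallCategory I] [IsCofiltered I] (D : I ⥤ Scheme.{u}) (c : Limits.Cone D) (hc : Limits.IsLimit c)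
  [∀ (i j : I) (a : i ⟶ j), IsAffineHom (D.map a)] {i₀ : I} {X₀ Y₀ : Scheme.{u}} (f₀ : X₀ ⟶ Y₀) (g₀ : Y₀ ⟶ D.obj i₀)
  [CompactSpace Y₀] [LocallyOfFinitePresentation f₀] [QuasiCompact f₀]
  {X Y : Scheme.{u}} (f : X ⟶ Y) (g : Y ⟶ c.pt) (qY : Y ⟶ Y₀) (qX : X ⟶ X₀)
  (hY : IsPullback qY g g₀ (c.π.app i₀)) (hX : IsPullback qX f f₀ qY)

/-- The morphism at a stage. -/
noncomputable abbrev stage (j : Over i₀) :
    pullback f₀ (pullback.fst g₀ (D.map j.hom)) ⟶ pullback g₀ (D.map j.hom) :=
  pullback.snd f₀ (pullback.fst g₀ (D.map j.hom))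

include hc hY hX in
theorem exists_stage_allGen [UniversallyOpen f] : ∃ j : Over i₀, UniversallyOpen (stage D f₀ g₀ j) := by
  by_contra hcon
  push Not at hcon
  haveI : ∀ {i j : I} (a : i ⟶ j), IsAffineHom (D.map a) := fun a => inferInstance
  haveI : LocallyOfFinitePresentation f := MorphismProperty.of_isPullback hX ‹_›
  haveI := fun j : Over i₀ => (MorphismProperty.pullback_snd f₀ (pullback.fst g₀ (D.map j.hom)) inferInstance :
    LocallyOfFinitePresentation (stage D f₀ g₀ j))
  have hfail : ∀ j : Over i₀, ∃ (V : Type u) (_ : CommRing V) (_ : IsDomain V) (_ : ValuationRing V)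
      (t : Spec (CommRingCat.of V) ⟶ pullback g₀ (D.map j.hom)),
      ¬ SAllGen (pullback.snd (stage D f₀ g₀ j) t) (DescLib.etaPt V) := fun j => by
    by_contra h
    refine hcon j ((universallyOpen_iff_sAllGen _).2 fun V _ _ _ t => ?_)
    by_contra h'
    exact h ⟨V, inferInstance, inferInstance, inferInstance, t, h'⟩
  choose V iR iD iV t ht using hfail
  obtain ⟨ι, U, k, s, τ, hs, hτ⟩ := exists_ultra_point (MorLib.BC.isLimitCone D g₀ hY hc) (MorLib.BC.toStart D g₀)
    (fun j => MorLib.BC.isAffineHom_fst D g₀ j) V t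
  let j₁ : Over i₀ := Over.mk (𝟙 i₀)
  have hτ' : Spec.map (CommRingCat.ofHom (Ideal.Quotient.mk (gen (fun i => V (k i)) U))) ≫ s = τ ≫ qY :=
    (hτ j₁).trans (congrArg (τ ≫ ·) (MorLib.BC.proj_fst D g₀ hY j₁))
  obtain ⟨v, hv⟩ := exists_isPullback (hτ'.symm ▸ isPullback_comp hX τ)
  have h1 : SAllGen (pullback.snd f₀ s) (genSpec (fun i => V (k i)) U) := by
    rw [← map_eta_mk]
    exact (sAllGen_iff_of_isClosedImmersion hv _).1 ((universallyOpen_iff_sAllGen f).1 inferInstance _ τ)
  haveI : LocallyOfFinitePresentation (pullback.snd f₀ s) := MorphismProperty.pullback_snd _ _ inferInstance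
  haveI : QuasiCompact (pullback.snd f₀ s) := MorphismProperty.pullback_snd _ _ inferInstance
  obtain ⟨i, hi⟩ := (eventually_sAllGen (fun i => V (k i)) U _ h1).exists
  have sq := isPullback_comp (IsPullback.of_hasPullback f₀ (pullback.fst g₀ (D.map (k i).hom))) (t (k i))
  rw [show t (k i) ≫ pullback.fst g₀ (D.map (k i).hom) = _ from (hs i).symm] at sq
  obtain ⟨w, hw⟩ := exists_isPullback sq
  refine ht (k i) ((sAllGen_iff_of_isClosedImmersion hw _).2 ?_)
  rw [map_eta_eval]
  exact hi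

include hc hY hX in
theorem exists_stage_genAt (hf : Subtr.UnivSSubtrusive f) :
    ∃ j : Over i₀, Subtr.UnivSSubtrusive (stage D f₀ g₀ j) := by
  by_contra hcon
  push Not at hcon
  haveI : ∀ {i j : I} (a : i ⟶ j), IsAffineHom (D.map a) := fun a => inferInstance
  have hfail : ∀ j : Over i₀, ∃ (V : Type u) (_ : CommRing V) (_ : IsDomain V) (_ : ValuationRing V)
      (t : Spec (CommRingCat.of V) ⟶ pullback g₀ (D.map j.hom)),
      ¬ SGenAt (pullback.snd (stage D f₀ g₀ j) t) (IsLocalRing.closedPoint V) (DescLib.etaPt V) := fun j => by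
    by_contra h
    refine hcon j ((univSSubtrusive_iff_sGenAt _).2 fun V _ _ _ t => ?_)
    by_contra h'
    exact h ⟨V, inferInstance, inferInstance, inferInstance, t, h'⟩
  choose V iR iD iV t ht using hfail
  obtain ⟨ι, U, k, s, τ, hs, hτ⟩ := exists_ultra_point (MorLib.BC.isLimitCone D g₀ hY hc) (MorLib.BC.toStart D g₀)
    (fun j => MorLib.BC.isAffineHom_fst D g₀ j) V t
  let j₁ : Over i₀ := Over.mk (𝟙 i₀)
  have hτ' : Spec.map (CommRingCat.ofHom (Ideal.Quotient.mk (gen (fun i => V (k i)) U))) ≫ s = τ ≫ qY :=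
    (hτ j₁).trans (congrArg (τ ≫ ·) (MorLib.BC.proj_fst D g₀ hY j₁))
  obtain ⟨v, hv⟩ := exists_isPullback (hτ'.symm ▸ isPullback_comp hX τ)
  have h1 : SGenAt (pullback.snd f₀ s) (closedSpec (fun i => V (k i)) U) (genSpec (fun i => V (k i)) U) := by
    rw [← map_eta_mk, ← map_closedPoint_mk]
    exact (sGenAt_iff_of_isClosedImmersion hv _ _).1 ((univSSubtrusive_iff_sGenAt f).1 hf _ τ)
  haveI : LocallyOfFinitePresentation (pullback.snd f₀ s) := MorphismProperty.pullback_snd _ _ inferInstance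
  obtain ⟨i, hi⟩ := (eventually_sGenAt (fun i => V (k i)) U _ h1).exists
  have sq := isPullback_comp (IsPullback.of_hasPullback f₀ (pullback.fst g₀ (D.map (k i).hom))) (t (k i))
  rw [show t (k i) ≫ pullback.fst g₀ (D.map (k i).hom) = _ from (hs i).symm] at sq
  obtain ⟨w, hw⟩ := exists_isPullback sq
  refine ht (k i) ((sGenAt_iff_of_isClosedImmersion hw _ _).2 ?_)
  rw [map_eta_eval, map_closedPoint_eval]
  exact hi

end descend

end Groth.Agent.SchDesc82.UltraVal
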