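import Mathlib.RingTheory.Ideal.KrullsHeightTheorem
import Mathlib.RingTheory.Ideal.GoingDown
import Mathlib.RingTheory.Ideal.MinimalPrime.Noetherian
import Mathlib.RingTheory.KrullDimension.Basic

/-!
# Primes with quasi-finite quotient dominating the base
-/

universe u

set_option autoImplicit false

namespace Groth.Agent.SchDesc82

open IsLocalRing

/-- Going down passes to the quotients by a prime of the base. -/
theorem hasGoingDown_quotient {B R : Type u} [CommRing B] [CommRing R] [Algebra B R]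
    [Algebra.HasGoingDown B R] (η : Ideal B) :
    Algebra.HasGoingDown (B ⧸ η) (R ⧸ η.map (algebraMap B R)) where
  exists_ideal_le_liesOver_of_lt {p} _ Q _ hlt := by
    let π := Ideal.Quotient.mk η
    let ρ := Ideal.Quotient.mk (η.map (algebraMap B R))
    have hsq : ρ.comp (algebraMap B R) = (algebraMap (B ⧸ η) (R ⧸ η.map (algebraMap B R))).comp π :=
      RingHom.ext fun b => rfl
    have : (Q.comap ρ).LiesOver ((Q.comap ρ).under B) := ⟨rfl⟩
    obtain ⟨P, hPQ, hP, hPo⟩ := Ideal.exists_ideal_le_liesOver_of_le (p := p.comap π)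
      (q := (Q.comap ρ).under B) (Q.comap ρ) (by
        intro b hb
        show ρ (algebraMap B R b) ∈ Q
        exact hlt.le hb)
    have hη : η.map (algebraMap B R) ≤ P := Ideal.map_le_iff_le_comap.2 fun b hb => by
      rw [← Ideal.under_def, ← hPo.over]
      show π b ∈ p
      rw [Ideal.Quotient.eq_zero_iff_mem.2 hb]
      exact p.zero_mem
    have hker : RingHom.ker ρ ≤ P := by rw [Ideal.mk_ker]; exact hη
    refine ⟨P.map ρ, ?_, Ideal.map_isPrime_of_surjective Ideal.Quotient.mk_surjective hker, ⟨?_⟩⟩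
    · exact (Ideal.map_mono hPQ).trans Ideal.map_comap_le
    · ext b
      obtain ⟨b, rfl⟩ := Ideal.Quotient.mk_surjective b
      show π b ∈ p ↔ ρ (algebraMap B R b) ∈ P.map ρ
      rw [Ideal.mem_map_iff_of_surjective ρ Ideal.Quotient.mk_surjective]
      have h0 : b ∈ p.comap π ↔ algebraMap B R b ∈ P := by rw [hPo.over]; rfl
      refine h0.trans ⟨fun h => ⟨_, h, rfl⟩, ?_⟩
      rintro ⟨x, hx, e⟩
      have := hker (show x - algebraMap B R b ∈ RingHom.ker ρ by rw [RingHom.mem_ker, map_sub, e, sub_self])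
      simpa using P.sub_mem hx this

theorem comap_map_eq {R S : Type u} [CommRing R] [CommRing S] {f : R →+* S} (hf : Function.Surjective f)
    {I : Ideal R} (h : RingHom.ker f ≤ I) : (I.map f).comap f = I := by
  rw [Ideal.comap_map_of_surjective f hf]
  exact sup_eq_left.2 h

theorem length_le_height_map {R S : Type u} [CommRing R] [CommRing S] {f : R →+* S} (hf : Function.Surjective f)
    {P : Ideal R} [P.IsPrime] (l : LTSeries (PrimeSpectrum R)) (hker : RingHom.ker f ≤ l.head.asIdeal)
    (hP : l.last.asIdeal ≤ P) [(P.map f).IsPrime] : (l.length : ℕ∞) ≤ (P.map f).height := by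
  have hk : ∀ i, RingHom.ker f ≤ (l i).asIdeal := fun i => hker.trans (l.head_le i)
  let F : Fin (l.length + 1) → PrimeSpectrum S := fun i =>
    ⟨(l i).asIdeal.map f, Ideal.map_isPrime_of_surjective hf (hk i)⟩
  have hF : StrictMono F := fun i j hij => by
    refine lt_of_le_of_ne (Ideal.map_mono (l.monotone hij.le)) fun e => ?_
    have h3 : ((l i).asIdeal.map f).comap f = ((l j).asIdeal.map f).comap f :=
      congrArg (fun z : PrimeSpectrum S => z.asIdeal.comap f) e
    rw [comap_map_eq hf (hk i), comap_map_eq hf (hk j)] at h3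
    exact (l.strictMono hij).ne (PrimeSpectrum.ext h3)
  let x : PrimeSpectrum S := ⟨P.map f, inferInstance⟩
  have hx : (P.map f).height = Order.height x := PrimeSpectrum.height_eq_orderHeight x
  rw [hx]
  let q : LTSeries (PrimeSpectrum S) := LTSeries.mk l.length F hF
  have hq : RelSeries.last q = F (Fin.last _) := rfl
  have hqx : RelSeries.last q ≤ x := by
    rw [hq]
    exact Ideal.map_mono hP
  exact Order.length_le_height hqx

theorem height_map_add_one_le {A : Type u} [CommRing A] [IsDomain A] (p m : Ideal A) [p.IsPrime] [m.IsPrime]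
    (hne : p ≠ ⊥) (hpm : p ≤ m) [(m.map (Ideal.Quotient.mk p)).IsPrime] [(m.map (Ideal.Quotient.mk p)).FiniteHeight] :
    (m.map (Ideal.Quotient.mk p)).height + 1 ≤ m.height := by
  obtain ⟨l₀, hl₀, hlen₀⟩ := (m.map (Ideal.Quotient.mk p)).exists_ltSeries_length_eq_height
  let l₁ := l₀.map (PrimeSpectrum.comap (Ideal.Quotient.mk p))
    (RingHom.strictMono_comap_of_surjective Ideal.Quotient.mk_surjective)
  have hbot : (⟨⊥, Ideal.isPrime_bot⟩ : PrimeSpectrum A) < l₁.head := by
    refine lt_of_lt_of_le (b := (⟨p, ‹_›⟩ : PrimeSpectrum A)) (bot_lt_iff_ne_bot.2 hne : (⊥ : Ideal A) < p) ?_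
    intro a ha
    show (Ideal.Quotient.mk p) a ∈ l₀.head.asIdeal
    rw [Ideal.Quotient.eq_zero_iff_mem.2 ha]
    exact Ideal.zero_mem _
  let l₂ := l₁.cons _ hbot
  have hlast : l₂.last ≤ (⟨m, ‹_›⟩ : PrimeSpectrum A) := by
    have e1 : l₂.last = PrimeSpectrum.comap (Ideal.Quotient.mk p) l₀.last := by simp [l₂, l₁]
    rw [e1, hl₀]
    show (m.map (Ideal.Quotient.mk p)).comap (Ideal.Quotient.mk p) ≤ m
    rw [comap_map_eq Ideal.Quotient.mk_surjective (by rwa [Ideal.mk_ker])]
  have hm : m.height = Order.height (⟨m, ‹_›⟩ : PrimeSpectrum A) :=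
    PrimeSpectrum.height_eq_orderHeight (⟨m, ‹_›⟩ : PrimeSpectrum A)
  rw [← hlen₀, hm]
  refine le_trans (le_of_eq ?_) (Order.length_le_height hlast)
  simp [l₂, l₁]

variable {A R : Type u} [CommRing A] [CommRing R] [Algebra A R]

/-- Given going down, through each prime over the closed point passes a prime over the generic point whose
quotient is quasi-finite there. -/
theorem exists_qf_prime [IsNoetherianRing A] [IsLocalRing A] [IsDomain A] [IsNoetherianRing R]
    [Algebra.HasGoingDown A R] (P : Ideal R) [P.IsPrime] [P.LiesOver (maximalIdeal A)] :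
    ∃ Q : Ideal R, Q.IsPrime ∧ Q ≤ P ∧ Q.comap (algebraMap A R) = ⊥ ∧
      P ∈ (Q ⊔ (maximalIdeal A).map (algebraMap A R)).minimalPrimes := by
  classical
  let m := maximalIdeal A
  let I := m.map (algebraMap A R)
  let ρ := Ideal.Quotient.mk I
  have hIP : I ≤ P := Ideal.map_le_iff_le_comap.2 (le_of_eq (Ideal.LiesOver.over (p := m) (P := P)))
  have : (P.map ρ).IsPrime := Ideal.map_isPrime_of_surjective Ideal.Quotient.mk_surjective (by rwa [Ideal.mk_ker])
  obtain ⟨s', hs', hcard⟩ := (P.map ρ).exists_finset_card_eq_height_of_isNoetherianRing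
  have hsub : ∀ x ∈ s', ∃ y ∈ P, ρ y = x := fun x hx =>
    (Ideal.mem_map_iff_of_surjective ρ Ideal.Quotient.mk_surjective).1 (hs'.1.2 (Ideal.subset_span hx))
  choose! y hyP hy using hsub
  let t : Finset R := s'.image y
  have htP : (t : Set R) ⊆ P := fun z hz => by
    obtain ⟨x, hx, rfl⟩ := Finset.mem_image.1 hz
    exact hyP x hx
  -- `P` is minimal over `t` and the closed fibre
  have hmin : P ∈ (Ideal.span (t : Set R) ⊔ I).minimalPrimes := by
    refine ⟨⟨‹_›, sup_le (Ideal.span_le.2 htP) hIP⟩, fun P' ⟨hP', hle⟩ hP'P => ?_⟩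
    have hk : RingHom.ker ρ ≤ P' := by rw [Ideal.mk_ker]; exact le_sup_right.trans hle
    have hp' : (P'.map ρ).IsPrime := Ideal.map_isPrime_of_surjective Ideal.Quotient.mk_surjective hk
    have : Ideal.span (s' : Set (R ⧸ I)) ≤ P'.map ρ := Ideal.span_le.2 fun x hx => by
      rw [← hy x hx]
      exact Ideal.mem_map_of_mem ρ (hle (le_sup_left (b := I) (Ideal.subset_span (Finset.mem_image_of_mem y hx))))
    have h2 := hs'.2 ⟨hp', this⟩ (Ideal.map_mono hP'P)
    calc P ≤ (P.map ρ).comap ρ := Ideal.le_comap_map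
      _ ≤ (P'.map ρ).comap ρ := Ideal.comap_mono h2
      _ = P' := comap_map_eq Ideal.Quotient.mk_surjective hk
  -- heights
  let τ := Ideal.Quotient.mk (Ideal.span (t : Set R))
  have hτ : RingHom.ker τ ≤ P := by rw [Ideal.mk_ker]; exact Ideal.span_le.2 htP
  have : (P.map τ).IsPrime := Ideal.map_isPrime_of_surjective Ideal.Quotient.mk_surjective hτ
  have hd : m.height ≤ (P.map τ).height := by
    have h1 : m.height + (P.map ρ).height ≤ (P.map τ).height + (P.map ρ).height := by
      rw [← Ideal.height_eq_height_add_of_liesOver_of_hasGoingDown m P]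
      refine (Ideal.height_le_height_add_encard_of_subset (t : Set R) htP).trans ?_
      gcongr
      rw [← hcard, Set.encard_coe_eq_coe_finsetCard]
      exact_mod_cast Finset.card_image_le
    refine (WithTop.add_le_add_iff_right ?_).1 h1
    exact (Ideal.height_ne_top (Ideal.IsPrime.ne_top inferInstance))
  obtain ⟨l, hl, hlen⟩ := (P.map τ).exists_ltSeries_length_eq_height
  let Q := (l.head).asIdeal.comap τ
  have hQ : Q.IsPrime := Ideal.comap_isPrime τ l.head.asIdeal
  have hQP : Q ≤ P := by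
    have h0 : l.head.asIdeal ≤ P.map τ := by
      have h1 : l.head ≤ l.last := l.head_le_last
      rw [hl] at h1
      exact h1
    calc Q ≤ (P.map τ).comap τ := Ideal.comap_mono h0
      _ = P := comap_map_eq Ideal.Quotient.mk_surjective hτ
  have htQ : Ideal.span (t : Set R) ≤ Q := fun z hz => by
    show τ z ∈ l.head.asIdeal
    rw [Ideal.Quotient.eq_zero_iff_mem.2 hz]
    exact Ideal.zero_mem _
  have hminQ : P ∈ (Q ⊔ I).minimalPrimes :=
    ⟨⟨‹_›, sup_le hQP hIP⟩, fun P' ⟨hP', hle⟩ hP'P =>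
      hmin.2 ⟨hP', (sup_le_sup_right htQ I).trans hle⟩ hP'P⟩
  refine ⟨Q, hQ, hQP, ?_, hminQ⟩
  by_contra hne
  -- the quotient by `Q` would have too small dimension
  let p := Q.comap (algebraMap A R)
  have hp : p.IsPrime := Ideal.comap_isPrime _ Q
  have hpm : p ≤ m := le_maximalIdeal hp.ne_top
  let σ := Ideal.Quotient.mk Q
  let π := Ideal.Quotient.mk p
  have hσ : RingHom.ker σ ≤ P := by rw [Ideal.mk_ker]; exact hQP
  have : (P.map σ).IsPrime := Ideal.map_isPrime_of_surjective Ideal.Quotient.mk_surjective hσ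
  have : (m.map π).IsPrime := Ideal.map_isPrime_of_surjective Ideal.Quotient.mk_surjective (by rwa [Ideal.mk_ker])
  let alg : Algebra (A ⧸ p) (R ⧸ Q) := (Ideal.quotientMap Q (algebraMap A R) le_rfl).toAlgebra
  have hmem : ∀ {x : R}, σ x ∈ P.map σ ↔ x ∈ P := fun {x} => by
    rw [← Ideal.mem_comap, comap_map_eq Ideal.Quotient.mk_surjective hσ]
  have : (P.map σ).LiesOver (m.map π) := ⟨by
    ext a
    obtain ⟨a, rfl⟩ := Ideal.Quotient.mk_surjective a
    show π a ∈ m.map π ↔ σ (algebraMap A R a) ∈ P.map σ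
    rw [hmem, ← Ideal.mem_comap, comap_map_eq Ideal.Quotient.mk_surjective
      (show RingHom.ker π ≤ m by rwa [Ideal.mk_ker]), Ideal.LiesOver.over (p := m) (P := P)]
    rfl⟩
  have hz : ((P.map σ).map (Ideal.Quotient.mk ((m.map π).map (algebraMap (A ⧸ p) (R ⧸ Q))))).height = 0 := by
    have e : (m.map π).map (algebraMap (A ⧸ p) (R ⧸ Q)) = (Q ⊔ I).map σ := by
      rw [Ideal.map_map, Ideal.map_sup, Ideal.map_quotient_self, bot_sup_eq, Ideal.map_map]
      rfl
    rw [e]
    let μ := Ideal.Quotient.mk ((Q ⊔ I).map σ)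
    have hk : RingHom.ker μ ≤ P.map σ := by rw [Ideal.mk_ker]; exact Ideal.map_mono (sup_le hQP hIP)
    have : ((P.map σ).map μ).IsPrime := Ideal.map_isPrime_of_surjective Ideal.Quotient.mk_surjective hk
    rw [Ideal.height_eq_zero_iff]
    refine ⟨⟨this, bot_le⟩, fun J ⟨hJ, _⟩ hJP => ?_⟩
    have hJ' : ((J.comap μ).comap σ).IsPrime := by
      have := Ideal.comap_isPrime μ J
      exact Ideal.comap_isPrime σ _
    have h0 : Q ⊔ I ≤ (J.comap μ).comap σ := fun x hx => by
      show μ (σ x) ∈ J
      rw [Ideal.Quotient.eq_zero_iff_mem.2 (Ideal.mem_map_of_mem σ hx)]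
      exact J.zero_mem
    have h1 : (J.comap μ).comap σ ≤ P := fun x hx => by
      have hx' : μ (σ x) ∈ (P.map σ).map μ := hJP hx
      rw [← Ideal.mem_comap, comap_map_eq Ideal.Quotient.mk_surjective hk] at hx'
      exact hmem.1 hx'
    have h2 := hminQ.2 ⟨hJ', h0⟩ h1
    refine Ideal.map_le_iff_le_comap.2 (Ideal.map_le_iff_le_comap.2 h2)
  have hle : (P.map σ).height ≤ (m.map π).height := by
    simpa only [hz, add_zero] using Ideal.height_le_height_add_of_liesOver (m.map π) (P.map σ)
  -- the chain gives a lower bound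
  have hlow : (l.length : ℕ∞) ≤ (P.map σ).height := by
    refine length_le_height_map Ideal.Quotient.mk_surjective
      (l.map (PrimeSpectrum.comap τ) (RingHom.strictMono_comap_of_surjective Ideal.Quotient.mk_surjective)) ?_ ?_
    · rw [LTSeries.head_map, Ideal.mk_ker]
      exact le_rfl
    · rw [LTSeries.last_map, hl]
      exact le_of_eq (comap_map_eq Ideal.Quotient.mk_surjective hτ)
  have hlt := height_map_add_one_le p m hne hpm
  have hfin : m.height ≠ ⊤ := Ideal.height_ne_top (maximalIdeal.isMaximal A).ne_top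
  have key : (m.map π).height + 1 ≤ (m.map π).height :=
    hlt.trans (hd.trans ((le_of_eq hlen.symm).trans (hlow.trans hle)))
  have hf2 : (m.map π).height ≠ ⊤ := Ideal.height_ne_top (Ideal.IsPrime.ne_top inferInstance)
  exact absurd key (not_le.2 (ENat.lt_add_one_iff hf2 |>.2 le_rfl))

end Groth.Agent.SchDesc82
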