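import Groth.Agent.SchDesc82.QuasiFinite
import Groth.Agent.SchDesc82.QfPrime
import Groth.Agent.MorLib.OpenGeneralizing

/-!
# Finite refinements of universally open morphisms over henselian local rings, and effectivity
-/

universe u

set_option autoImplicit false
set_option backward.isDefEq.respectTransparency false
set_option backward.isDefEq.respectTransparency.types false

open CategoryTheory CategoryTheory.Limits AlgebraicGeometry Opposite Desc

namespace Groth.Agent.SchDesc82

open DescLib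

theorem univSubmersive_of_universallyOpen {S S' : Scheme.{u}} (g : S' ⟶ S) [UniversallyOpen g]
    [Surjective g] : SGA1.UnivSubmersive g := fun _ _ i₁ i₂ f h => by
  have : UniversallyOpen f := MorphismProperty.of_isPullback h.flip ‹UniversallyOpen g›
  have : Surjective f := MorphismProperty.of_isPullback h.flip ‹Surjective g›
  exact f.isOpenMap.isQuotientMap f.continuous f.surjective

theorem locallyQuasiFinite_of_forall {X Y : Scheme.{u}} (g : X ⟶ Y) [LocallyOfFiniteType g]
    (hall : ∀ x, g.QuasiFiniteAt x) : LocallyQuasiFinite g := by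
  rw [locallyQuasiFinite_iff_isDiscrete_preimage_singleton]
  intro y
  rw [isDiscrete_iff_discreteTopology]
  refine discreteTopology_iff_isOpen_singleton.2 fun ⟨x, hx⟩ => ?_
  obtain rfl : g x = y := hx
  have h : IsOpen {g.asFiber x} := Scheme.Hom.quasiFiniteAt_iff_isOpen_singleton_asFiber.1 (hall x)
  rw [← (g.fiberHomeo (g x)).isOpen_image, Set.image_singleton] at h
  simpa [Scheme.Hom.asFiber] using h

/-- An isolated prime in its fibre is a quasi-finite point. -/
theorem quasiFiniteAt_of_minimalPrimes {A R : Type u} [CommRing A] [IsLocalRing A] [CommRing R] [IsNoetherianRing R]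
    (φ : A →+* R) [LocallyOfFiniteType (Spec.map (CommRingCat.ofHom φ))] (P : PrimeSpectrum R)
    (hP : P.asIdeal.comap φ = IsLocalRing.maximalIdeal A) (hmax : P.asIdeal.IsMaximal)
    (hmin : P.asIdeal ∈ ((IsLocalRing.maximalIdeal A).map φ).minimalPrimes) :
    (Spec.map (CommRingCat.ofHom φ)).QuasiFiniteAt P := by
  classical
  let h := Spec.map (CommRingCat.ofHom φ)
  let x : Spec (CommRingCat.of R) := P
  show h.QuasiFiniteAt x
  rw [Scheme.Hom.quasiFiniteAt_iff_isOpen_singleton_asFiber]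
  rw [← (h.fiberHomeo (h x)).isOpen_image, Set.image_singleton]
  let I := (IsLocalRing.maximalIdeal A).map φ
  let N : Set (PrimeSpectrum R) := ⋃ J ∈ (I.minimalPrimes \ {P.asIdeal}), PrimeSpectrum.zeroLocus (J : Set R)
  have hN : IsClosed N :=
    ((I.finite_minimalPrimes_of_isNoetherianRing R).subset Set.sdiff_subset).isClosed_biUnion
      fun J _ => PrimeSpectrum.isClosed_zeroLocus _
  rw [isOpen_induced_iff]
  refine ⟨Nᶜ, hN.isOpen_compl, ?_⟩
  ext ⟨q, hq⟩
  have hq' : (show PrimeSpectrum R from q).asIdeal.comap φ = IsLocalRing.maximalIdeal A :=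
    (congrArg PrimeSpectrum.asIdeal (show h q = h x from hq)).trans hP
  constructor
  · intro hqN
    obtain ⟨J, hJ, hJq⟩ := Ideal.exists_minimalPrimes_le (I := I) (J := (show PrimeSpectrum R from q).asIdeal)
      (Ideal.map_le_iff_le_comap.2 hq'.ge)
    by_cases hJP : J = P.asIdeal
    · refine Subtype.ext ?_
      show q = _
      simp only [Scheme.Hom.asFiber, Homeomorph.apply_symm_apply]
      exact PrimeSpectrum.ext (hmax.eq_of_le (show PrimeSpectrum R from q).isPrime.ne_top (hJP ▸ hJq)).symm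
    · exact absurd (Set.mem_iUnion₂.2 ⟨J, ⟨hJ, hJP⟩, hJq⟩) hqN
  · intro e
    have e' : q = x := by
      have := congrArg Subtype.val e
      simpa [Scheme.Hom.asFiber] using this
    subst e'
    intro hxN
    obtain ⟨J, ⟨hJ, hJP⟩, hJx⟩ := Set.mem_iUnion₂.1 hxN
    exact hJP (le_antisymm hJx (hmin.2 ⟨hJ.1.1, hJ.1.2⟩ hJx))

variable {A : Type u} [CommRing A] [HenselianLocalRing A] [IsNoetherianRing A] {X : Scheme.{u}}
  (g : X ⟶ Spec (CommRingCat.of A)) [LocallyOfFiniteType g] [QuasiCompact g]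

/-- Over a henselian Noetherian local ring, a surjective open morphism of finite type is dominated by a
finite one above each minimal prime. -/
theorem exists_finite_over_minimal [Surjective g] (hopen : IsOpenMap g) (η : Ideal A)
    (hη : η ∈ minimalPrimes A) :
    ∃ (X₁ : Scheme.{u}) (k : X₁ ⟶ X) (_ : IsFinite (k ≫ g)),
      (⟨η, hη.1.1⟩ : PrimeSpectrum A) ∈ Set.range (k ≫ g) := by
  have : CompactSpace X := QuasiCompact.compactSpace_of_compactSpace g
  obtain ⟨x₀, hx₀⟩ := g.surjective (IsLocalRing.closedPoint A)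
  obtain ⟨x, hx, hxc⟩ := ((IsLocalRing.isClosed_singleton_closedPoint A).preimage g.continuous).exists_closed_singleton
    ⟨x₀, hx₀⟩
  have hgx : g x = IsLocalRing.closedPoint A := hx
  obtain ⟨U, hU, hxU, -⟩ := exists_isAffineOpen_mem_and_subset (U := (⊤ : X.Opens)) (x := x) trivial
  let R := Γ(X, U)
  obtain ⟨φ, hφ⟩ := Spec.map_surjective (hU.fromSpec ≫ g)
  let alg : Algebra A R := φ.hom.toAlgebra
  have halg : CommRingCat.ofHom (algebraMap A R) = φ := rfl
  have : LocallyOfFiniteType (Spec.map φ) := by rw [hφ]; infer_instance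
  have : Algebra.FiniteType A R :=
    (HasRingHomProperty.Spec_iff (P := @LocallyOfFiniteType)).1 this
  have : IsNoetherianRing R := Algebra.FiniteType.isNoetherianRing A R
  have : Algebra.HasGoingDown A R := by
    rw [Algebra.HasGoingDown.iff_generalizingMap_primeSpectrumComap]
    exact MorLib.generalizingMap_of_isOpenMap (Spec.map φ) (by
      rw [hφ]
      have : ⇑(hU.fromSpec ≫ g) = ⇑g ∘ ⇑hU.fromSpec := funext fun z => Scheme.Hom.comp_apply _ _ z
      rw [this]
      exact hopen.comp hU.fromSpec.isOpenEmbedding.isOpenMap)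
  let P := hU.primeIdealOf ⟨x, hxU⟩
  have hPx : hU.fromSpec P = x := hU.fromSpec_primeIdealOf ⟨x, hxU⟩
  have hPm : P.asIdeal.comap (algebraMap A R) = IsLocalRing.maximalIdeal A := by
    have : Spec.map φ P = IsLocalRing.closedPoint A := by rw [hφ, Scheme.Hom.comp_apply, hPx, hgx]
    exact congrArg PrimeSpectrum.asIdeal this
  have hPmax : P.asIdeal.IsMaximal := by
    rw [← PrimeSpectrum.isClosed_singleton_iff_isMaximal]
    have h2 : hU.fromSpec ⁻¹' {x} = ({P} : Set ↥(Spec R)) :=
      Set.ext fun y => ⟨fun e => hU.fromSpec.isOpenEmbedding.injective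
        ((show hU.fromSpec y = x from e).trans hPx.symm), fun e => (congrArg hU.fromSpec e).trans hPx⟩
    have := hxc.preimage hU.fromSpec.continuous
    rw [h2] at this
    exact this
  -- the domain case
  let A' := A ⧸ η
  have : η.IsPrime := hη.1.1
  let R' := R ⧸ η.map (algebraMap A R)
  have : Algebra.HasGoingDown A' R' := hasGoingDown_quotient η
  have : IsLocalRing A' := IsLocalRing.of_surjective' (Ideal.Quotient.mk η) Ideal.Quotient.mk_surjective
  let ρ := Ideal.Quotient.mk (η.map (algebraMap A R))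
  have hηP : η.map (algebraMap A R) ≤ P.asIdeal :=
    Ideal.map_le_iff_le_comap.2 ((IsLocalRing.le_maximalIdeal (Ideal.IsPrime.ne_top ‹_›)).trans hPm.ge)
  have hkerρ : RingHom.ker ρ ≤ P.asIdeal := by rw [Ideal.mk_ker]; exact hηP
  let P' := P.asIdeal.map ρ
  have : P'.IsPrime := Ideal.map_isPrime_of_surjective Ideal.Quotient.mk_surjective hkerρ
  have hmA' : IsLocalRing.maximalIdeal A' = (IsLocalRing.maximalIdeal A).map (Ideal.Quotient.mk η) :=
    (IsLocalRing.map_maximalIdeal_of_surjective (Ideal.Quotient.mk η) Ideal.Quotient.mk_surjective).symm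
  have hover : P'.LiesOver (IsLocalRing.maximalIdeal A') := ⟨by
    ext a
    obtain ⟨a, rfl⟩ := Ideal.Quotient.mk_surjective a
    show Ideal.Quotient.mk η a ∈ IsLocalRing.maximalIdeal A' ↔ ρ (algebraMap A R a) ∈ P.asIdeal.map ρ
    rw [hmA', ← Ideal.mem_comap (f := ρ), comap_map_eq Ideal.Quotient.mk_surjective hkerρ,
      ← Ideal.mem_comap (f := Ideal.Quotient.mk η), comap_map_eq Ideal.Quotient.mk_surjective (by
        rw [Ideal.mk_ker]; exact IsLocalRing.le_maximalIdeal (Ideal.IsPrime.ne_top ‹_›))]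
    exact iff_of_eq (congrArg (a ∈ ·) hPm.symm)⟩
  obtain ⟨Q', hQ', hQP', hQ'η, hmin'⟩ := exists_qf_prime (A := A') (R := R') P'
  let Q := Q'.comap ρ
  have hQη : Q.comap (algebraMap A R) = η := by
    ext a
    show ρ (algebraMap A R a) ∈ Q' ↔ a ∈ η
    have : (Ideal.Quotient.mk η a : A') ∈ Q'.comap (algebraMap A' R') ↔ a ∈ η := by
      rw [hQ'η, Ideal.mem_bot, Ideal.Quotient.eq_zero_iff_mem]
    exact this
  have hQP : Q ≤ P.asIdeal := (Ideal.comap_mono hQP').trans (le_of_eq (comap_map_eq Ideal.Quotient.mk_surjective hkerρ))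
  -- the closed subscheme
  let σ := Ideal.Quotient.mk Q
  let ψ : A →+* R ⧸ Q := σ.comp (algebraMap A R)
  have hψ : Spec.map (CommRingCat.ofHom ψ) = Spec.map (CommRingCat.ofHom σ) ≫ hU.fromSpec ≫ g := by
    rw [← hφ, ← Spec.map_comp]
    rfl
  have hkσ : RingHom.ker σ ≤ P.asIdeal := by rw [Ideal.mk_ker]; exact hQP
  let P₁ : PrimeSpectrum (R ⧸ Q) := ⟨P.asIdeal.map σ, Ideal.map_isPrime_of_surjective Ideal.Quotient.mk_surjective hkσ⟩
  have hP₁ : P₁.asIdeal.comap ψ = IsLocalRing.maximalIdeal A := by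
    show (P.asIdeal.map σ).comap (σ.comp (algebraMap A R)) = _
    rw [← Ideal.comap_comap, comap_map_eq Ideal.Quotient.mk_surjective hkσ, hPm]
  have : LocallyOfFiniteType (Spec.map (CommRingCat.ofHom ψ)) := by
    rw [hψ]
    have : IsClosedImmersion (Spec.map (CommRingCat.ofHom σ)) :=
      IsClosedImmersion.spec_of_surjective _ Ideal.Quotient.mk_surjective
    infer_instance
  have hqf : (Spec.map (CommRingCat.ofHom ψ)).QuasiFiniteAt P₁ := by
    refine quasiFiniteAt_of_minimalPrimes ψ P₁ hP₁ ?_ ?_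
    · refine (Ideal.map_eq_top_or_isMaximal_of_surjective σ Ideal.Quotient.mk_surjective hPmax).resolve_left ?_
      exact P₁.isPrime.ne_top
    · refine ⟨⟨P₁.isPrime, Ideal.map_le_iff_le_comap.2 hP₁.ge⟩, fun J ⟨hJ, hmJ⟩ hJP => ?_⟩
      let J₀ := (J.comap σ)
      have hJ₀ : J₀.IsPrime := Ideal.comap_isPrime σ J
      have hQJ : Q ≤ J₀ := fun z hz => by
        show σ z ∈ J
        rw [Ideal.Quotient.eq_zero_iff_mem.2 hz]
        exact J.zero_mem
      have hηJ : RingHom.ker ρ ≤ J₀ := le_trans (fun z hz => by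
        show ρ z ∈ Q'
        rw [RingHom.mem_ker.1 hz]
        exact Q'.zero_mem) hQJ
      have hJ₁ : (J₀.map ρ).IsPrime := Ideal.map_isPrime_of_surjective Ideal.Quotient.mk_surjective hηJ
      have hle : Q' ⊔ (IsLocalRing.maximalIdeal A').map (algebraMap A' R') ≤ J₀.map ρ := by
        refine sup_le ?_ ?_
        · rw [← Ideal.map_comap_of_surjective ρ Ideal.Quotient.mk_surjective Q']
          exact Ideal.map_mono hQJ
        · rw [hmA', Ideal.map_map, Ideal.map_le_iff_le_comap]
          intro a ha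
          show ρ (algebraMap A R a) ∈ J₀.map ρ
          exact Ideal.mem_map_of_mem ρ (show σ (algebraMap A R a) ∈ J from hmJ (Ideal.mem_map_of_mem ψ ha))
      have hJ₀P : J₀ ≤ P.asIdeal :=
        (Ideal.comap_mono hJP).trans (le_of_eq (comap_map_eq Ideal.Quotient.mk_surjective hkσ))
      have h2 : P' ≤ J₀.map ρ := hmin'.2 ⟨hJ₁, hle⟩ (Ideal.map_mono hJ₀P)
      show P.asIdeal.map σ ≤ J
      rw [Ideal.map_le_iff_le_comap]
      calc P.asIdeal ≤ P'.comap ρ := Ideal.le_comap_map
        _ ≤ (J₀.map ρ).comap ρ := Ideal.comap_mono h2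
        _ = J₀ := comap_map_eq Ideal.Quotient.mk_surjective hηJ
  let ψ' := Spec.map (CommRingCat.ofHom ψ)
  let W := ψ'.quasiFiniteLocus
  let h := W.ι ≫ ψ'
  have : LocallyQuasiFinite h := locallyQuasiFinite_of_forall h fun w =>
    Scheme.Hom.quasiFiniteAt_comp_iff_of_isOpenImmersion.2 w.2
  have : IsNoetherianRing (R ⧸ Q) := inferInstance
  have : CompactSpace (W : Scheme.{u}) := by
    have : TopologicalSpace.NoetherianSpace ↥(Spec (CommRingCat.of (R ⧸ Q))) :=
      inferInstanceAs (TopologicalSpace.NoetherianSpace (PrimeSpectrum (R ⧸ Q)))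
    exact isCompact_iff_compactSpace.1 (TopologicalSpace.NoetherianSpace.isCompact (W : Set ↥(Spec (CommRingCat.of (R ⧸ Q)))))
  have : QuasiCompact h := quasiCompact_of_compactSpace _
  obtain ⟨X₁, k, hk, hrange⟩ := exists_finite_refinement h
  have : Q.IsPrime := Ideal.comap_isPrime ρ Q'
  have : IsDomain (R ⧸ Q) := Ideal.Quotient.isDomain Q
  let η₁ : PrimeSpectrum (R ⧸ Q) := ⟨⊥, Ideal.isPrime_bot⟩
  have hspec : (η₁ : Spec (CommRingCat.of (R ⧸ Q))) ⤳ P₁ :=
    (PrimeSpectrum.le_iff_specializes η₁ P₁).1 (bot_le (a := P₁.asIdeal))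
  have hη₁W : (η₁ : Spec (CommRingCat.of (R ⧸ Q))) ∈ W := hspec.mem_open W.isOpen hqf
  have hP₁c : ψ' P₁ = IsLocalRing.closedPoint A := PrimeSpectrum.ext hP₁
  obtain ⟨a, ha⟩ := hrange ⟨P₁, hqf⟩ ⟨η₁, hη₁W⟩
    ((W.ι.isOpenEmbedding.isInducing.specializes_iff (x := (⟨η₁, hη₁W⟩ : W)) (y := ⟨P₁, hqf⟩)).1 hspec)
    ((Scheme.Hom.comp_apply _ _ _).trans hP₁c)
  have he : (k ≫ W.ι ≫ Spec.map (CommRingCat.ofHom σ) ≫ hU.fromSpec) ≫ g = k ≫ h := by
    simp only [h, ψ', hψ, Category.assoc]
  refine ⟨X₁, k ≫ W.ι ≫ Spec.map (CommRingCat.ofHom σ) ≫ hU.fromSpec, he ▸ hk, a, ?_⟩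
  rw [he, Scheme.Hom.comp_apply, ha]
  refine PrimeSpectrum.ext ?_
  show (⊥ : Ideal (R ⧸ Q)).comap (σ.comp (algebraMap A R)) = η
  rw [← Ideal.comap_comap, ← RingHom.ker_eq_comap_bot, Ideal.mk_ker, hQη]

/-- Over a henselian Noetherian local ring, a surjective open morphism of finite type is refined by a finite
surjective one. -/
theorem exists_finite_surjective_refinement [Surjective g] (hopen : IsOpenMap g) :
    ∃ (X₁ : Scheme.{u}) (k : X₁ ⟶ X), IsFinite (k ≫ g) ∧ Surjective (k ≫ g) := by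
  let ι := {η : Ideal A // η ∈ minimalPrimes A}
  have : Finite ι := (minimalPrimes.finite_of_isNoetherianRing A).to_subtype
  choose Y k hk hmem using fun η : ι => exists_finite_over_minimal g hopen η.1 η.2
  have hfin : IsFinite (Sigma.desc k ≫ g) := by
    have h := SGA1Q.isFinite_sigmaDesc (Y := Y) (fun η => k η ≫ g) hk
    convert h using 1
    exact Sigma.hom_ext _ _ fun i => by simp
  refine ⟨∐ Y, Sigma.desc k, hfin, ⟨fun p => ?_⟩⟩
  obtain ⟨η, hη, hle⟩ := Ideal.exists_minimalPrimes_le (I := (⊥ : Ideal A))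
    (J := (show PrimeSpectrum A from p).asIdeal) bot_le
  have h1 : (⟨η, hη.1.1⟩ : PrimeSpectrum A) ∈ Set.range (Sigma.desc k ≫ g) := by
    obtain ⟨a, ha⟩ := hmem ⟨η, hη⟩
    refine ⟨Sigma.ι Y ⟨η, hη⟩ a, ?_⟩
    rw [← Scheme.Hom.comp_apply, Sigma.ι_desc_assoc]
    exact ha
  have := hfin
  exact ((PrimeSpectrum.le_iff_specializes (⟨η, hη.1.1⟩ : PrimeSpectrum A) p).1 hle).mem_closed
    (Sigma.desc k ≫ g).isClosedMap.isClosed_range h1

section main

omit [HenselianLocalRing A] [IsNoetherianRing A] [LocallyOfFiniteType g] [QuasiCompact g] in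
/-- Effectivity follows from a refinement that is integral and surjective over the base. -/
theorem exists_repBy_of_refinement {S S' X₁ : Scheme.{u}} {f : S' ⟶ S} {D : SchDDFam (fun _ : PUnit.{1} => f)}
    (k : X₁ ⟶ S') [IsIntegralHom (k ≫ f)] [Surjective (k ≫ f)]
    [Etale (D.obj PUnit.unit).hom] [QuasiCompact (D.obj PUnit.unit).hom] [IsSeparated (D.obj PUnit.unit).hom] :
    ∃ U : Over S, Etale U.hom ∧ RepBy D U := by
  let g₁ := k ≫ f
  let w : ∀ _ : PUnit.{1}, k ≫ f = g₁ ≫ 𝟙 _ := fun _ => (Category.comp_id _).symm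
  let D₁ := (pullDDFam (f := fun _ : PUnit.{1} => f) (f' := fun _ : PUnit.{1} => g₁)
    (α := fun _ => PUnit.unit) (p' := fun _ => k) w).obj D
  have : Etale (D₁.obj PUnit.unit).hom := inferInstanceAs (Etale (pullback.snd _ _))
  have : QuasiCompact (D₁.obj PUnit.unit).hom := inferInstanceAs (QuasiCompact (pullback.snd _ _))
  have : IsSeparated (D₁.obj PUnit.unit).hom := inferInstanceAs (IsSeparated (pullback.snd _ _))
  obtain ⟨U, -, -, hU, hr⟩ := exists_repBy_of_integral (D := D₁)
  have h := (repBy_pull_iff (D := D) w (univSubmersive_of_universallyClosed g₁) U).1 hr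
  obtain ⟨U', hU'⟩ := exists_repBy (rep_of_repOn h.repOn)
  obtain ⟨I⟩ := hU'.repByOn_id.unique h
  refine ⟨U', ?_, hU'⟩
  rw [← Over.w I.hom]
  infer_instance

omit [HenselianLocalRing A] [IsNoetherianRing A] [LocallyOfFiniteType g] [QuasiCompact g] in
/-- Effectivity along universally open surjective morphisms of finite type over a locally Noetherian base. -/
theorem exists_repBy_of_universallyOpen {S S' : Scheme.{u}} {f : S' ⟶ S}
    {D : SchDDFam (fun _ : PUnit.{1} => f)} [IsLocallyNoetherian S]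
    [LocallyOfFiniteType f] [QuasiCompact f] [UniversallyOpen f] [Surjective f]
    [Etale (D.obj PUnit.unit).hom] [QuasiCompact (D.obj PUnit.unit).hom] [IsSeparated (D.obj PUnit.unit).hom] :
    ∃ U : Over S, QuasiCompact U.hom ∧ IsSeparated U.hom ∧ Etale U.hom ∧ RepBy D U := by
  have hf := univSubmersive_of_universallyOpen f
  have : LocallyOfFinitePresentation f := HTop83.locallyOfFinitePresentation_of_locallyOfFiniteType f
  have : IsLocallyNoetherian S' := LocallyOfFiniteType.isLocallyNoetherian f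
  have : QuasiSeparated f := inferInstance
  have h' : ∀ a : S, ∃ W : S.Opens, a ∈ W ∧ ∃ U : Over (W : Scheme.{u}), Etale U.hom ∧ RepByOn D W.ι U := by
    intro a
    obtain ⟨B, _, _, _, _, _, φ, hφ⟩ := exists_algClosed_extension (S.presheaf.stalk a)
    obtain ⟨_, _⟩ := flat_surjective_spec (CommRingCat.ofHom φ) hφ
    let q := Spec.map (CommRingCat.ofHom φ) ≫ S.fromSpecStalk a
    have : HenselianLocalRing B := henselianLocalRing_of_complete B
    have : Etale ((pullD D q).obj PUnit.unit).hom := inferInstanceAs (Etale (pullback.snd _ _))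
    have : QuasiCompact ((pullD D q).obj PUnit.unit).hom := inferInstanceAs (QuasiCompact (pullback.snd _ _))
    have : IsSeparated ((pullD D q).obj PUnit.unit).hom := inferInstanceAs (IsSeparated (pullback.snd _ _))
    obtain ⟨X₁, k, hk, hks⟩ :=
      exists_finite_surjective_refinement (pullback.snd f q) (pullback.snd f q).isOpenMap
    obtain ⟨U₁, hU₁, hr₁⟩ := exists_repBy_of_refinement (D := pullD D q) k
    obtain ⟨U, hU, hr⟩ := exists_repByOn_of_fpqc hf (S.fromSpecStalk a) _ U₁
      ((repBy_pull_iff (D := D) (fun _ => pullback.condition) (univSubmersive_snd hf q) U₁).1 hr₁)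
    exact exists_repByOn_nhd hf a U hr
  choose W hW hU using h'
  obtain ⟨U, hU', hr⟩ := exists_repBy_of_opens (D := D) W (fun x => ⟨x, hW x⟩) hU
  obtain ⟨h1, h2⟩ := qc_sep_of_repBy hf hr
  exact ⟨U, h1, h2, hU', hr⟩

end main

end Groth.Agent.SchDesc82
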