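import Groth.Agent.SchDesc82.Integral
import Groth.Agent.HensEt88.FinitePart
import Groth.Agent.SGA1Q.SigmaFinite
import Groth.Agent.HTop83.Noeth
import Groth.Agent.DescLib.SubtrSubm
import Mathlib.AlgebraicGeometry.ZariskisMainTheorem
import Mathlib.RingTheory.Henselian

/-!
# Finite refinements of quasi-finite morphisms over henselian local rings, and effectivity
-/

universe u

set_option autoImplicit false
set_option backward.isDefEq.respectTransparency false
set_option backward.isDefEq.respectTransparency.types false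

open CategoryTheory CategoryTheory.Limits AlgebraicGeometry Opposite Desc

namespace Groth.Agent.SchDesc82

open DescLib

theorem henselianLocalRing_of_complete (A : Type u) [CommRing A] [IsLocalRing A]
    [IsAdicComplete (IsLocalRing.maximalIdeal A) A] : HenselianLocalRing A where
  is_henselian f hf a₀ h₁ h₂ :=
    HenselianRing.is_henselian f hf a₀ h₁ (h₂.map (Ideal.Quotient.mk (IsLocalRing.maximalIdeal A)))

variable {A : Type u} [CommRing A] [HenselianLocalRing A] {X : Scheme.{u}}
  (g : X ⟶ Spec (CommRingCat.of A)) [LocallyOfFiniteType g] [QuasiCompact g]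

/-- Over a henselian local ring, a quasi-finite morphism is refined by a finite one through all points
which specialise into the closed fibre. -/
theorem exists_finite_refinement [LocallyQuasiFinite g] :
    ∃ (X₁ : Scheme.{u}) (k : X₁ ⟶ X), IsFinite (k ≫ g) ∧
      ∀ x x' : X, x' ⤳ x → g x = IsLocalRing.closedPoint A → x' ∈ Set.range k := by
  have : CompactSpace X := QuasiCompact.compactSpace_of_compactSpace g
  let 𝒰 := X.affineCover.finiteSubcover
  have key : ∀ i, ∃ W : (𝒰.X i).Opens, IsFinite (W.ι ≫ 𝒰.f i ≫ g) ∧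
      ∀ u : 𝒰.X i, g (𝒰.f i u) = IsLocalRing.closedPoint A → u ∈ W := by
    intro i
    have : IsAffine (𝒰.X i) := inferInstanceAs (IsAffine (X.affineCover.X _))
    have : QuasiCompact (𝒰.f i ≫ g) := quasiCompact_of_compactSpace _
    have : IsSeparated (𝒰.f i ≫ g) := inferInstance
    obtain ⟨W, -, hW, hmem⟩ := HensEt88.exists_finitePart (R := A) (𝒰.f i ≫ g)
    exact ⟨W, hW, fun u hu => hmem u ((Scheme.Hom.comp_apply _ _ _).trans hu)⟩
  choose W hfin hmem using key
  have : Finite 𝒰.I₀ := Finite.of_fintype _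
  let Z : 𝒰.I₀ → Scheme.{u} := fun i => (W i : Scheme.{u})
  refine ⟨∐ Z, Sigma.desc fun i => (W i).ι ≫ 𝒰.f i, ?_, fun x x' hx' hx => ?_⟩
  · have h := SGA1Q.isFinite_sigmaDesc (Y := Z) (fun i => (W i).ι ≫ 𝒰.f i ≫ g) hfin
    convert h using 1
    exact Sigma.hom_ext _ _ fun i => by simp
  · obtain ⟨i, u, rfl⟩ := 𝒰.exists_eq x
    obtain ⟨u', rfl⟩ : x' ∈ Set.range (𝒰.f i) :=
      hx'.mem_open (𝒰.f i).isOpenEmbedding.isOpen_range ⟨u, rfl⟩
    have hu' : u' ∈ W i :=
      ((𝒰.f i).isOpenEmbedding.isInducing.specializes_iff.1 hx').mem_open (W i).isOpen (hmem i u hx)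
    refine ⟨Sigma.ι Z i ⟨u', hu'⟩, ?_⟩
    rw [← Scheme.Hom.comp_apply, Sigma.ι_desc, Scheme.Hom.comp_apply]
    rfl

omit [HenselianLocalRing A] [QuasiCompact g] in
/-- A morphism of finite type with finite closed fibre into which every point specialises is quasi-finite. -/
theorem locallyQuasiFinite_of_specializes [IsLocalRing A]
    (hfin : (g ⁻¹' {IsLocalRing.closedPoint A}).Finite)
    (hsp : ∀ t : X, ∃ x : X, g x = IsLocalRing.closedPoint A ∧ t ⤳ x) : LocallyQuasiFinite g := by
  have hall : ∀ x : X, g.QuasiFiniteAt x := fun t => by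
    obtain ⟨x, hx, htx⟩ := hsp t
    refine htx.mem_open g.isOpen_quasiFiniteAt ?_
    show g.QuasiFiniteAt x
    rw [Scheme.Hom.quasiFiniteAt_iff_isOpen_singleton_asFiber]
    have : Finite (g.fiber (g x)) := by
      have : Finite ↥(g ⁻¹' {g x}) := by rw [hx]; exact hfin.to_subtype
      exact Finite.of_equiv _ (g.fiberHomeo (g x)).symm.toEquiv
    exact isOpen_discrete _
  rw [locallyQuasiFinite_iff_isDiscrete_preimage_singleton]
  intro y
  rw [isDiscrete_iff_discreteTopology]
  refine discreteTopology_iff_isOpen_singleton.2 fun ⟨x, hx⟩ => ?_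
  obtain rfl : g x = y := hx
  have h : IsOpen {g.asFiber x} := Scheme.Hom.quasiFiniteAt_iff_isOpen_singleton_asFiber.1 (hall x)
  rw [← (g.fiberHomeo (g x)).isOpen_image, Set.image_singleton] at h
  simpa [Scheme.Hom.asFiber] using h

section effective

variable {D : SchDDFam (fun _ : PUnit.{1} => g)}

/-- Effectivity over a henselian Noetherian local ring. -/
theorem exists_repBy_of_henselian [IsNoetherianRing A] [LocallyQuasiFinite g] (hg : SGA1.UnivSubmersive g)
    [Etale (D.obj PUnit.unit).hom] [QuasiCompact (D.obj PUnit.unit).hom] [IsSeparated (D.obj PUnit.unit).hom] :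
    ∃ U : Over (Spec (CommRingCat.of A)), Etale U.hom ∧ RepBy D U := by
  obtain ⟨X₁, k, hfin, hk⟩ := exists_finite_refinement g
  let g₁ := k ≫ g
  have : IsFinite g₁ := hfin
  have : Surjective g₁ := ⟨fun p => by
    obtain ⟨x, x', hx, e, e'⟩ := (MorphismProperty.universally_le _ _ (univSSubtrusive_of_univSubmersive g hg))
      (IsLocalRing.specializes_closedPoint p)
    obtain ⟨a, rfl⟩ := hk x x' hx e
    exact ⟨a, (Scheme.Hom.comp_apply _ _ _).trans e'⟩⟩
  let w : ∀ _ : PUnit.{1}, k ≫ g = g₁ ≫ 𝟙 _ := fun _ => (Category.comp_id _).symm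
  let D₁ := (pullDDFam (f := fun _ : PUnit.{1} => g) (f' := fun _ : PUnit.{1} => g₁)
    (α := fun _ => PUnit.unit) (p' := fun _ => k) w).obj D
  have : Etale (D₁.obj PUnit.unit).hom := inferInstanceAs (Etale (pullback.snd _ _))
  have : QuasiCompact (D₁.obj PUnit.unit).hom := inferInstanceAs (QuasiCompact (pullback.snd _ _))
  have : IsSeparated (D₁.obj PUnit.unit).hom := inferInstanceAs (IsSeparated (pullback.snd _ _))
  obtain ⟨U, -, -, hU, hr⟩ := exists_repBy_of_integral (D := D₁)
  have h := (repBy_pull_iff (D := D) w (univSubmersive_of_universallyClosed g₁) U).1 hr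
  obtain ⟨U', hU'⟩ := exists_repBy (rep_of_repOn h.repOn)
  obtain ⟨I⟩ := hU'.repByOn_id.unique h
  refine ⟨U', ?_, hU'⟩
  rw [← Over.w I.hom]
  infer_instance

end effective

section main

variable {S S' : Scheme.{u}} {f : S' ⟶ S} {D : SchDDFam (fun _ : PUnit.{1} => f)}

/-- Effectivity along universally submersive quasi-finite morphisms of finite type over a locally Noetherian base. -/
theorem exists_repBy_of_quasiFinite [IsLocallyNoetherian S] (hf : SGA1.UnivSubmersive f)
    [LocallyOfFiniteType f] [QuasiCompact f] [LocallyQuasiFinite f]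
    [Etale (D.obj PUnit.unit).hom] [QuasiCompact (D.obj PUnit.unit).hom] [IsSeparated (D.obj PUnit.unit).hom] :
    ∃ U : Over S, QuasiCompact U.hom ∧ IsSeparated U.hom ∧ Etale U.hom ∧ RepBy D U := by
  have : LocallyOfFinitePresentation f := HTop83.locallyOfFinitePresentation_of_locallyOfFiniteType f
  have : IsLocallyNoetherian S' := LocallyOfFiniteType.isLocallyNoetherian f
  have : QuasiSeparated f := inferInstance
  have h' : ∀ a : S, ∃ W : S.Opens, a ∈ W ∧ ∃ U : Over (W : Scheme.{u}), Etale U.hom ∧ RepByOn D W.ι U := by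
    intro a
    obtain ⟨B, _, _, _, _, _, φ, hφ⟩ := exists_algClosed_extension (S.presheaf.stalk a)
    obtain ⟨_, _⟩ := flat_surjective_spec (CommRingCat.ofHom φ) hφ
    let q := Spec.map (CommRingCat.ofHom φ) ≫ S.fromSpecStalk a
    have : HenselianLocalRing B := henselianLocalRing_of_complete B
    have : Etale ((pullD D q).obj PUnit.unit).hom := inferInstanceAs (Etale (pullback.snd _ _))
    have : QuasiCompact ((pullD D q).obj PUnit.unit).hom := inferInstanceAs (QuasiCompact (pullback.snd _ _))
    have : IsSeparated ((pullD D q).obj PUnit.unit).hom := inferInstanceAs (IsSeparated (pullback.snd _ _))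
    obtain ⟨U₁, hU₁, hr₁⟩ :=
      exists_repBy_of_henselian (pullback.snd f q) (D := pullD D q) (univSubmersive_snd hf q)
    obtain ⟨U, hU, hr⟩ := exists_repByOn_of_fpqc hf (S.fromSpecStalk a) _ U₁
      ((repBy_pull_iff (D := D) (fun _ => pullback.condition) (univSubmersive_snd hf q) U₁).1 hr₁)
    exact exists_repByOn_nhd hf a U hr
  choose W hW hU using h'
  obtain ⟨U, hU', hr⟩ := exists_repBy_of_opens (D := D) W (fun x => ⟨x, hW x⟩) hU
  obtain ⟨h1, h2⟩ := qc_sep_of_repBy hf hr
  exact ⟨U, h1, h2, hU', hr⟩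

end main

end Groth.Agent.SchDesc82

namespace Groth.Agent.SchDesc82

/-- A morphism refined by a universally submersive one is universally submersive. -/
theorem univSubmersive_of_comp {W X S : Scheme.{u}} (k : W ⟶ X) (g : X ⟶ S) (h : SGA1.UnivSubmersive (k ≫ g)) :
    SGA1.UnivSubmersive g := fun X' Y' a b f' sq => by
  have hq := h _ _ _ ((IsPullback.of_hasPullback a k).paste_horiz sq)
  have e : ⇑(pullback.fst a k ≫ f') = ⇑f' ∘ ⇑(pullback.fst a k) :=
    funext fun z => Scheme.Hom.comp_apply _ _ z
  change Topology.IsQuotientMap ⇑(pullback.fst a k ≫ f') at hq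
  rw [e] at hq
  exact Topology.IsQuotientMap.of_comp (pullback.fst a k).continuous f'.continuous hq

end Groth.Agent.SchDesc82
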