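import Mathlib.RingTheory.Unramified.Finite
import Mathlib.RingTheory.Invariant.Basic
import Mathlib.RingTheory.Flat.Stability
import Mathlib.RingTheory.LocalProperties.Exactness

/-!
# An unramified algebra over its ring of invariants is projective

If a finite group acts on an algebra `B` over `A` which is formally unramified and essentially of finite type
and `A` is the ring of invariants, then `B` is a finite projective `A`-module. The inertia groups need not be
trivial: for every `g` the fixed locus of `g` is cut out by an idempotent.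
-/

universe u

set_option autoImplicit false

open TensorProduct

namespace Groth.Agent.SchDesc82.UnramQuot

variable (G A B : Type u) [Group G] [Finite G] [CommRing A] [CommRing B] [Algebra A B] [MulSemiringAction G B]
  [SMulCommClass G A B] [Algebra.EssFiniteType A B] [Algebra.FormallyUnramified A B]

/-- The separability element. -/
noncomputable def sep : B ⊗[A] B :=
  (Algebra.FormallyUnramified.iff_exists_tensorProduct.1 (inferInstance : Algebra.FormallyUnramified A B)).choose

theorem sep_mul (b : B) : ((1 : B) ⊗ₜ[A] b - b ⊗ₜ[A] (1 : B)) * sep A B = 0 :=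
  (Algebra.FormallyUnramified.iff_exists_tensorProduct.1 (inferInstance : Algebra.FormallyUnramified A B)).choose_spec.1 b

theorem sep_one : Algebra.TensorProduct.lmul' A (sep A B) = 1 :=
  (Algebra.FormallyUnramified.iff_exists_tensorProduct.1 (inferInstance : Algebra.FormallyUnramified A B)).choose_spec.2

variable {G}

/-- The graph of a group element. -/
noncomputable def graph (g : G) : B ⊗[A] B →ₐ[A] B :=
  Algebra.TensorProduct.lift (MulSemiringAction.toAlgHom A B g) (AlgHom.id A B) fun _ _ => .all _ _

theorem graph_tmul (g : G) (x y : B) : graph A B g (x ⊗ₜ y) = g • x * y :=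
  Algebra.TensorProduct.lift_tmul _ _ _ x y

/-- The idempotent of the fixed locus of a group element. -/
noncomputable def fix (g : G) : B := graph A B g (sep A B)

theorem fix_one : fix A B (1 : G) = 1 := by
  have : graph A B (1 : G) = Algebra.TensorProduct.lmul' A := Algebra.TensorProduct.ext'
    fun x y => by rw [graph_tmul, one_smul]; simp
  rw [fix, this, sep_one]

theorem fix_mul_sub (g : G) (b : B) : fix A B g * (b - g • b) = 0 := by
  have := congrArg (graph A B g) (sep_mul A B b)
  rw [map_mul, map_sub, graph_tmul, graph_tmul, map_zero, smul_one, one_mul, mul_one] at this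
  rw [fix, mul_comm]
  exact this

theorem mul_fix_of_mul_sub {d : B} (g : G) (h : ∀ b : B, d * (b - g • b) = 0) : d * fix A B g = d := by
  have key : ∀ t : B ⊗[A] B, d * graph A B g t = d * Algebra.TensorProduct.lmul' A t := by
    intro t
    induction t using TensorProduct.induction_on with
    | zero => simp
    | tmul x y =>
      rw [graph_tmul, Algebra.TensorProduct.lmul'_apply_tmul, ← sub_eq_zero, ← mul_sub, ← sub_mul, ← mul_assoc]
      have := h x
      rw [show d * (g • x - x) = -(d * (x - g • x)) by ring, this, neg_zero, zero_mul]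
    | add s t hs ht => rw [map_add, map_add, mul_add, mul_add, hs, ht]
  rw [fix, key, sep_one, mul_one]

theorem fix_idem (g : G) : fix A B g * fix A B g = fix A B g :=
  mul_fix_of_mul_sub A B g (fix_mul_sub A B g)

theorem fix_mul_fix (g h : G) : fix A B g * fix A B h * fix A B (g * h) = fix A B g * fix A B h := by
  refine mul_fix_of_mul_sub A B (g * h) fun b => ?_
  have h1 := fix_mul_sub A B g b
  have h2 := fix_mul_sub A B g (b - h • b)
  have h3 := fix_mul_sub A B h b
  rw [mul_smul, show b - g • h • b = (b - g • b) + ((b - h • b) - ((b - h • b) - g • (b - h • b))) by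
    rw [smul_sub]; ring]
  linear_combination fix A B h * h1 + fix A B g * h3 - fix A B h * h2

theorem fix_inv (g : G) : fix A B g * fix A B g⁻¹ = fix A B g := by
  refine mul_fix_of_mul_sub A B g⁻¹ fun b => ?_
  have := fix_mul_sub A B g (g⁻¹ • b)
  rw [smul_inv_smul] at this
  linear_combination -this

theorem smul_fix (k g : G) : k • fix A B g = fix A B (k * g * k⁻¹) := by
  have key : ∀ k g : G, k • fix A B g * fix A B (k * g * k⁻¹) = k • fix A B g := by
    intro k g
    refine mul_fix_of_mul_sub A B _ fun b => ?_
    have e := congrArg (fun z : B => k • z) (fix_mul_sub A B g (k⁻¹ • b))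
    simp only [smul_mul', smul_sub, smul_zero, smul_inv_smul] at e
    rwa [mul_smul, mul_smul]
  have h1 := key k g
  have h2 := congrArg (fun z : B => k • z) (key k⁻¹ (k * g * k⁻¹))
  simp only [smul_mul', smul_inv_smul, show k⁻¹ * (k * g * k⁻¹) * k⁻¹⁻¹ = g by group] at h2
  rw [← h1, mul_comm]
  exact h2

/-- Sums over the first representatives of the right cosets. -/
theorem sum_first {M : Type*} [AddCommMonoid M] [Fintype G] (H : Subgroup G) (r : G → ℕ)
    (hr : Function.Injective r) (F : G → M) (hF : ∀ h ∈ H, ∀ g, F (h * g) = F g) [DecidablePred fun g => g ∈ H]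
    [Fintype (Quotient (QuotientGroup.rightRel H))] :
    (∑ g : G, if ∀ g', r g' < r g → g * g'⁻¹ ∉ H then F g else 0) =
      ∑ q : Quotient (QuotientGroup.rightRel H), F q.out := by
  classical
  have hex : ∀ q : Quotient (QuotientGroup.rightRel H), ∃ n g, r g = n ∧ Quotient.mk _ g = q := fun q =>
    ⟨_, q.out, rfl, q.out_eq⟩
  have hrel : ∀ a b : G, (QuotientGroup.rightRel H).r a b ↔ b * a⁻¹ ∈ H := fun a b => QuotientGroup.rightRel_apply
  choose g₀ hg₀ hg₀' using fun q => Nat.find_spec (hex q)
  rw [← Finset.sum_filter]
  refine Finset.sum_bij' (fun g _ => Quotient.mk _ g) (fun q _ => g₀ q) (fun _ _ => Finset.mem_univ _)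
    (fun q _ => ?_) (fun g hg => ?_) (fun q _ => hg₀' q) (fun g hg => ?_)
  · rw [Finset.mem_filter]
    refine ⟨Finset.mem_univ _, fun g' hg' hH => ?_⟩
    rw [hg₀] at hg'
    exact Nat.find_min (hex q) hg' ⟨g', rfl, ((Quotient.sound ((hrel _ _).2 hH)).trans (hg₀' q))⟩
  · rw [Finset.mem_filter] at hg
    refine hr (le_antisymm ?_ ?_)
    · rw [hg₀]
      exact Nat.find_min' _ ⟨g, rfl, rfl⟩
    · by_contra hlt
      exact hg.2 _ (not_le.1 hlt) ((hrel _ _).1 (Quotient.exact (hg₀' _)))
  · have h := (hrel _ _).1 (Quotient.exact ((Quotient.mk (QuotientGroup.rightRel H) g).out_eq))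
    rw [← hF _ (inv_mem h) g]
    congr 1
    group

section
variable [Fintype G]

/-- The orderings used for choosing representatives: the unit element comes first. -/
noncomputable def rank (g : G) : ℕ := by
  classical exact if g = 1 then 0 else (Fintype.equivFin G g : ℕ) + 1

theorem rank_injective : Function.Injective (rank (G := G)) := by
  classical
  intro a b h
  unfold rank at h
  split_ifs at h with ha hb hb
  · rw [ha, hb]
  · exact (Fintype.equivFin G).injective (Fin.ext (Nat.succ_injective h))

/-- The locus where a group element is the first representative of its coset of the inertia. -/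
noncomputable def first (g : G) : B :=
  ∏ g' ∈ Finset.univ.filter (fun g' => rank g' < rank g), (1 - fix A B (g * g'⁻¹))

theorem first_mul_fix (g : G) (hg : g ≠ 1) : first A B g * fix A B g = 0 := by
  classical
  have h1 : (1 : G) ∈ Finset.univ.filter (fun g' => rank g' < rank g) := by
    rw [Finset.mem_filter]
    exact ⟨Finset.mem_univ _, by unfold rank; rw [if_pos rfl, if_neg hg]; exact Nat.succ_pos _⟩
  rw [first, ← Finset.mul_prod_erase _ _ h1, inv_one, mul_one, mul_comm, ← mul_assoc, mul_sub, mul_one,
    fix_idem, sub_self, zero_mul]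

theorem first_one : first A B (1 : G) = 1 := by
  classical
  refine Finset.prod_eq_one fun g' hg' => absurd (Finset.mem_filter.1 hg').2 ?_
  unfold rank
  rw [if_pos rfl]
  exact Nat.not_lt_zero _

/-- The sum over the cosets of the inertia. -/
noncomputable def tr : B →ₗ[A] B :=
  ∑ g : G, (LinearMap.mulLeft A (first A B g)).comp (MulSemiringAction.toAlgHom A B g).toLinearMap

theorem tr_apply (b : B) : tr (G := G) A B b = ∑ g : G, first A B g * g • b := by
  rw [tr, LinearMap.sum_apply]
  rfl

theorem smul_tr (k : G) (b : B) : k • tr (G := G) A B b = tr (G := G) A B b := by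
  classical
  -- equality may be checked in the local rings
  suffices ∀ (P : Ideal B) [P.IsMaximal],
      algebraMap B (Localization.AtPrime P) (k • tr (G := G) A B b) = algebraMap B _ (tr (G := G) A B b) from
    Module.eq_of_localization_maximal (fun P _ => Localization.AtPrime P)
      (fun P _ => Algebra.linearMap B (Localization.AtPrime P)) _ _ this
  intro P _
  let φ := algebraMap B (Localization.AtPrime P)
  have hval : ∀ g : G, φ (fix A B g) = if fix A B g ∉ P then 1 else 0 := by
    intro g
    by_cases h : fix A B g ∈ P
    · rw [if_neg (not_not.2 h)]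
      have h' : 1 - fix A B g ∉ P := fun h1 => ‹P.IsMaximal›.ne_top ((Ideal.eq_top_iff_one _).2 (by
        simpa using add_mem h1 h))
      refine (IsLocalization.map_units (Localization.AtPrime P) (⟨_, h'⟩ : P.primeCompl)).mul_right_eq_zero.1 ?_
      rw [← map_mul, sub_mul, one_mul, fix_idem, sub_self, map_zero]
    · rw [if_pos h]
      refine (IsLocalization.map_units (Localization.AtPrime P) (⟨_, h⟩ : P.primeCompl)).mul_left_cancel ?_
      rw [← map_mul, fix_idem, mul_one]
  let H : Subgroup G :=
    { carrier := {g | fix A B g ∉ P}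
      mul_mem' := fun {a b} ha hb hab => by
        have := fix_mul_fix A B a b
        exact (Ideal.IsPrime.mem_or_mem inferInstance
          (show fix A B a * fix A B b ∈ P from this ▸ P.mul_mem_left _ hab)).elim ha hb
      one_mem' := by
        show fix A B (1 : G) ∉ P
        rw [fix_one]
        exact fun h => ‹P.IsMaximal›.ne_top ((Ideal.eq_top_iff_one _).2 h)
      inv_mem' := fun {a} ha hai => ha (fix_inv A B a ▸ P.mul_mem_left _ hai) }
  have hF : ∀ h ∈ H, ∀ g, φ ((h * g) • b) = φ (g • b) := by
    intro h hh g
    have e := congrArg φ (fix_mul_sub A B h (g • b))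
    rw [map_mul, hval, if_pos (show fix A B h ∉ P from hh), one_mul, map_zero, map_sub, sub_eq_zero] at e
    rw [e, mul_smul]
  have hprod : ∀ (r : G → ℕ) (g : G) (t : G → G),
      φ (∏ g' ∈ Finset.univ.filter (fun g' => r g' < r g), (1 - fix A B (t g'))) =
        if ∀ g', r g' < r g → t g' ∉ H then 1 else 0 := by
    intro r g t
    rw [map_prod]
    split_ifs with h
    · refine Finset.prod_eq_one fun g' hg' => ?_
      rw [map_sub, map_one, hval, if_neg (show ¬ fix A B (t g') ∉ P from h g' (Finset.mem_filter.1 hg').2), sub_zero]
    · push Not at h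
      obtain ⟨g', hg', hmem⟩ := h
      refine Finset.prod_eq_zero (Finset.mem_filter.2 ⟨Finset.mem_univ g', hg'⟩) ?_
      rw [map_sub, map_one, hval, if_pos (show fix A B (t g') ∉ P from hmem), sub_self]
  show φ _ = φ _
  rw [tr_apply, Finset.smul_sum, map_sum, map_sum]
  have hs := sum_first H rank rank_injective (fun g => φ (g • b)) hF
  have hs' := sum_first H (fun g => rank (k⁻¹ * g)) (rank_injective.comp (mul_right_injective k⁻¹))
    (fun g => φ (g • b)) hF
  refine (Eq.trans ?_ hs').trans (hs.symm.trans ?_)
  · refine Fintype.sum_equiv (Equiv.mulLeft k) _ _ fun g => ?_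
    rw [smul_mul', map_mul, ← mul_smul, first, Finset.smul_prod']
    simp only [smul_sub, smul_one, smul_fix, Equiv.coe_mulLeft, inv_mul_cancel_left]
    rw [hprod rank g fun g' => k * (g * g'⁻¹) * k⁻¹]
    have hiff : (∀ g', rank g' < rank g → k * (g * g'⁻¹) * k⁻¹ ∉ H) ↔
        ∀ g', rank (k⁻¹ * g') < rank g → k * g * g'⁻¹ ∉ H := by
      refine ⟨fun h g' hg' => ?_, fun h g' hg' => ?_⟩
      · have := h _ hg'
        rwa [show k * (g * (k⁻¹ * g')⁻¹) * k⁻¹ = k * g * g'⁻¹ by group] at this
      · have := h (k * g') (by rwa [inv_mul_cancel_left])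
        rwa [show k * g * (k * g')⁻¹ = k * (g * g'⁻¹) * k⁻¹ by group] at this
    simp only [hiff, ite_mul, one_mul, zero_mul]
  · refine Finset.sum_congr rfl fun g _ => ?_
    rw [map_mul, first, hprod rank g fun g' => g * g'⁻¹, ite_mul, one_mul, zero_mul]

end

variable [Algebra.IsInvariant A B G]

include G in
/-- Finite projectivity. -/
theorem finite_and_projective (hinj : Function.Injective (algebraMap A B)) :
    Module.Finite A B ∧ Module.Projective A B := by
  classical
  have := Fintype.ofFinite G
  obtain ⟨S, hS⟩ := TensorProduct.exists_finset (sep A B)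
  choose a ha using fun b => Algebra.IsInvariant.isInvariant (A := A) (G := G) _ fun k => smul_tr A B k b
  let τ : B →ₗ[A] A :=
    { toFun := a
      map_add' := fun x y => hinj (by rw [map_add, ha, ha, ha, map_add])
      map_smul' := fun c x => hinj (by
        rw [RingHom.id_apply, smul_eq_mul, map_mul, ha, ha, map_smul, Algebra.smul_def]) }
  let s : B →ₗ[A] (S → A) := LinearMap.pi fun i => τ.comp (LinearMap.mulRight A i.1.1)
  let l : (S → A) →ₗ[A] B := Fintype.linearCombination A fun i : S => i.1.2
  have hls : l.comp s = LinearMap.id := by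
    refine LinearMap.ext fun b => ?_
    show Fintype.linearCombination A (fun i : S => i.1.2) (s b) = b
    rw [Fintype.linearCombination_apply]
    have h1 : ∀ i : S, s b i • i.1.2 = ∑ g : G, first A B g * g • b * (g • i.1.1 * i.1.2) := by
      intro i
      rw [Algebra.smul_def, show algebraMap A B (s b i) = tr (G := G) A B (b * i.1.1) from ha _, tr_apply,
        Finset.sum_mul]
      exact Finset.sum_congr rfl fun g _ => by rw [smul_mul']; ring
    simp only [h1]
    rw [Finset.sum_comm]
    have h2 : ∀ g : G, ∑ i : S, first A B g * g • b * (g • i.1.1 * i.1.2) = first A B g * fix A B g * b := by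
      intro g
      rw [← Finset.mul_sum, Finset.sum_coe_sort S fun i => g • i.1 * i.2]
      have : ∑ i ∈ S, g • i.1 * i.2 = fix A B g := by
        rw [fix, hS, map_sum]
        exact Finset.sum_congr rfl fun i _ => (graph_tmul A B g i.1 i.2).symm
      rw [this]
      have := fix_mul_sub A B g b
      linear_combination -(first A B g) * this
    simp only [h2]
    rw [Finset.sum_eq_single (1 : G) (fun g _ hg => by rw [first_mul_fix A B g hg, zero_mul])
      (fun h => absurd (Finset.mem_univ _) h), first_one, fix_one, one_mul, one_mul]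
  exact ⟨Module.Finite.of_surjective l fun b => ⟨s b, congr($hls b)⟩, Module.Projective.of_split s l hls⟩

end Groth.Agent.SchDesc82.UnramQuot
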