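import Groth.Agent.SGA1Q.Properties
import Groth.Agent.SchDesc82.UnramQuot
import Groth.Agent.SrcDescent.Scheme
import Mathlib.AlgebraicGeometry.Morphisms.Etale
import Mathlib.RingTheory.RingHom.Flat

/-!
# Quotients of etale schemes by finite groups
-/

universe u

set_option autoImplicit false
set_option backward.isDefEq.respectTransparency false
set_option backward.isDefEq.respectTransparency.types false

open CategoryTheory CategoryTheory.Limits AlgebraicGeometry

namespace Groth.Agent.SchDesc82.QuotEtale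

variable {X X' : Scheme.{u}} {G : Type u} [Group G] [Finite G] {ρ : G →* Aut X} {p : X ⟶ X'}

/-- An unramified quotient map is flat. -/
theorem flat_of_isQuot [FormallyUnramified p] [IsFinite p] (hp : SGA1.IsQuot ρ p) : Flat p := by
  have := hp.affine
  rw [HasRingHomProperty.iff_appLE (P := @Flat)]
  intro U V e
  have hA : IsAffineOpen (p ⁻¹ᵁ U.1) := U.2.preimage p
  have h₁ : (p.app U.1).hom.Flat := by
    letI := SGA1Q.secAction ρ (p ⁻¹ᵁ U.1) (fun g => SGA1.preimage_le_of_inv ρ p hp.inv g U.1)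
    letI := (p.app U.1).hom.toAlgebra
    obtain ⟨_, _⟩ := SGA1Q.isInvariant_of_isQuot hp U.1
    have : Module.Finite Γ(X', U.1) Γ(X, p ⁻¹ᵁ U.1) := p.finite_app U.1 U.2
    have : Algebra.FormallyUnramified Γ(X', U.1) Γ(X, p ⁻¹ᵁ U.1) := by
      have h := HasRingHomProperty.appLE @FormallyUnramified p ‹_› U ⟨_, hA⟩ le_rfl
      rw [← Scheme.Hom.app_eq_appLE] at h
      exact h
    obtain ⟨_, _⟩ := UnramQuot.finite_and_projective (G := G) Γ(X', U.1) Γ(X, p ⁻¹ᵁ U.1) (hp.injective U.1)
    exact (inferInstance : Module.Flat Γ(X', U.1) Γ(X, p ⁻¹ᵁ U.1))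
  have h₂ : ((𝟙 X : X ⟶ X).appLE (p ⁻¹ᵁ U.1) V.1 e).hom.Flat :=
    HasRingHomProperty.appLE @Flat (𝟙 X) inferInstance ⟨_, hA⟩ V e
  have := RingHom.Flat.stableUnderComposition (p.app U.1).hom _ h₁ h₂
  rwa [← CommRingCat.hom_comp, Scheme.Hom.app_eq_appLE, Scheme.Hom.appLE_comp_appLE,
    SGA1Q.appLE_congr_hom (Category.id_comp p) _ e] at this

/-- Quotient maps and quotients of etale schemes are etale. -/
theorem etale_of_isQuot {Y : Scheme.{u}} [IsLocallyNoetherian Y] (f : X ⟶ Y) [Etale f]
    (hp : SGA1.IsQuot ρ p) (q : X' ⟶ Y) (hq : p ≫ q = f) : Etale p ∧ Etale q := by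
  have := SGA1Q.isFinite_of_isQuot hp hq inferInstance
  have := SGA1Q.locallyOfFiniteType_of_isQuot hp hq inferInstance
  have : IsLocallyNoetherian X' := LocallyOfFiniteType.isLocallyNoetherian q
  have : FormallyUnramified (p ≫ q) := hq ▸ inferInstance
  have : FormallyUnramified p := FormallyUnramified.of_comp p q
  have := flat_of_isQuot hp
  have : LocallyOfFinitePresentation p := LocallyOfFinitePresentation.iff_locallyOfFiniteType.2 inferInstance
  have hpe : Etale p := Etale.of_formallyUnramified_of_flat _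
  have : Surjective p := ⟨SGA1Q.surjective hp⟩
  exact ⟨hpe, SrcDescent.etale_of_etale_comp p q (hq ▸ ‹Etale f›)⟩

end Groth.Agent.SchDesc82.QuotEtale
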