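import Groth.Prelude.Def_SGA1
import Groth.Agent.VarDim.Basic
import Mathlib.RingTheory.RegularLocalRing.Defs
import Mathlib.RingTheory.Ideal.Cotangent
import Mathlib.RingTheory.Smooth.Fiber
import Mathlib.LinearAlgebra.Basis.VectorSpace
import Mathlib.RingTheory.Kaehler.Basic
import Mathlib.RingTheory.Flat.Stability

/-!
# Kummer algebras
-/

universe u

set_option autoImplicit false
set_option backward.isDefEq.respectTransparency false
set_option backward.isDefEq.respectTransparency.types false

open MvPolynomial IsLocalRing

namespace Groth.Agent.SchDesc82.Kummer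

variable {A : Type u} [CommRing A] {r : ℕ} (f : Fin r → A) (n : Fin r → ℕ) [∀ i, NeZero (n i)]

local notation "I" => Ideal.span (Set.range fun i => (X i : MvPolynomial (Fin r) A) ^ n i - C (f i))
local notation "K'" => SGA1.kummerAlg A f n
/-- The reduced exponents. -/
abbrev Box : Type := ∀ i, Fin (n i)

/-- The exponent reduced modulo the orders. -/
def boxOf (e : Fin r →₀ ℕ) : Box n := fun i => ⟨e i % n i, Nat.mod_lt _ (Nat.pos_of_ne_zero (NeZero.ne (n i)))⟩

/-- The coefficient of the reduced monomial. -/
noncomputable def coef (e : Fin r →₀ ℕ) : A := ∏ i, f i ^ (e i / n i)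

/-- Reduction of monomials. -/
noncomputable def red : MvPolynomial (Fin r) A →ₗ[A] (Box n →₀ A) :=
  (basisMonomials (Fin r) A).constr A fun e => Finsupp.single (boxOf n e) (coef f n e)

theorem red_monomial (e : Fin r →₀ ℕ) : red f n (monomial e 1) = Finsupp.single (boxOf n e) (coef f n e) := by
  have h := (basisMonomials (Fin r) A).constr_basis A (fun e => Finsupp.single (boxOf n e) (coef f n e)) e
  rwa [coe_basisMonomials] at h

theorem red_rel (i : Fin r) (p : MvPolynomial (Fin r) A) : red f n (p * (X i ^ n i - C (f i))) = 0 := by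
  classical
  induction p using MvPolynomial.monomial_add_induction_on with
  | C a =>
    have h0 : red f n (X i ^ n i - C (f i)) = 0 := by
      rw [X_pow_eq_monomial, map_sub, red_monomial, C_eq_smul_one, map_smul, ← C_1, show (C (1 : A) : MvPolynomial (Fin r) A) = monomial 0 1 from rfl,
        red_monomial, Finsupp.smul_single, sub_eq_zero]
      congr 1
      · funext j
        refine Fin.ext ?_
        by_cases hj : j = i
        · subst hj; simp [boxOf]
        · simp [boxOf, Finsupp.single_apply, Ne.symm hj]
      · simp only [coef, Finsupp.coe_zero, Pi.zero_apply, Nat.zero_div, pow_zero, Finset.prod_const_one, smul_eq_mul, mul_one]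
        rw [Finset.prod_eq_single i (fun j _ hj => by simp [Finsupp.single_apply, Ne.symm hj]) (by simp)]
        simp [Nat.div_self (Nat.pos_of_ne_zero (NeZero.ne (n i)))]
    rw [← smul_eq_C_mul, map_smul, h0, smul_zero]
  | monomial_add e a p _ _ hp =>
    rw [add_mul, map_add, hp, add_zero, show monomial e a = a • monomial e (1 : A) by rw [smul_monomial, smul_eq_mul, mul_one],
      smul_mul_assoc, map_smul, mul_sub, X_pow_eq_monomial, monomial_mul, mul_one,
      show monomial e (1 : A) * C (f i) = f i • monomial e (1 : A) by rw [smul_eq_C_mul, mul_comm],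
      map_sub, map_smul, red_monomial, red_monomial, Finsupp.smul_single]
    rw [show boxOf n (e + Finsupp.single i (n i)) = boxOf n e by
      funext j
      refine Fin.ext ?_
      by_cases hj : j = i
      · subst hj; simp [boxOf]
      · simp [boxOf, Finsupp.single_apply, Ne.symm hj]]
    have : coef f n (e + Finsupp.single i (n i)) = f i * coef f n e := by
      simp only [coef]
      rw [← Finset.mul_prod_erase _ _ (Finset.mem_univ i), ← Finset.mul_prod_erase _ (fun j => f j ^ (e j / n j)) (Finset.mem_univ i),
        ← mul_assoc, ← pow_succ']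
      congr 1
      · simp [Nat.add_div_right _ (Nat.pos_of_ne_zero (NeZero.ne (n i)))]
      · refine Finset.prod_congr rfl fun j hj => ?_
        simp [Finsupp.single_apply, Ne.symm (Finset.mem_erase.1 hj).1]
    rw [this, smul_eq_mul, sub_self, smul_zero]

theorem red_eq_zero {p : MvPolynomial (Fin r) A} (hp : p ∈ I) : red f n p = 0 := by
  obtain ⟨c, rfl⟩ := Ideal.mem_span_range_iff_exists_fun.1 hp
  rw [map_sum]
  exact Finset.sum_eq_zero fun i _ => red_rel f n i (c i)

/-- The reduced monomials. -/
noncomputable def boxMon (b : Box n) : Fin r →₀ ℕ := Finsupp.equivFunOnFinite.symm fun i => (b i : ℕ)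

theorem mk_monomial (e : Fin r →₀ ℕ) :
    (Ideal.Quotient.mk I (monomial e 1) : K') = coef f n e • Ideal.Quotient.mk I (monomial (boxMon n (boxOf n e)) 1) := by
  have hmon : ∀ e : Fin r →₀ ℕ, (monomial e (1 : A)) = ∏ i, X i ^ e i := fun e => by
    rw [monomial_eq, C_1, one_mul, Finsupp.prod_fintype _ _ fun i => pow_zero _]
  rw [hmon, hmon, map_prod, map_prod, coef, show ∀ (a : A) (z : K'), a • z = algebraMap A K' a * z from fun a z => Algebra.smul_def a z,
    map_prod, ← Finset.prod_mul_distrib]
  refine Finset.prod_congr rfl fun i _ => ?_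
  rw [map_pow, map_pow, map_pow]
  have hX : (Ideal.Quotient.mk I (X i) : K') ^ n i = algebraMap A K' (f i) := by
    rw [← map_pow]
    exact Ideal.Quotient.eq.2 (Ideal.subset_span ⟨i, rfl⟩)
  rw [← hX, ← pow_mul, ← pow_add]
  congr 1
  show e i = n i * (e i / n i) + e i % n i
  exact (Nat.div_add_mod _ _).symm

/-- Reduction on the Kummer algebra. -/
noncomputable def redQ : K' →ₗ[A] (Box n →₀ A) where
  toFun := Quotient.lift (red f n) fun p p' h => by
    have h' : p - p' ∈ I := (Submodule.quotientRel_def _).1 h
    exact sub_eq_zero.1 ((map_sub _ _ _).symm.trans (red_eq_zero f n h'))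
  map_add' := by rintro ⟨p⟩ ⟨q⟩; exact map_add (red f n) p q
  map_smul' := by rintro a ⟨p⟩; exact map_smul (red f n) a p

/-- The basis of reduced monomials. -/
noncomputable def basis : Module.Basis (Box n) A K' :=
  Module.Basis.ofRepr <| LinearEquiv.ofLinearMap (redQ f n)
    (Finsupp.linearCombination A fun b => (Ideal.Quotient.mk I (monomial (boxMon n b) 1) : K'))
    (by
      refine Finsupp.lhom_ext fun b a => ?_
      simp only [LinearMap.comp_apply, Finsupp.linearCombination_single, map_smul, LinearMap.id_apply]
      show a • red f n (monomial (boxMon n b) 1) = _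
      rw [red_monomial, Finsupp.smul_single]
      congr 1
      · funext i
        refine Fin.ext ?_
        show (b i : ℕ) % n i = b i
        exact Nat.mod_eq_of_lt (b i).2
      · have : coef f n (boxMon n b) = 1 := Finset.prod_eq_one fun i _ => by
          rw [show boxMon n b i / n i = 0 from Nat.div_eq_of_lt (b i).2, pow_zero]
        rw [this, smul_eq_mul, mul_one])
    (by
      refine LinearMap.ext fun z => ?_
      obtain ⟨p, rfl⟩ := Ideal.Quotient.mk_surjective z
      induction p using MvPolynomial.induction_on' with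
      | monomial e a =>
        show Finsupp.linearCombination A _ (red f n (monomial e a)) = _
        rw [show monomial e a = a • monomial e (1 : A) by rw [smul_monomial, smul_eq_mul, mul_one], map_smul, map_smul,
          red_monomial, Finsupp.linearCombination_single, LinearMap.id_apply]
        rw [show (Ideal.Quotient.mk I (a • monomial e (1 : A)) : K') = a • Ideal.Quotient.mk I (monomial e 1) from rfl]
        conv_rhs => rw [mk_monomial]
      | add p q hp hq => rw [map_add, map_add, map_add, hp, hq])

theorem free : Module.Free A K' := Module.Free.of_basis (basis f n)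

theorem finite : Module.Finite A K' := Module.Finite.of_basis (basis f n)

theorem algebraMap_injective : Function.Injective (algebraMap A K') := by
  intro a b h
  have hb : ∀ a : A, red f n (C a) = Finsupp.single (boxOf n 0) a := fun a => by
    rw [C_eq_smul_one, map_smul, ← C_1, show (C (1 : A) : MvPolynomial (Fin r) A) = monomial 0 1 from rfl, red_monomial,
      Finsupp.smul_single]
    simp [coef]
  have h2 := red_eq_zero f n (Ideal.Quotient.eq.1 (show Ideal.Quotient.mk I (C a) = Ideal.Quotient.mk I (C b) from h))
  rw [map_sub, hb, hb, sub_eq_zero] at h2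
  exact Finsupp.single_injective _ h2

omit [∀ i, NeZero (n i)] in
theorem gen_pow (i : Fin r) : (Ideal.Quotient.mk I (X i) : K') ^ n i = algebraMap A K' (f i) := by
  rw [← map_pow]
  exact Ideal.Quotient.eq.2 (Ideal.subset_span ⟨i, rfl⟩)

/-- Regularity. -/
theorem isRegularLocalRing [IsRegularLocalRing A] (hm : ∀ i, f i ∈ maximalIdeal A)
    (hf : LinearIndependent (ResidueField A) (fun i => (maximalIdeal A).toCotangent ⟨f i, hm i⟩)) :
    IsRegularLocalRing K' := by
  classical
  haveI := finite f n
  haveI : IsNoetherianRing K' := isNoetherian_of_tower A inferInstance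
  haveI : FaithfulSMul A K' := (faithfulSMul_iff_algebraMap_injective A K').2 (algebraMap_injective f n)
  haveI : Algebra.IsIntegral A K' := Algebra.IsIntegral.of_finite A K'
  let T : Fin r → K' := fun i => Ideal.Quotient.mk I (X i)
  let M : Ideal K' := (maximalIdeal A).map (algebraMap A K') ⊔ Ideal.span (Set.range T)
  have hmem : ∀ Q : Ideal K', Q.IsMaximal → M ≤ Q := fun Q hQ => by
    have h1 : Q.comap (algebraMap A K') = maximalIdeal A := eq_maximalIdeal (Ideal.isMaximal_comap_of_isIntegral_of_isMaximal Q)
    refine sup_le (Ideal.map_le_iff_le_comap.2 h1.ge) (Ideal.span_le.2 ?_)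
    rintro _ ⟨i, rfl⟩
    refine hQ.isPrime.mem_of_pow_mem (n i) ?_
    rw [gen_pow]
    exact h1.ge (hm i)
  have hsurj : ∀ z : K', ∃ a, z - algebraMap A K' a ∈ Ideal.span (Set.range T) := by
    intro z
    obtain ⟨p, rfl⟩ := Ideal.Quotient.mk_surjective z
    induction p using MvPolynomial.induction_on with
    | C a => exact ⟨a, by rw [show (Ideal.Quotient.mk I (C a) : K') = algebraMap A K' a from rfl, sub_self]; exact zero_mem _⟩
    | add p q hp hq =>
      obtain ⟨a, ha⟩ := hp
      obtain ⟨b, hb⟩ := hq
      exact ⟨a + b, by rw [map_add, map_add, add_sub_add_comm]; exact add_mem ha hb⟩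
    | mul_X p i _ =>
      exact ⟨0, by rw [map_zero, sub_zero, map_mul]; exact Ideal.mul_mem_left _ _ (Ideal.subset_span ⟨i, rfl⟩)⟩
  haveI : Nontrivial K' := (algebraMap_injective f n).nontrivial
  have hMmax : ∀ Q : Ideal K', Q.IsMaximal → Q = M := fun Q hQ => le_antisymm (fun z hz => by
    obtain ⟨a, ha⟩ := hsurj z
    have h2 : algebraMap A K' a ∈ Q := by
      have := sub_mem hz (hmem Q hQ (Ideal.mem_sup_right ha))
      rwa [sub_sub_cancel] at this
    have h3 : a ∈ maximalIdeal A :=
      le_maximalIdeal (Ideal.comap_ne_top _ hQ.ne_top) (Ideal.mem_comap.2 h2)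
    have := add_mem (Ideal.mem_sup_right ha : _ ∈ M) (Ideal.mem_sup_left (Ideal.mem_map_of_mem (algebraMap A K') h3))
    rwa [sub_add_cancel] at this) (hmem Q hQ)
  obtain ⟨Q₀, hQ₀⟩ := Ideal.exists_maximal K'
  haveI : IsLocalRing K' := IsLocalRing.of_unique_max_ideal
    ⟨M, hMmax Q₀ hQ₀ ▸ hQ₀, fun Q hQ => hMmax Q hQ⟩
  refine IsRegularLocalRing.of_spanFinrank_maximalIdeal_le (R := K') ?_
  rw [VarDim.ringKrullDim_eq_of_isIntegral (R := A) (S := K'), ← IsRegularLocalRing.spanFinrank_maximalIdeal,
    Nat.cast_le, spanFinrank_maximalIdeal_eq_finrank_cotangentSpace A]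
  let b := Module.Basis.sumExtend hf
  haveI : Finite (Fin r ⊕ Module.Basis.sumExtendIndex hf) := Module.Finite.finite_basis b
  haveI : Finite (Module.Basis.sumExtendIndex hf) := Finite.sum_right (Fin r)
  haveI : Fintype (Module.Basis.sumExtendIndex hf) := Fintype.ofFinite _
  choose g hg using fun x : Module.Basis.sumExtendIndex hf => (maximalIdeal A).toCotangent_surjective x.1
  let gens : Fin r ⊕ Module.Basis.sumExtendIndex hf → K' := Sum.elim T fun x => algebraMap A K' (g x).1
  have hgens : maximalIdeal K' = Ideal.span (Set.range gens) := by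
    rw [← hMmax _ (maximalIdeal.isMaximal K') |>.symm]
    refine le_antisymm (sup_le (Ideal.map_le_iff_le_comap.2 fun a ha => ?_) (Ideal.span_mono ?_)) (Ideal.span_le.2 ?_)
    · let s : Set (maximalIdeal A) := Set.range (Sum.elim (fun i => (⟨f i, hm i⟩ : maximalIdeal A)) g)
      have hs : Submodule.span A s = ⊤ := by
        rw [← CotangentSpace.span_image_eq_top_iff, ← b.span_eq, ← Set.range_comp]
        congr 2
        funext x
        cases x with
        | inl i =>
          rw [show b (Sum.inl i) = (maximalIdeal A).toCotangent ⟨f i, hm i⟩ by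
            simp [b, Module.Basis.sumExtend, Trans.trans]
            rfl]
          rfl
        | inr x =>
          rw [show b (Sum.inr x) = x.1 by
            simp [b, Module.Basis.sumExtend, Trans.trans]
            rfl]
          exact hg x
      have h1 : (⟨a, ha⟩ : maximalIdeal A) ∈ Submodule.span A s := hs ▸ trivial
      rw [Ideal.mem_comap]
      refine Submodule.span_induction (s := s) (p := fun (x : maximalIdeal A) _ => algebraMap A K' (x : A) ∈ Ideal.span (Set.range gens))
        (fun x hx => ?_) (by simp)
        (fun x y _ _ hx hy => by show algebraMap A K' ((x : A) + (y : A)) ∈ _; rw [map_add]; exact add_mem hx hy)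
        (fun c x _ hx => by show algebraMap A K' (c * (x : A)) ∈ _; rw [map_mul]; exact Ideal.mul_mem_left _ _ hx) h1
      obtain ⟨y, rfl⟩ := hx
      cases y with
      | inl i =>
        show algebraMap A K' (f i) ∈ _
        rw [← gen_pow f n i]
        exact Ideal.pow_mem_of_mem _ (Ideal.subset_span (s := Set.range gens) ⟨Sum.inl i, rfl⟩) _ (Nat.pos_of_ne_zero (NeZero.ne (n i)))
      | inr x => exact Ideal.subset_span ⟨Sum.inr x, rfl⟩
    · rintro _ ⟨i, rfl⟩
      exact ⟨Sum.inl i, rfl⟩
    · rintro _ ⟨x | x, rfl⟩
      · exact Ideal.mem_sup_right (Ideal.subset_span ⟨x, rfl⟩)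
      · exact Ideal.mem_sup_left (Ideal.mem_map_of_mem _ (g x).2)
  rw [hgens]
  refine (Submodule.spanFinrank_span_le_ncard_of_finite (Set.finite_range _)).trans ?_
  rw [← Set.image_univ]
  refine (Set.ncard_image_le Set.finite_univ).trans ?_
  rw [Set.ncard_univ, Module.finrank_eq_nat_card_basis b]

omit [∀ i, NeZero (n i)] in
/-- Etaleness away from the branch divisor. -/
theorem formallyUnramified (hn : ∀ i, 1 ≤ n i) (hu : ∀ i, IsUnit ((n i : ℕ) : A)) (L : Type u) [CommRing L]
    [Algebra K' L] [Algebra A L] [IsScalarTower A K' L]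
    [IsLocalization.Away (algebraMap A K' (∏ i, f i)) L] : Algebra.FormallyUnramified A L := by
  refine ⟨subsingleton_of_forall_eq 0 fun w => ?_⟩
  have hw : w ∈ Submodule.span L (Set.range (KaehlerDifferential.D A L)) := by
    rw [KaehlerDifferential.span_range_derivation]; trivial
  suffices h : ∀ x : L, KaehlerDifferential.D A L x = 0 by
    induction hw using Submodule.span_induction with
    | mem x hx => obtain ⟨y, rfl⟩ := hx; exact h y
    | zero => rfl
    | add x y _ _ hx hy => rw [hx, hy, add_zero]
    | smul c x _ hx => rw [hx, smul_zero]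
  have hF : IsUnit (algebraMap K' L (algebraMap A K' (∏ i, f i))) := IsLocalization.Away.algebraMap_isUnit _
  have hT : ∀ i, KaehlerDifferential.D A L (algebraMap K' L (Ideal.Quotient.mk I (X i))) = 0 := by
    intro i
    have hfi : IsUnit (algebraMap A L (f i)) := by
      rw [← IsScalarTower.algebraMap_apply, map_prod] at hF
      exact isUnit_of_dvd_unit (Finset.dvd_prod_of_mem (fun j => algebraMap A L (f j)) (Finset.mem_univ i)) hF
    let t := algebraMap K' L (Ideal.Quotient.mk I (X i))
    have ht : t ^ n i = algebraMap A L (f i) := by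
      rw [← map_pow, gen_pow, ← IsScalarTower.algebraMap_apply]
    have htu : IsUnit t := (isUnit_pow_iff (Nat.one_le_iff_ne_zero.1 (hn i))).1 (ht ▸ hfi)
    have h := congrArg (KaehlerDifferential.D A L) ht
    rw [Derivation.leibniz_pow, Derivation.map_algebraMap, ← Nat.cast_smul_eq_nsmul L, smul_smul] at h
    exact (IsUnit.smul_eq_zero ((map_natCast (algebraMap A L) (n i) ▸ (hu i).map (algebraMap A L)).mul (htu.pow _))).1 h
  have hK : ∀ z : K', KaehlerDifferential.D A L (algebraMap K' L z) = 0 := by
    intro z
    obtain ⟨p, rfl⟩ := Ideal.Quotient.mk_surjective z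
    induction p using MvPolynomial.induction_on with
    | C a =>
      rw [show (Ideal.Quotient.mk I (C a) : K') = algebraMap A K' a from rfl, ← IsScalarTower.algebraMap_apply,
        Derivation.map_algebraMap]
    | add p q hp hq => rw [map_add, map_add, map_add, hp, hq, add_zero]
    | mul_X p i hp => rw [map_mul, map_mul, Derivation.leibniz, hp, hT i, smul_zero, smul_zero, add_zero]
  intro x
  obtain ⟨z, ⟨s, hs⟩, rfl⟩ := IsLocalization.exists_mk'_eq (Submonoid.powers (algebraMap A K' (∏ i, f i))) x
  have h := congrArg (KaehlerDifferential.D A L) (IsLocalization.mk'_spec L z ⟨s, hs⟩)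
  rw [Derivation.leibniz, hK z, hK s, smul_zero, zero_add] at h
  exact ((IsLocalization.map_units L (⟨s, hs⟩ : Submonoid.powers _)).smul_eq_zero).1 h

end Groth.Agent.SchDesc82.Kummer
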