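import Mathlib
import Groth.Agent.SGA1Q.FreeRing

/-!
# Unramified faithfully flat Galois algebras: invariants, traces, normal forms

A finite group `G` acts on an `A`-algebra `B`; we assume that `B` is unramified and faithfully flat,
that the action is free, and that `G` is transitive on the geometric points of `Spec B` over each
geometric point of `Spec A`.  Then `B ⊗ B ≅ ∏ B`, `B^G = A`, the trace is surjective, and `B` has
the expected normal forms for cyclic groups.
-/

set_option autoImplicit false

universe u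

open scoped TensorProduct

namespace Groth.Agent.SchDesc82

namespace Galois

open SGA1Q

variable (G A B : Type u) [Group G] [CommRing A] [CommRing B] [Algebra A B] [MulSemiringAction G B]
  [SMulCommClass G A B]

/-- Every prime of `B ⊗ B` lies on the graph of some element of the group. -/
def Trans : Prop :=
  ∀ q : Ideal (B ⊗[A] B), q.IsPrime → ∃ g : G, ∀ b : B, (1 : B) ⊗ₜ[A] b - (g • b) ⊗ₜ[A] 1 ∈ q

/-- The action is free. -/
def Free : Prop := ∀ g : G, g ≠ 1 → Ideal.span (Set.range fun b : B => b - g • b) = ⊤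

variable {G A B}

/-- `z` agrees with `galMap g z ⊗ 1` modulo any ideal containing the graph of `g`. -/
lemma sub_galMap_mem {g : G} {q : Ideal (B ⊗[A] B)}
    (h : ∀ b : B, (1 : B) ⊗ₜ[A] b - (g • b) ⊗ₜ[A] 1 ∈ q) (z : B ⊗[A] B) :
    z - galMap G B A g z ⊗ₜ[A] 1 ∈ q := by
  induction z using TensorProduct.induction_on with
  | zero => simp
  | tmul x y =>
    have : x ⊗ₜ[A] y - galMap G B A g (x ⊗ₜ y) ⊗ₜ[A] (1 : B) =
        (x ⊗ₜ 1) * ((1 : B) ⊗ₜ[A] y - (g • y) ⊗ₜ[A] 1) := by
      rw [galMap_tmul, mul_sub, Algebra.TensorProduct.tmul_mul_tmul,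
        Algebra.TensorProduct.tmul_mul_tmul, mul_one, one_mul, mul_one]
    rw [this]
    exact q.mul_mem_left _ (h y)
  | add x y hx hy =>
    rw [map_add, TensorProduct.add_tmul, add_sub_add_comm]
    exact q.add_mem hx hy

variable [Algebra.FormallyUnramified A B] [Algebra.EssFiniteType A B]

variable (A) in
/-- The idempotent cutting out the graph of `g`. -/
noncomputable def ind (g : G) : B ⊗[A] B :=
  twistR G B A g⁻¹ (Algebra.FormallyUnramified.elem A B)

lemma ind_mul_tmul (g : G) (y : B) :
    ind A g * ((1 : B) ⊗ₜ[A] y) = ind A g * ((g • y) ⊗ₜ[A] 1) := by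
  have h := congrArg (twistR G B A g⁻¹) (Algebra.FormallyUnramified.one_tmul_mul_elem (R := A) (g • y))
  rw [map_mul, map_mul, twistR_tmul, twistR_tmul, inv_smul_smul, smul_one] at h
  rw [ind, mul_comm, h, mul_comm]

lemma ind_mul (g : G) (z : B ⊗[A] B) : ind A g * z = ind A g * (galMap G B A g z ⊗ₜ[A] 1) := by
  induction z using TensorProduct.induction_on with
  | zero => simp
  | tmul x y =>
    calc ind A g * (x ⊗ₜ[A] y) = (ind A g * ((1 : B) ⊗ₜ[A] y)) * (x ⊗ₜ[A] 1) := by
          rw [mul_assoc, Algebra.TensorProduct.tmul_mul_tmul, one_mul, mul_one]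
      _ = (ind A g * ((g • y) ⊗ₜ[A] 1)) * (x ⊗ₜ[A] 1) := by rw [ind_mul_tmul]
      _ = ind A g * (galMap G B A g (x ⊗ₜ y) ⊗ₜ[A] 1) := by
          rw [galMap_tmul, mul_assoc, Algebra.TensorProduct.tmul_mul_tmul, mul_one, mul_comm x]
  | add x y hx hy => rw [mul_add, hx, hy, map_add, TensorProduct.add_tmul, mul_add]

lemma galMap_ind_self (g : G) : galMap G B A g (ind A g) = 1 := by
  have key : ∀ t, galMap G B A g (twistR G B A g⁻¹ t) = Algebra.TensorProduct.lmul' A t := by
    intro t
    induction t using TensorProduct.induction_on with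
    | zero => simp
    | tmul a b => simp
    | add x y hx hy => simp only [map_add, hx, hy]
  rw [ind, key, Algebra.FormallyUnramified.lmul_elem]

lemma galMap_ind_ne (hfree : Free G B) {g h : G} (hgh : h ≠ g) :
    galMap G B A h (ind A g) = 0 := by
  have hne : h * g⁻¹ ≠ 1 := fun e => hgh (mul_inv_eq_one.1 e)
  have h1 : (1 : B) ∈ Ideal.span (Set.range fun b : B => b - (h * g⁻¹) • b) := by
    rw [hfree _ hne]; trivial
  have h2 : ∀ x ∈ Ideal.span (Set.range fun b : B => b - (h * g⁻¹) • b),
      galMap G B A h (ind A g) * x = 0 := by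
    intro x hx
    induction hx using Submodule.span_induction with
    | mem x hx =>
      obtain ⟨b, rfl⟩ := hx
      have e := congrArg (galMap G B A h) (ind_mul_tmul (A := A) g (g⁻¹ • b))
      rw [map_mul, map_mul, galMap_tmul, galMap_tmul, smul_inv_smul, smul_one, mul_one, one_mul,
        smul_smul] at e
      simp only [mul_sub]
      rw [e, sub_self]
    | zero => rw [mul_zero]
    | add x y _ _ hx hy => rw [mul_add, hx, hy, add_zero]
    | smul c x _ hx => rw [smul_eq_mul, mul_left_comm, hx, mul_zero]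
  simpa using h2 1 h1

variable [Finite G]

/-- `B ⊗ B → ∏_G B` is injective. -/
theorem eq_zero_of_galMap (hfree : Free G B) (htr : Trans G A B) (z : B ⊗[A] B)
    (hz : ∀ g, galMap G B A g z = 0) : z = 0 := by
  classical
  cases nonempty_fintype G
  let e : B ⊗[A] B := 1 - ∑ g : G, (ind A g : B ⊗[A] B)
  have he : ∀ g, galMap G B A g e = 0 := fun g => by
    rw [map_sub, map_one, map_sum, Finset.sum_eq_single g
      (fun h _ hh => galMap_ind_ne (A := A) hfree hh.symm) (by simp), galMap_ind_self, sub_self]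
  have hnil : IsNilpotent e := by
    rw [← mem_nilradical, nilradical_eq_sInf, Submodule.mem_sInf]
    intro q hq
    obtain ⟨g, hg⟩ := htr q hq
    simpa [he g] using sub_galMap_mem hg e
  have hunit : IsUnit (∑ g : G, (ind A g : B ⊗[A] B)) := by
    have : ∑ g : G, (ind A g : B ⊗[A] B) = 1 - e := by rw [sub_sub_cancel]
    rw [this]
    exact hnil.isUnit_one_sub
  refine hunit.mul_right_eq_zero.mp ?_
  rw [Finset.sum_mul]
  exact Finset.sum_eq_zero fun g _ => by rw [ind_mul, hz g]; simp

/-- The invariants are the base ring. -/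
theorem isInvariant [Module.FaithfullyFlat A B] (hfree : Free G B) (htr : Trans G A B) :
    Algebra.IsInvariant A B G := by
  refine ⟨fun b hb => ?_⟩
  have h0 : Algebra.TensorProduct.includeLeftSubRight A B b = 0 := by
    refine eq_zero_of_galMap hfree htr _ fun g => ?_
    rw [Algebra.TensorProduct.includeLeftSubRight_apply, map_sub, galMap_tmul, galMap_tmul,
      smul_one, mul_one, one_mul, hb g, sub_self]
  exact ((Algebra.IsEffective.of_faithfullyFlat A B) b).mp h0

variable (A) in
/-- Finitely many elements expressing the indicator of the unit element. -/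
theorem exists_basis (hfree : Free G B) :
    ∃ S : Finset (B × B), (ind A (1 : G) : B ⊗[A] B) = ∑ p ∈ S, p.1 ⊗ₜ[A] p.2 ∧
      (∑ p ∈ S, p.1 * p.2 = 1) ∧ ∀ g : G, g ≠ 1 → ∑ p ∈ S, p.1 * g • p.2 = 0 := by
  obtain ⟨S, hS⟩ := TensorProduct.exists_finset (ind A (1 : G) : B ⊗[A] B)
  have key : ∀ g, galMap G B A g (ind A 1) = ∑ p ∈ S, p.1 * g • p.2 := fun g => by
    rw [hS, map_sum]; exact Finset.sum_congr rfl fun p _ => galMap_tmul _ _ _ _ _ _
  refine ⟨S, hS, ?_, fun g hg => ?_⟩
  · have h := key 1
    rw [galMap_ind_self] at h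
    simpa using h.symm
  · rw [← key, galMap_ind_ne hfree hg]

omit [Algebra.FormallyUnramified A B] [Algebra.EssFiniteType A B] in
/-- The trace as a map to the invariants. -/
lemma exists_algebraMap_eq_sum [Fintype G] [Algebra.IsInvariant A B G] (b : B) :
    ∃ a : A, algebraMap A B a = ∑ g : G, g • b :=
  Algebra.IsInvariant.isInvariant (A := A) (G := G) _ fun h => by
    rw [Finset.smul_sum]
    simp_rw [smul_smul]
    exact Equiv.sum_comp (Equiv.mulLeft h) fun g => g • b

/-- The trace is surjective. -/
theorem exists_sum_smul_eq_one [Fintype G] [Module.FaithfullyFlat A B] (hfree : Free G B)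
    (htr : Trans G A B) : ∃ c : B, ∑ g : G, g • c = 1 := by
  classical
  haveI := isInvariant hfree htr
  obtain ⟨S, -, hS1, hS⟩ := exists_basis A hfree
  let T : Ideal A :=
    { carrier := {a | ∃ c : B, ∑ g : G, g • c = algebraMap A B a}
      add_mem' := fun {a a'} ⟨c, hc⟩ ⟨c', hc'⟩ => ⟨c + c', by
        simp_rw [smul_add, Finset.sum_add_distrib, hc, hc', map_add]⟩
      zero_mem' := ⟨0, by simp⟩
      smul_mem' := fun r a ⟨c, hc⟩ => ⟨r • c, by
        simp_rw [smul_comm _ r, ← Finset.smul_sum, hc, smul_eq_mul, map_mul, ← Algebra.smul_def]⟩ }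
  have h1 : (1 : B) ∈ T.map (algebraMap A B) := by
    have : ∑ p ∈ S, p.1 * ∑ g : G, g • p.2 = 1 := by
      simp_rw [Finset.mul_sum]
      rw [Finset.sum_comm, Finset.sum_eq_single (1 : G) (fun g _ hg => hS g hg) (by simp)]
      simpa using hS1
    rw [← this]
    refine Ideal.sum_mem _ fun p _ => Ideal.mul_mem_left _ _ ?_
    obtain ⟨a, ha⟩ := exists_algebraMap_eq_sum (A := A) (G := G) p.2
    rw [← ha]
    exact Ideal.mem_map_of_mem _ ⟨p.2, ha.symm⟩
  have h2 : (1 : A) ∈ T := by
    rw [← Ideal.comap_map_eq_self_of_faithfullyFlat (B := B) T, Ideal.mem_comap, map_one]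
    exact h1
  obtain ⟨c, hc⟩ := h2
  exact ⟨c, by rw [hc, map_one]⟩

omit [Algebra.FormallyUnramified A B] [Algebra.EssFiniteType A B] in
/-- Normal form: if `θ` has pairwise unit differences between its conjugates and is a root of a
monic `f` of degree `|G|`, any algebra generated by a root of `f` and mapping `t ↦ θ` is `B`. -/
theorem bijective_of_generator [Algebra.IsInvariant A B G] (hinj : Function.Injective (algebraMap A B))
    (θ : B) (hθ : ∀ g h : G, g ≠ h → IsUnit (g • θ - h • θ))
    {R : Type u} [CommRing R] [Algebra A R] (t : R) (f : Polynomial A) (hf : f.Monic)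
    (hdeg : f.natDegree = Nat.card G) (hroot : Polynomial.aeval t f = 0)
    (hgen : Function.Surjective (Polynomial.aeval (R := A) t))
    (φ : R →ₐ[A] B) (hφ : φ t = θ) : Function.Bijective φ := by
  classical
  cases nonempty_fintype G
  let N := Nat.card G
  let ε : Fin N ≃ G := (Finite.equivFin G).symm
  let M : Matrix (Fin N) (Fin N) B := Matrix.vandermonde fun i => ε i • θ
  have hM : IsUnit M.det := by
    rw [Matrix.det_vandermonde]
    refine IsUnit.prod_iff.mpr fun i _ => IsUnit.prod_iff.mpr fun j hj => ?_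
    exact hθ _ _ fun e => (Finset.mem_Ioi.mp hj).ne' (ε.injective e)
  have hval : ∀ (c : Fin N → B) i, M.mulVec c i = ∑ j : Fin N, (ε i • θ) ^ (j : ℕ) * c j := fun _ _ => rfl
  have hMinj : Function.Injective M.mulVec :=
    Matrix.mulVec_injective_of_isUnit ((Matrix.isUnit_iff_isUnit_det M).mpr hM)
  refine ⟨?_, ?_⟩
  · rw [injective_iff_map_eq_zero]
    intro r hr
    obtain ⟨p, rfl⟩ := hgen r
    rcases subsingleton_or_nontrivial A with hA | hA
    · rw [Subsingleton.elim p 0, map_zero]
    rw [← Polynomial.modByMonic_add_div p f, map_add, map_mul, hroot, zero_mul, add_zero] at hr ⊢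
    have hd : (p %ₘ f).natDegree < N ∨ p %ₘ f = 0 := by
      rcases eq_or_ne (p %ₘ f) 0 with h | h
      · exact Or.inr h
      · exact Or.inl ((Polynomial.natDegree_lt_natDegree h (Polynomial.degree_modByMonic_lt p hf)).trans_eq hdeg)
    rcases hd with hd | hd
    swap
    · rw [hd, map_zero]
    rw [← Polynomial.aeval_algHom_apply, hφ,
      Polynomial.aeval_eq_sum_range' hd] at hr
    suffices h : ∀ j : Fin N, (p %ₘ f).coeff j = 0 by
      rw [Polynomial.aeval_eq_sum_range' hd]
      exact Finset.sum_eq_zero fun j hj => by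
        rw [h ⟨j, Finset.mem_range.mp hj⟩, zero_smul]
    have h0 : M.mulVec (fun j => algebraMap A B ((p %ₘ f).coeff j)) = M.mulVec 0 := by
      funext i
      rw [hval, Matrix.mulVec_zero, Pi.zero_apply]
      have := congrArg (ε i • ·) hr
      simp only [smul_zero, Finset.smul_sum] at this
      rw [← Fin.sum_univ_eq_sum_range (fun j => ε i • (p %ₘ f).coeff j • θ ^ j) N] at this
      rw [← this]
      refine Finset.sum_congr rfl fun j _ => ?_
      rw [smul_comm, smul_pow', Algebra.smul_def, mul_comm]
    exact fun j => hinj ((congrFun (hMinj h0) j).trans (map_zero _).symm)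
  · intro b
    obtain ⟨c, hc⟩ := (Matrix.mulVec_surjective_iff_isUnit.mpr
      ((Matrix.isUnit_iff_isUnit_det M).mpr hM)) fun i => ε i • b
    have hc' : ∀ g : G, ∑ j : Fin N, (g • θ) ^ (j : ℕ) * c j = g • b := fun g => by
      have := congrFun hc (ε.symm g)
      rwa [hval, Equiv.apply_symm_apply] at this
    have hfix : ∀ (h : G) j, h • c j = c j := by
      intro h
      refine congrFun (hMinj (a₁ := fun j => h • c j) (a₂ := c) (funext fun i => ?_))
      rw [hc, hval]
      have := congrArg (h • ·) (hc' (h⁻¹ * ε i))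
      simp only [Finset.smul_sum, smul_mul', smul_pow', smul_smul, mul_inv_cancel_left] at this
      exact this
    choose a ha using fun j => Algebra.IsInvariant.isInvariant (A := A) (G := G) (c j) (fun h => hfix h j)
    refine ⟨∑ j : Fin N, a j • t ^ (j : ℕ), ?_⟩
    have := hc' 1
    simp only [one_smul] at this
    rw [map_sum, ← this]
    exact Finset.sum_congr rfl fun j _ => by
      rw [map_smul, map_pow, hφ, Algebra.smul_def, ha, mul_comm]

end Galois

end Groth.Agent.SchDesc82
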