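import Mathlib
import Groth.Agent.SchDesc82.Galois
import Groth.Prelude.Def_SGA1t

/-!
# Principal covers of affine schemes by commutative groups as Galois algebras
-/

set_option autoImplicit false

universe u v

open CategoryTheory CategoryTheory.Limits AlgebraicGeometry

namespace Groth.Agent.SchDesc82

/-- A Galois algebra presenting a principal cover. -/
structure PrincipalData {A : Type u} [CommRing A] {G : Type u} [CommGroup G]
    (P : FEt.Cat (Spec (CommRingCat.of A))) (ρ : G →* Aut P) where
  /-- the algebra -/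
  B : Type u
  [commRing : CommRing B]
  [algebra : Algebra A B]
  [action : MulSemiringAction G B]
  [comm : SMulCommClass G A B]
  [unramified : Algebra.FormallyUnramified A B]
  [essFiniteType : Algebra.EssFiniteType A B]
  [faithfullyFlat : Module.FaithfullyFlat A B]
  free : Galois.Free G B
  trans : Galois.Trans G A B
  /-- the identification -/
  iso : P.left ≅ Spec (CommRingCat.of B)
  iso_hom : iso.hom ≫ Spec.map (CommRingCat.ofHom (algebraMap A B)) = P.hom
  iso_equiv : ∀ g : G, (ρ g).hom.left ≫ iso.hom =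
    iso.hom ≫ Spec.map (CommRingCat.ofHom (MulSemiringAction.toRingHom G B g))

attribute [instance] PrincipalData.commRing PrincipalData.algebra PrincipalData.action
  PrincipalData.comm PrincipalData.unramified PrincipalData.essFiniteType
  PrincipalData.faithfullyFlat

/-- Principal covers transported along an isomorphism of groups. -/
lemma isPrincipal_comp {Y : Scheme.{u}} {G G' : Type*} [Group G] [Group G'] (e : G' ≃* G)
    {P : FEt.Cat Y} {ρ : G →* Aut P} (hP : SGA1t.IsPrincipal G P ρ) :
    SGA1t.IsPrincipal G' P (ρ.comp e.toMonoidHom) := by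
  refine ⟨hP.1, fun Ω _ _ ξ s t => ?_⟩
  obtain ⟨g, hg, huniq⟩ := hP.2 Ω ξ s t
  refine ⟨e.symm g, ?_, fun g' hg' => e.injective ?_⟩
  · simpa using hg
  · rw [e.apply_symm_apply]
    exact huniq _ hg'

/-- A principal cover of an affine scheme is given by a Galois algebra. -/
theorem exists_principalData {A : Type u} [CommRing A] {G : Type u} [CommGroup G]
    {P : FEt.Cat (Spec (CommRingCat.of A))} {ρ : G →* Aut P} (hP : SGA1t.IsPrincipal G P ρ) :
    Nonempty (PrincipalData P ρ) := by
  let π : P.left ⟶ Spec (CommRingCat.of A) := P.hom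
  have hfin : IsFinite π := P.prop.1
  have het : Etale π := P.prop.2
  haveI : IsAffine P.left := isAffine_of_isAffineHom π
  let B : Type u := Γ(P.left, ⊤)
  let φA : CommRingCat.of A ⟶ Γ(P.left, ⊤) :=
    (Scheme.ΓSpecIso (CommRingCat.of A)).inv ≫ π.appTop
  letI : Algebra A B := φA.hom.toAlgebra
  have hhom : P.left.isoSpec.hom ≫ Spec.map φA = π := by
    rw [Spec.map_comp, ← Category.assoc, Scheme.isoSpec_hom_naturality, Category.assoc]
    simp [Scheme.isoSpec_Spec_hom, ← Spec.map_comp]
  have hσ : ∀ g : G, (ρ g).hom.left ≫ P.left.isoSpec.hom =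
      P.left.isoSpec.hom ≫ Spec.map (ρ g).hom.left.appTop := fun g =>
    (Scheme.isoSpec_hom_naturality _).symm
  have hlin : ∀ g : G, φA ≫ (ρ g).hom.left.appTop = φA := fun g => by
    show _ ≫ _ = _ ≫ _
    rw [Category.assoc, ← Scheme.Hom.comp_appTop]
    exact congrArg (fun f => _ ≫ Scheme.Hom.appTop f) (Over.w (ρ g).hom.hom)
  let act : G →* (B →+* B) :=
    { toFun := fun g => (ρ g).hom.left.appTop.hom
      map_one' := by
        have h1 : (ρ 1).hom.left = 𝟙 P.left := by rw [map_one]; rfl
        rw [h1, Scheme.Hom.id_appTop]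
        rfl
      map_mul' := fun g h => by
        have : (ρ (g * h)).hom.left = (ρ g).hom.left ≫ (ρ h).hom.left := by
          rw [mul_comm, map_mul]; rfl
        rw [this, Scheme.Hom.comp_appTop]
        rfl }
  letI : MulSemiringAction G B :=
    { smul := fun g b => act g b
      one_smul := fun b => congrArg (fun f : B →+* B => f b) (map_one act)
      mul_smul := fun g h b => congrArg (fun f : B →+* B => f b) (map_mul act g h)
      smul_zero := fun g => map_zero (act g)
      smul_add := fun g => map_add (act g)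
      smul_one := fun g => map_one (act g)
      smul_mul := fun g => map_mul (act g) }
  have hsmul : ∀ (g : G) (b : B), g • b = (ρ g).hom.left.appTop b := fun g b => rfl
  haveI : SMulCommClass G A B := ⟨fun g a b => by
    rw [Algebra.smul_def, Algebra.smul_def, hsmul, hsmul, map_mul]
    congr 1
    exact congr(($(hlin g)).hom a)⟩
  have hspec : Spec.map φA = P.left.isoSpec.inv ≫ π := by rw [← hhom, Iso.inv_hom_id_assoc]
  have hsurj : Function.Surjective (Spec.map φA).base := by
    intro y
    obtain ⟨x, hx⟩ := hP.1 y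
    refine ⟨P.left.isoSpec.hom x, ?_⟩
    rw [← Scheme.Hom.comp_apply, hhom]
    exact hx
  have hetA : Etale (Spec.map φA) := by rw [hspec]; infer_instance
  have hfinA : IsFinite (Spec.map φA) := by rw [hspec]; infer_instance
  haveI : Algebra.Etale A B := (HasRingHomProperty.Spec_iff.mp hetA : φA.hom.Etale)
  haveI : Module.Finite A B := (IsFinite.SpecMap_iff _).mp hfinA
  haveI : Module.FaithfullyFlat A B :=
    Module.FaithfullyFlat.of_comap_surjective fun y => hsurj y
  -- geometric points
  let pt : ∀ {K : Type u} [Field K] (κ : B →+* K), Spec (CommRingCat.of K) ⟶ P.left := fun κ =>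
    Spec.map (CommRingCat.ofHom κ) ≫ P.left.isoSpec.inv
  have hpt : ∀ {K : Type u} [Field K] (κ : B →+* K),
      pt κ ≫ π = Spec.map (φA ≫ CommRingCat.ofHom κ) := fun κ => by
    rw [Category.assoc, ← hhom, Iso.inv_hom_id_assoc, ← Spec.map_comp]
  have hmove : ∀ {K : Type u} [Field K] (κ : B →+* K) (g : G),
      pt κ ≫ (ρ g).hom.left = pt (κ.comp (MulSemiringAction.toRingHom G B g)) := fun κ g => by
    rw [← cancel_mono P.left.isoSpec.hom, Category.assoc, hσ g]
    simp only [pt, Category.assoc, Iso.inv_hom_id, Category.comp_id, Iso.inv_hom_id_assoc,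
      ← Spec.map_comp]
    rfl
  refine ⟨{ B := B, free := ?_, trans := ?_, iso := P.left.isoSpec, iso_hom := hhom,
            iso_equiv := hσ }⟩
  · intro g hg
    by_contra hne
    obtain ⟨m, hm, hle⟩ := Ideal.exists_le_maximal _ hne
    letI : Field (B ⧸ m) := Ideal.Quotient.field m
    let K := AlgebraicClosure (B ⧸ m)
    let κ : B →+* K := (algebraMap (B ⧸ m) K).comp (Ideal.Quotient.mk m)
    have hκ : κ.comp (MulSemiringAction.toRingHom G B g) = κ := RingHom.ext fun b => by
      show algebraMap _ K (Ideal.Quotient.mk m (g • b)) = algebraMap _ K (Ideal.Quotient.mk m b)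
      refine congrArg (algebraMap _ K) (Ideal.Quotient.eq.2 ?_)
      rw [← m.neg_mem_iff, neg_sub]
      exact hle (Ideal.subset_span ⟨b, rfl⟩)
    let s : FEt.fiberObj (Spec.map (φA ≫ CommRingCat.ofHom κ)) P := ⟨pt κ, hpt κ⟩
    obtain ⟨g₀, -, huniq⟩ := hP.2 K _ s s
    have h1 : (FEt.fiber (Spec.map (φA ≫ CommRingCat.ofHom κ))).map (ρ g).hom s = s :=
      Subtype.ext ((hmove κ g).trans (by rw [hκ]))
    have h2 : (FEt.fiber (Spec.map (φA ≫ CommRingCat.ofHom κ))).map (ρ 1).hom s = s := by
      rw [map_one]
      exact Subtype.ext (Category.comp_id _)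
    exact hg ((huniq g h1).trans (huniq 1 h2).symm)
  · intro q hq
    haveI := hq
    let K := AlgebraicClosure (FractionRing ((TensorProduct A B B) ⧸ q))
    let κ : TensorProduct A B B →+* K := (algebraMap _ K).comp
      ((algebraMap _ (FractionRing ((TensorProduct A B B) ⧸ q))).comp (Ideal.Quotient.mk q))
    let l : B →+* K := κ.comp Algebra.TensorProduct.includeLeftRingHom
    let r : B →+* K := κ.comp (Algebra.TensorProduct.includeRight (R := A) (A := B) (B := B)).toRingHom
    have hlr : φA ≫ CommRingCat.ofHom r = φA ≫ CommRingCat.ofHom l := by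
      ext a
      show κ ((1 : B) ⊗ₜ[A] algebraMap A B a) = κ (algebraMap A B a ⊗ₜ[A] 1)
      rw [Algebra.TensorProduct.tmul_one_eq_one_tmul]
    let sl : FEt.fiberObj (Spec.map (φA ≫ CommRingCat.ofHom l)) P := ⟨pt l, hpt l⟩
    let sr : FEt.fiberObj (Spec.map (φA ≫ CommRingCat.ofHom l)) P := ⟨pt r, by rw [hpt r, hlr]⟩
    obtain ⟨g, hg, -⟩ := hP.2 K _ sl sr
    have hg' : pt (l.comp (MulSemiringAction.toRingHom G B g)) = pt r :=
      (hmove l g).symm.trans (congrArg Subtype.val hg)
    have h3 : l.comp (MulSemiringAction.toRingHom G B g) = r :=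
      congrArg CommRingCat.Hom.hom (Spec.map_injective ((cancel_mono P.left.isoSpec.inv).mp hg'))
    refine ⟨g, fun b => ?_⟩
    have hker : κ ((1 : B) ⊗ₜ[A] b - (g • b) ⊗ₜ[A] 1) = 0 := by
      rw [map_sub, sub_eq_zero]
      exact (RingHom.congr_fun h3 b).symm
    rw [← Ideal.Quotient.eq_zero_iff_mem]
    exact (map_eq_zero_iff _ (IsFractionRing.injective _ _)).mp
      ((map_eq_zero_iff _ (algebraMap (FractionRing ((TensorProduct A B B) ⧸ q)) K).injective).mp hker)

end Groth.Agent.SchDesc82
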