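import Groth.Agent.SchDesc82.Descend
import Groth.Agent.S2906

/-!
# Effectivity of etale descent data relative to universally submersive morphisms: locality
-/

universe u

set_option autoImplicit false
set_option backward.isDefEq.respectTransparency false
set_option backward.isDefEq.respectTransparency.types false

open CategoryTheory CategoryTheory.Limits AlgebraicGeometry Opposite Desc

namespace Groth.Agent.SchDesc82

open DescLib

variable {S S' S₁ : Scheme.{u}} {g : S' ⟶ S} {D : SchDDFam (fun _ : PUnit.{1} => g)}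

/-- The datum pulled back along `p`. -/
noncomputable abbrev pullD (D : SchDDFam (fun _ : PUnit.{1} => g)) (p : S₁ ⟶ S) :
    SchDDFam (fun _ : PUnit.{1} => pullback.snd g p) :=
  (pullDDFam (f := fun _ : PUnit.{1} => g) (f' := fun _ : PUnit.{1} => pullback.snd g p)
    (α := id) (p := p) (p' := fun _ => pullback.fst g p) (fun _ => pullback.condition)).obj D

theorem univSubmersive_snd (hg : SGA1.UnivSubmersive g) (p : S₁ ⟶ S) :
    SGA1.UnivSubmersive (pullback.snd g p) :=
  SGA1Q.univSubmersive_of_isPullback hg (IsPullback.of_hasPullback g p).flip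

theorem effective_pull_of_repByOn (hg : SGA1.UnivSubmersive g) [Etale (D.obj PUnit.unit).hom]
    (p : S₁ ⟶ S) {U : Over S₁} (h : RepByOn D p U) :
    Nonempty ((toDDFam (fun _ : PUnit.{1} => pullback.snd g p)).obj U ≅ pullD D p) :=
  ((repBy_pull_iff (D := D) (j := p) (k := pullback.fst g p) (fun _ => pullback.condition)
    (univSubmersive_snd hg p) U).2 h).effective

theorem repByOn_of_effective_pull (hg : SGA1.UnivSubmersive g) [Etale (D.obj PUnit.unit).hom]
    (p : S₁ ⟶ S) (U : Over S₁) [Etale U.hom]
    (I : Nonempty ((toDDFam (fun _ : PUnit.{1} => pullback.snd g p)).obj U ≅ pullD D p)) :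
    RepByOn D p U :=
  (repBy_pull_iff (D := D) (j := p) (k := pullback.fst g p) (fun _ => pullback.condition)
    (univSubmersive_snd hg p) U).1 (repBy_of_effective (univSubmersive_snd hg p) U I.some)

/-- An effective etale datum stays effective after base change. -/
theorem effective_pull (hg : SGA1.UnivSubmersive g) [Etale (D.obj PUnit.unit).hom] (U : Over S)
    [Etale U.hom] (I : Nonempty ((toDDFam (fun _ : PUnit.{1} => g)).obj U ≅ D)) (p : S₁ ⟶ S) :
    Nonempty ((toDDFam (fun _ : PUnit.{1} => pullback.snd g p)).obj (Over.mk (pullback.snd U.hom p)) ≅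
      pullD D p) :=
  effective_pull_of_repByOn hg p ((repBy_of_effective hg U I.some).restrict p)

theorem univSubmersive_of_flat (p : S₁ ⟶ S) [Flat p] [Surjective p] [QuasiCompact p] :
    SGA1.UnivSubmersive p := fun _ _ i₁ i₂ f h => by
  have : Flat f := MorphismProperty.of_isPullback h.flip ‹Flat p›
  have : Surjective f := MorphismProperty.of_isPullback h.flip ‹Surjective p›
  have : QuasiCompact f := MorphismProperty.of_isPullback h.flip ‹QuasiCompact p›
  exact Flat.isQuotientMap_of_surjective f

/-- Effectivity in etale separated quasi-compact schemes descends along fpqc maps. -/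
theorem exists_repBy_of_fpqc [Etale (D.obj PUnit.unit).hom] (p : S₁ ⟶ S) [Flat p] [Surjective p]
    [QuasiCompact p] {U₁ : Over S₁} [Etale U₁.hom] [IsSeparated U₁.hom] [QuasiCompact U₁.hom]
    (h : RepByOn D p U₁) :
    ∃ U : Over S, QuasiCompact U.hom ∧ IsSeparated U.hom ∧ Etale U.hom ∧ RepBy D U := by
  obtain ⟨c₁, hu⟩ := h
  have : ∀ i, Etale (D.obj i).hom := fun _ => ‹_›
  have : QuasiCompact (transDD c₁ hu).obj.hom := ‹QuasiCompact U₁.hom›
  have : IsSeparated (transDD c₁ hu).obj.hom := ‹IsSeparated U₁.hom›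
  have : Etale (transDD c₁ hu).obj.hom := ‹Etale U₁.hom›
  obtain ⟨U, h1, h2, h3, ⟨I⟩⟩ := Groth.Agent.S2906.result p (transDD c₁ hu)
  exact ⟨U, h1, h2, h3, repBy_of_transDD c₁ hu (univSubmersive_of_flat p) U I⟩

/-- Effectivity in etale schemes is local on the base. -/
theorem exists_repBy_of_opens {κ : Type u} (V : κ → S.Opens) (hV : ∀ x, ∃ a, x ∈ V a)
    (h : ∀ a, ∃ U : Over (V a : Scheme.{u}), Etale U.hom ∧ RepByOn D (V a).ι U) :
    ∃ U : Over S, Etale U.hom ∧ RepBy D U := by
  choose Ua hUa hrep using h
  obtain ⟨U, hU⟩ := exists_repBy (rep_of_local D V hV fun a => (hrep a).repOn)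
  refine ⟨U, ?_, hU⟩
  have hsup : iSup V = ⊤ := by
    ext x; simpa using hV x
  refine IsZariskiLocalAtTarget.of_iSup_eq_top (P := @Etale) V hsup fun a => ?_
  obtain ⟨I⟩ := (hU.restrict (V a).ι).unique (hrep a)
  have := hUa a
  have h1 : Etale (pullback.snd U.hom (V a).ι) := by
    have : pullback.snd U.hom (V a).ι = I.hom.left ≫ (Ua a).hom := (Over.w I.hom).symm
    rw [this]
    infer_instance
  exact (MorphismProperty.cancel_left_of_respectsIso @Etale (pullbackRestrictIsoRestrict U.hom (V a)).inv _).2 h1

end Groth.Agent.SchDesc82
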