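import Groth.Agent.SchDesc82.Spread

/-!
# Effectivity near a point is effectivity over the local scheme
-/

universe u

set_option autoImplicit false
set_option backward.isDefEq.respectTransparency false
set_option backward.isDefEq.respectTransparency.types false
set_option linter.style.haveILetI false

open CategoryTheory CategoryTheory.Limits AlgebraicGeometry Opposite Desc

namespace Groth.Agent.SchDesc82

open DescLib

variable {S S' : Scheme.{u}} {g : S' ⟶ S} {D : SchDDFam (fun _ : PUnit.{1} => g)}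

/-- A surjective quasi-compact image of a quasi-compact quasi-separated scheme is quasi-compact and
quasi-separated. -/
theorem qcqs_of_surjective {P U : Scheme.{u}} (F : P ⟶ U) [Surjective F] [QuasiCompact F] [CompactSpace P]
    [QuasiSeparatedSpace P] : CompactSpace U ∧ QuasiSeparatedSpace U := by
  refine ⟨F.surjective.compactSpace F.continuous, ⟨fun V V' hV hVc hV' hV'c => ?_⟩⟩
  have h := QuasiSeparatedSpace.inter_isCompact (F ⁻¹' V) (F ⁻¹' V') (hV.preimage F.continuous)
    (QuasiCompact.isCompact_preimage V hV hVc) (hV'.preimage F.continuous)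
    (QuasiCompact.isCompact_preimage V' hV' hV'c)
  rw [← Set.preimage_inter] at h
  have := h.image F.continuous
  rwa [Set.image_preimage_eq _ F.surjective] at this

theorem qcqs_of_triv (hg : SGA1.UnivSubmersive g) [QuasiCompact g] [QuasiSeparated g]
    [QuasiCompact (D.obj PUnit.unit).hom] [QuasiSeparated (D.obj PUnit.unit).hom]
    {W : Scheme.{u}} [IsAffine W] {j : W ⟶ S} {U : Over W}
    {v : pullback (U.hom ≫ j) g ⟶ (D.obj PUnit.unit).left}
    (hv : v ≫ (D.obj PUnit.unit).hom = pullback.snd (U.hom ≫ j) g)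
    (h : IsIso (psi j U v hv)) : QuasiCompact U.hom ∧ QuasiSeparated U.hom := by
  haveI : CompactSpace ↥(pullback ((D.obj PUnit.unit).hom ≫ g) j) :=
    QuasiCompact.compactSpace_of_compactSpace (pullback.snd ((D.obj PUnit.unit).hom ≫ g) j)
  haveI : QuasiSeparatedSpace ↥(pullback ((D.obj PUnit.unit).hom ≫ g) j) :=
    quasiSeparatedSpace_of_quasiSeparated (pullback.snd ((D.obj PUnit.unit).hom ≫ g) j)
  haveI : CompactSpace ↥(pullback (U.hom ≫ j) g) :=
    QuasiCompact.compactSpace_of_compactSpace (psi j U v hv)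
  haveI : QuasiSeparatedSpace ↥(pullback (U.hom ≫ j) g) :=
    quasiSeparatedSpace_of_quasiSeparated (psi j U v hv)
  haveI : Surjective (pullback.fst (U.hom ≫ j) g) := ⟨(SGA1Q.isQuotientMap_fst hg (U.hom ≫ j)).surjective⟩
  obtain ⟨h1, h2⟩ := qcqs_of_surjective (pullback.fst (U.hom ≫ j) g)
  exact ⟨quasiCompact_of_compactSpace _, QuasiSeparated.of_quasiSeparatedSpace _⟩

/-- Representability over the local scheme at a point spreads to a neighbourhood. -/
theorem exists_repByOn_nhd (hg : SGA1.UnivSubmersive g) [LocallyOfFinitePresentation g] [QuasiCompact g]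
    [QuasiSeparated g] [Etale (D.obj PUnit.unit).hom] [QuasiCompact (D.obj PUnit.unit).hom]
    [QuasiSeparated (D.obj PUnit.unit).hom] (a : S) (Ua : Over (Spec (S.presheaf.stalk a))) [Etale Ua.hom]
    (h : RepByOn D (S.fromSpecStalk a) Ua) :
    ∃ W : S.Opens, a ∈ W ∧ ∃ U : Over (W : Scheme.{u}), Etale U.hom ∧ RepByOn D W.ι U := by
  let i : Pi1Ext.SpreadLim.Nbhd S a := Classical.arbitrary _
  let T := Pi1Ext.SpreadLim.specs S a
  let c := Pi1Ext.SpreadLim.cone S a
  have h' : RepByOn D (c.π.app i ≫ Pi1Ext.SpreadLim.toX S a i) (Ua : Over c.pt) := by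
    rw [Pi1Ext.SpreadLim.π_toX]; exact h
  obtain ⟨va, hva, hcoc, hiso⟩ := exists_triv h'
  haveI : IsAffine c.pt := inferInstanceAs (IsAffine (Spec (S.presheaf.stalk a)))
  obtain ⟨h1, h2⟩ := qcqs_of_triv hg (U := (Ua : Over c.pt)) hva hiso
  haveI : Etale (Ua : Over c.pt).hom := ‹Etale Ua.hom›
  obtain ⟨k, U, v, hv, hU, hc, hi⟩ := exists_triv_stage (Pi1Ext.SpreadLim.isLimit S a)
    (Pi1Ext.SpreadLim.toX S a) (fun f => Pi1Ext.SpreadLim.map_toX S a f) hva hcoc hiso
  have hr := (repByOn_of_triv hg hc hi).restrict (k.2.1.isoSpec.hom)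
  refine ⟨k.1, k.2.2, Over.mk (pullback.snd U.hom k.2.1.isoSpec.hom),
    inferInstanceAs (Etale (pullback.snd U.hom k.2.1.isoSpec.hom)), ?_⟩
  have e : k.2.1.isoSpec.hom ≫ Pi1Ext.SpreadLim.toX S a k = k.1.ι := k.2.1.isoSpec_hom_fromSpec
  rw [← e]
  exact hr

/-- Representability near a point restricts to the local scheme. -/
theorem exists_repByOn_stalk {W : S.Opens} {a : S} (ha : a ∈ W) (U : Over (W : Scheme.{u})) [Etale U.hom]
    (h : RepByOn D W.ι U) :
    ∃ U' : Over (Spec (S.presheaf.stalk a)), Etale U'.hom ∧ RepByOn D (S.fromSpecStalk a) U' := by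
  refine ⟨Over.mk (pullback.snd U.hom (W.fromSpecStalkOfMem a ha)),
    inferInstanceAs (Etale (pullback.snd U.hom _)), ?_⟩
  have := h.restrict (W.fromSpecStalkOfMem a ha)
  rwa [Scheme.Opens.fromSpecStalkOfMem_ι] at this

end Groth.Agent.SchDesc82
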