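import Mathlib.RingTheory.Smooth.Local
import Mathlib.RingTheory.Smooth.Locus
import Mathlib.RingTheory.Etale.Kaehler
import Mathlib.RingTheory.Localization.Algebra
import Mathlib.RingTheory.LocalRing.Module
import Mathlib.RingTheory.LocalRing.ResidueField.Ideal

/-!
# The Jacobian criterion at a prime of a quotient
-/

universe u

set_option autoImplicit false
set_option backward.isDefEq.respectTransparency false
set_option backward.isDefEq.respectTransparency.types false

open TensorProduct IsLocalRing

namespace Groth.Agent.SchDesc82.Jacobian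

variable {R A : Type u} [CommRing R] [CommRing A] [Algebra R A]

/-- The differentials at a prime, computed at the local ring. -/
noncomputable def resEquiv (q : Ideal A) [q.IsPrime] :
    q.ResidueField ⊗[A] Ω[A⁄R] ≃ₗ[q.ResidueField] q.ResidueField ⊗[Localization.AtPrime q] Ω[Localization.AtPrime q⁄R] :=
  haveI : Algebra.FormallyEtale A (Localization.AtPrime q) := Algebra.FormallyEtale.of_isLocalization q.primeCompl
  (AlgebraTensorModule.cancelBaseChange A (Localization.AtPrime q) q.ResidueField q.ResidueField Ω[A⁄R]).symm ≪≫ₗ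
    LinearEquiv.baseChange (Localization.AtPrime q) q.ResidueField _ _
      (KaehlerDifferential.tensorKaehlerEquivOfFormallyEtale R A (Localization.AtPrime q))

theorem resEquiv_tmul_D (q : Ideal A) [q.IsPrime] (a : A) :
    resEquiv q ((1 : q.ResidueField) ⊗ₜ KaehlerDifferential.D R A a) =
      (1 : q.ResidueField) ⊗ₜ KaehlerDifferential.D R (Localization.AtPrime q) (algebraMap A _ a) := by
  simp [resEquiv]

variable [IsNoetherianRing A] [Algebra.EssFiniteType R A] (I : Ideal A) (P : Ideal (A ⧸ I)) [P.IsPrime]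

local notation "q₀" => P.comap (Ideal.Quotient.mk I)
local notation "L" => Localization.AtPrime q₀
local notation "J" => Ideal.map (algebraMap A L) I

/-- Smoothness of a quotient at a prime is injectivity of the differential on the ideal modulo the prime. -/
theorem isSmoothAt_iff [Algebra.FormallySmooth R L] :
    ∃ ψ : (Ideal.ResidueField q₀ ⊗[L] J) →ₗ[Ideal.ResidueField q₀] Ideal.ResidueField q₀ ⊗[A] Ω[A⁄R],
      (∀ (g : A) (hg : algebraMap A L g ∈ J), ψ (1 ⊗ₜ ⟨algebraMap A L g, hg⟩) =
          (1 : Ideal.ResidueField q₀) ⊗ₜ[A] KaehlerDifferential.D R A g) ∧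
      (Algebra.IsSmoothAt R P ↔ Function.Injective ψ) := by
  let S := Localization.AtPrime P
  let π := Ideal.Quotient.mk I
  letI : Algebra L S := (Localization.localRingHom q₀ P π rfl).toAlgebra
  haveI : IsScalarTower R L S := .of_algebraMap_eq' <| by
    rw [IsScalarTower.algebraMap_eq R A L, ← RingHom.comp_assoc,
      show (algebraMap L S).comp (algebraMap A L) = (algebraMap (A ⧸ I) S).comp π from
        RingHom.ext fun a => Localization.localRingHom_to_map q₀ P π rfl a, RingHom.comp_assoc]
    rfl
  have hsurj : Function.Surjective (algebraMap L S) := by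
    intro z
    obtain ⟨c, ⟨s, hs⟩, rfl⟩ := IsLocalization.exists_mk'_eq P.primeCompl z
    obtain ⟨c, rfl⟩ := Ideal.Quotient.mk_surjective c
    obtain ⟨s, rfl⟩ := Ideal.Quotient.mk_surjective s
    exact ⟨IsLocalization.mk' _ c (⟨s, hs⟩ : (q₀ : Ideal A).primeCompl), Localization.localRingHom_mk' q₀ P π rfl c _⟩
  have hker : RingHom.ker (algebraMap L S) = J := by
    have hT : Submonoid.map π (q₀ : Ideal A).primeCompl = P.primeCompl := by
      ext y
      refine ⟨fun ⟨x, hx, hxy⟩ => hxy ▸ hx, fun hy => ?_⟩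
      obtain ⟨x, rfl⟩ := Ideal.Quotient.mk_surjective y
      exact ⟨x, hy, rfl⟩
    rw [show algebraMap L S = Localization.localRingHom q₀ P π rfl from rfl, Localization.localRingHom,
      IsLocalization.ker_map S π hT, Ideal.mk_ker]
  haveI : Algebra.FormallyEtale A L := Algebra.FormallyEtale.of_isLocalization (q₀ : Ideal A).primeCompl
  haveI : Algebra.EssFiniteType R L := Algebra.EssFiniteType.comp R A L
  haveI : Module.FinitePresentation L Ω[L⁄R] := Module.finitePresentation_of_projective _ _
  haveI : Module.Free L Ω[L⁄R] := Module.free_of_flat_of_isLocalRing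
  let K := Ideal.ResidueField q₀
  haveI : IsLocalHom (algebraMap L S) := inferInstanceAs (IsLocalHom (Localization.localRingHom q₀ P π rfl))
  have hres : ∀ x ∈ RingHom.ker (algebraMap L S), (residue L) x = 0 := fun x hx =>
    (residue_eq_zero_iff x).2 fun hu => one_ne_zero ((hu.map (algebraMap L S)).mul_left_cancel
      (b := 1) (c := 0) (by rw [mul_one, mul_zero]; exact hx))
  let toK : S →+* K := RingHom.liftOfSurjective (algebraMap L S) hsurj ⟨residue L, hres⟩
  letI : Algebra S K := toK.toAlgebra
  haveI : IsScalarTower L S K := .of_algebraMap_eq fun x =>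
    (congrFun (congrArg DFunLike.coe (RingHom.liftOfSurjective_comp (algebraMap L S) hsurj ⟨residue L, hres⟩)) x).symm
  have h₃ : maximalIdeal S ≤ RingHom.ker (algebraMap S K) := by
    intro y hy
    obtain ⟨x, rfl⟩ := hsurj y
    rw [RingHom.mem_ker, ← IsScalarTower.algebraMap_apply]
    exact (residue_eq_zero_iff x).2 fun hu => hy (hu.map (algebraMap L S))
  have key := Algebra.FormallySmooth.iff_injective_cotangentComplexBaseChange (R := R) (S := S) L K hsurj
    (IsNoetherian.noetherian _) h₃
  let e : (K ⊗[L] J) ≃ₗ[K] K ⊗[L] RingHom.ker (algebraMap L S) :=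
    LinearEquiv.baseChange L K _ _ (LinearEquiv.ofEq _ _ hker.symm)
  refine ⟨(resEquiv q₀).symm.toLinearMap ∘ₗ KaehlerDifferential.cotangentComplexBaseChange R S L K ∘ₗ e.toLinearMap,
    fun g hg => ?_, ?_⟩
  · rw [LinearMap.comp_apply, LinearMap.comp_apply, LinearEquiv.coe_coe, LinearEquiv.coe_coe,
      LinearEquiv.symm_apply_eq, resEquiv_tmul_D,
      show e ((1 : K) ⊗ₜ[L] (⟨algebraMap A L g, hg⟩ : J)) =
        (1 : K) ⊗ₜ[L] (⟨algebraMap A L g, hker.symm ▸ hg⟩ : RingHom.ker (algebraMap L S)) from (by simp [e]; rfl),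
      KaehlerDifferential.cotangentComplexBaseChange_tmul, one_smul, KaehlerDifferential.kerToTensor_apply]
  · refine key.trans ?_
    rw [← LinearMap.comp_assoc]
    rw [LinearMap.coe_comp, LinearMap.coe_comp, LinearEquiv.coe_coe, LinearEquiv.coe_coe]
    exact (((resEquiv q₀).symm.injective.of_comp_iff _).symm).trans
      (Function.Injective.of_comp_iff' _ e.bijective).symm

omit [IsNoetherianRing A] [Algebra.EssFiniteType R A] in
theorem algebraMap_mem {g : A} (h : g ∈ I) : algebraMap A L g ∈ J := Ideal.mem_map_of_mem _ h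

/-- Independent differentials of generators give smoothness. -/
theorem isSmoothAt_of_linearIndependent [Algebra.FormallySmooth R L] (s : Finset A) (hs : (↑s : Set A) ⊆ I)
    (hJ : J = Ideal.span (algebraMap A L '' (s : Set A)))
    (hli : LinearIndependent (Ideal.ResidueField q₀)
      (fun g : ↥s => (1 : Ideal.ResidueField q₀) ⊗ₜ[A] KaehlerDifferential.D R A (g : A))) :
    Algebra.IsSmoothAt R P := by
  obtain ⟨ψ, hψ, h⟩ := isSmoothAt_iff (R := R) I P
  refine h.2 ?_
  let K := Ideal.ResidueField q₀
  let v : ↥s → K ⊗[L] J := fun g => 1 ⊗ₜ ⟨algebraMap A L g, algebraMap_mem I P (hs g.2)⟩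
  have hv : ψ ∘ v = fun g : ↥s => (1 : K) ⊗ₜ[A] KaehlerDifferential.D R A (g : A) := funext fun g => hψ _ _
  have hspan : Submodule.span K (Set.range v) = ⊤ := by
    rw [eq_top_iff]
    rintro t -
    induction t using TensorProduct.induction_on with
    | zero => exact zero_mem _
    | add a b ha hb => exact add_mem ha hb
    | tmul k x =>
      obtain ⟨x, hx⟩ := x
      rw [show k ⊗ₜ[L] (⟨x, hx⟩ : J) = k • ((1 : K) ⊗ₜ[L] (⟨x, hx⟩ : J)) by rw [smul_tmul', smul_eq_mul, mul_one]]
      refine Submodule.smul_mem _ _ ?_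
      have hx' : x ∈ Ideal.span (algebraMap A L '' (s : Set A)) := hJ ▸ hx
      induction hx' using Submodule.span_induction with
      | mem y hy =>
        obtain ⟨g, hg, rfl⟩ := hy
        exact Submodule.subset_span ⟨⟨g, hg⟩, rfl⟩
      | zero => rw [show (⟨0, hx⟩ : J) = 0 from rfl, tmul_zero]; exact zero_mem _
      | add y z hy hz hy' hz' =>
        rw [show (⟨y + z, hx⟩ : J) = ⟨y, hJ.symm ▸ hy⟩ + ⟨z, hJ.symm ▸ hz⟩ from rfl, tmul_add]
        exact add_mem (hy' _) (hz' _)
      | smul c y hy hy' =>
        rw [show (⟨c • y, hx⟩ : J) = c • ⟨y, hJ.symm ▸ hy⟩ from rfl, tmul_smul, ← algebraMap_smul K c]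
        exact Submodule.smul_mem _ _ (hy' _)
  rw [← LinearMap.ker_eq_bot, eq_bot_iff]
  intro t ht
  have hi : LinearIndependent K (ψ ∘ v) := hv ▸ hli
  obtain ⟨c, rfl⟩ := (Submodule.mem_span_range_iff_exists_fun K).1 (hspan ▸ Submodule.mem_top : t ∈ _)
  rw [LinearMap.mem_ker, map_sum] at ht
  simp only [map_smul] at ht
  rw [Submodule.mem_bot]
  exact Finset.sum_eq_zero fun g _ => by rw [Fintype.linearIndependent_iff.1 hi c ht g, zero_smul]

/-- Smoothness gives generators with independent differentials. -/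
theorem exists_linearIndependent [Algebra.FormallySmooth R L] (hP : Algebra.IsSmoothAt R P) :
    ∃ s : Finset A, (↑s : Set A) ⊆ (I : Set A) ∧ J = Ideal.span (algebraMap A L '' (s : Set A)) ∧
      LinearIndependent (Ideal.ResidueField q₀)
        (fun g : ↥s => (1 : Ideal.ResidueField q₀) ⊗ₜ[A] KaehlerDifferential.D R A (g : A)) := by
  classical
  obtain ⟨ψ, hψ, h⟩ := isSmoothAt_iff (R := R) I P
  let K := Ideal.ResidueField q₀
  let w : I → K ⊗[L] J := fun g => 1 ⊗ₜ ⟨algebraMap A L g, algebraMap_mem I P g.2⟩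
  obtain ⟨b, hbr, hbs, hbi⟩ := _root_.exists_linearIndependent K (Set.range w)
  haveI : Module.Finite L J := Module.IsNoetherian.finite L J
  haveI : Finite b := hbi.finite
  haveI := Fintype.ofFinite b
  choose g hg using fun x : b => hbr x.2
  have hginj : Function.Injective fun x : b => (g x : A) := fun x y e => Subtype.ext (by
    rw [← hg x, ← hg y, Subtype.ext e])
  refine ⟨Finset.univ.image fun x : b => (g x : A), ?_, ?_, ?_⟩
  · intro a ha
    obtain ⟨x, -, rfl⟩ := Finset.mem_image.1 (Finset.mem_coe.1 ha)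
    exact (g x).2
  · refine le_antisymm ?_ (Ideal.span_le.2 ?_)
    swap
    · rintro _ ⟨a, ha, rfl⟩
      obtain ⟨x, -, rfl⟩ := Finset.mem_image.1 (Finset.mem_coe.1 ha)
      exact algebraMap_mem I P (g x).2
    let N : Submodule L J := Submodule.span L (Set.range fun x : b =>
      (⟨algebraMap A L (g x), algebraMap_mem I P (g x).2⟩ : J))
    suffices hN : N = ⊤ by
      intro z hz
      have hz' : (⟨z, hz⟩ : J) ∈ N := hN ▸ trivial
      have h1 := Submodule.mem_map_of_mem (f := Submodule.subtype J) hz'
      rw [Submodule.map_span] at h1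
      refine Submodule.span_mono ?_ h1
      rintro _ ⟨_, ⟨x, rfl⟩, rfl⟩
      exact ⟨_, Finset.mem_coe.2 (Finset.mem_image_of_mem _ (Finset.mem_univ x)), rfl⟩
    rw [← IsLocalRing.map_tensorProduct_mk_eq_top]
    rw [eq_top_iff]
    rintro t -
    have htop : Submodule.span K (Set.range w) = ⊤ := by
      rw [eq_top_iff]
      rintro t -
      induction t using TensorProduct.induction_on with
      | zero => exact zero_mem _
      | add a b ha hb => exact add_mem ha hb
      | tmul k x =>
        obtain ⟨x, hx⟩ := x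
        rw [show k ⊗ₜ[L] (⟨x, hx⟩ : J) = k • ((1 : K) ⊗ₜ[L] (⟨x, hx⟩ : J)) by rw [smul_tmul', smul_eq_mul, mul_one]]
        refine Submodule.smul_mem _ _ ?_
        have hx' : x ∈ Ideal.map (algebraMap A L) I := hx
        rw [Ideal.map] at hx'
        induction hx' using Submodule.span_induction with
        | mem y hy =>
          obtain ⟨a, ha, rfl⟩ := hy
          exact Submodule.subset_span ⟨⟨a, ha⟩, rfl⟩
        | zero => rw [show (⟨0, hx⟩ : J) = 0 from rfl, tmul_zero]; exact zero_mem _
        | add y z hy hz hy' hz' =>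
          rw [show (⟨y + z, hx⟩ : J) = ⟨y, hy⟩ + ⟨z, hz⟩ from rfl, tmul_add]
          exact add_mem (hy' _) (hz' _)
        | smul c y hy hy' =>
          rw [show (⟨c • y, hx⟩ : J) = c • ⟨y, hy⟩ from rfl, tmul_smul, ← algebraMap_smul K c]
          exact Submodule.smul_mem _ _ (hy' _)
    have ht : t ∈ (Submodule.span K (Set.range w)).restrictScalars L := by rw [htop]; trivial
    rw [← hbs, ← Submodule.span_span_of_tower L K, Submodule.restrictScalars_span L K IsLocalRing.residue_surjective] at ht
    refine Submodule.span_induction (fun y hy => ?_) (zero_mem _) (fun _ _ _ _ => add_mem)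
      (fun c _ _ h => Submodule.smul_mem _ c h) ht
    refine Submodule.span_induction (fun z hz => ?_) (zero_mem _) (fun _ _ _ _ => add_mem)
      (fun c _ _ h => Submodule.smul_mem _ c h) hy
    exact ⟨_, Submodule.subset_span ⟨⟨z, hz⟩, rfl⟩, hg ⟨z, hz⟩⟩
  · let e : b ≃ ↥(Finset.univ.image fun x : b => (g x : A)) :=
      Equiv.ofBijective (fun x => ⟨(g x : A), Finset.mem_image_of_mem _ (Finset.mem_univ x)⟩)
        ⟨fun x y e => hginj (by simpa using congrArg Subtype.val e), fun ⟨a, ha⟩ => by
          obtain ⟨x, -, rfl⟩ := Finset.mem_image.1 ha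
          exact ⟨x, rfl⟩⟩
    rw [← linearIndependent_equiv e]
    have : (fun y : ↥(Finset.univ.image fun x : b => (g x : A)) =>
        (1 : K) ⊗ₜ[A] KaehlerDifferential.D R A (y : A)) ∘ e = ψ ∘ fun x : b => (x : K ⊗[L] J) := by
      funext x
      show _ = ψ x
      rw [← hg x]
      exact (hψ _ _).symm
    rw [this]
    exact hbi.map' ψ (LinearMap.ker_eq_bot.2 (h.1 hP))

end Groth.Agent.SchDesc82.Jacobian
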