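import Groth.Agent.LC.CanonComplete
import Groth.Agent.CohenLib.Structure
import Groth.Agent.AlgSpDec.OneFlat
import Mathlib.RingTheory.Unramified.LocalRing
import Mathlib.RingTheory.AdicCompletion.LocalRing
import Mathlib.RingTheory.Smooth.Fiber

/-!
# Completions along flat unramified local homomorphisms
-/

universe u

set_option autoImplicit false
set_option backward.isDefEq.respectTransparency false
set_option backward.isDefEq.respectTransparency.types false

open IsLocalRing TensorProduct AlgebraicGeometry CategoryTheory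

namespace Groth.Agent.SchDesc82.CplEtale

variable (A B : Type u) [CommRing A] [IsLocalRing A] [IsNoetherianRing A] [CommRing B] [IsLocalRing B]
  [IsNoetherianRing B] [Algebra A B] [IsLocalHom (algebraMap A B)]

/-- The completion of a local ring. -/
abbrev Cpl (R : Type u) [CommRing R] [IsLocalRing R] : Type u := AdicCompletion (maximalIdeal R) R

omit [IsNoetherianRing A] [IsNoetherianRing B] in
theorem pow_le_comap (n : ℕ) : maximalIdeal A ^ n ≤ Ideal.comap (algebraMap A B) (maximalIdeal B ^ n) := by
  refine Ideal.map_le_iff_le_comap.1 ?_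
  rw [Ideal.map_pow]
  exact Ideal.pow_right_mono (((local_hom_TFAE (algebraMap A B)).out 0 2 rfl rfl).mp ‹_›) n

omit [IsNoetherianRing A] in
theorem factorPow_evalₐ {m n : ℕ} (h : m ≤ n) (x : Cpl A) :
    Ideal.Quotient.factorPow (maximalIdeal A) h (AdicCompletion.evalₐ (maximalIdeal A) n x) =
      AdicCompletion.evalₐ (maximalIdeal A) m x := by
  obtain ⟨y, rfl⟩ := AdicCompletion.mk_surjective (maximalIdeal A) A x
  rw [AdicCompletion.evalₐ_mk, AdicCompletion.evalₐ_mk, Ideal.Quotient.factorPow, Ideal.Quotient.factor_mk,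
    Ideal.Quotient.eq]
  have := (y.2 h).symm
  rw [SModEq.sub_mem, smul_eq_mul, Ideal.mul_top] at this
  exact this

/-- The maps to the truncations. -/
noncomputable def level (n : ℕ) : Cpl A →+* B ⧸ maximalIdeal B ^ n :=
  (Ideal.quotientMap (maximalIdeal B ^ n) (algebraMap A B) (pow_le_comap A B n)).comp
    (AdicCompletion.evalₐ (maximalIdeal A) n).toRingHom

theorem level_compat {m n : ℕ} (h : m ≤ n) :
    (Ideal.Quotient.factorPow (maximalIdeal B) h).comp (level A B n) = level A B m := by
  refine RingHom.ext fun x => ?_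
  show Ideal.Quotient.factorPow _ h
      (Ideal.quotientMap _ _ (pow_le_comap A B n) (AdicCompletion.evalₐ (maximalIdeal A) n x)) =
    Ideal.quotientMap _ _ (pow_le_comap A B m) (AdicCompletion.evalₐ (maximalIdeal A) m x)
  rw [← factorPow_evalₐ A h x]
  obtain ⟨a, ha⟩ := Ideal.Quotient.mk_surjective (AdicCompletion.evalₐ (maximalIdeal A) n x)
  rw [← ha]
  rfl

/-- The map of completions. -/
noncomputable def map : Cpl A →+* Cpl B :=
  AdicCompletion.liftRingHom (maximalIdeal B) (level A B) (level_compat A B)

theorem map_algebraMap (a : A) : map A B (algebraMap A (Cpl A) a) = algebraMap A (Cpl B) a := by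
  refine AdicCompletion.ext_evalₐ fun n => ?_
  rw [map, AdicCompletion.evalₐ_liftRingHom _ _ (level_compat A B), level]
  show Ideal.quotientMap _ _ (pow_le_comap A B n) (AdicCompletion.evalₐ (maximalIdeal A) n (algebraMap A (Cpl A) a)) = _
  rw [AlgHom.commutes]
  exact ((AdicCompletion.evalₐ (maximalIdeal B) n).commutes (algebraMap A B a)).symm

variable [Algebra.EssFiniteType A B] [Algebra.FormallyUnramified A B] [Module.Flat A B]

/-- The completion is finite etale over the completion. -/
theorem finite_etale :
    letI := (map A B).toAlgebra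
    Module.Finite (Cpl A) (Cpl B) ∧ Algebra.Etale (Cpl A) (Cpl B) := by
  letI := (map A B).toAlgebra
  haveI : IsNoetherianRing (Cpl A) := LC.Canon.isNoetherianRing_completion (R := A)
  haveI : IsNoetherianRing (Cpl B) := LC.Canon.isNoetherianRing_completion (R := B)
  haveI : IsScalarTower A (Cpl A) (Cpl B) := .of_algebraMap_eq fun a => (map_algebraMap A B a).symm
  haveI : IsScalarTower A B (Cpl B) := .of_algebraMap_eq fun a => rfl
  have hmA := AdicCompletion.maximalIdeal_eq_map (R := A)
  have hmB := AdicCompletion.maximalIdeal_eq_map (R := B)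
  have hmax : (maximalIdeal (Cpl A)).map (algebraMap (Cpl A) (Cpl B)) = maximalIdeal (Cpl B) := by
    rw [hmA, Ideal.map_map, ← IsScalarTower.algebraMap_eq A (Cpl A) (Cpl B), IsScalarTower.algebraMap_eq A B (Cpl B),
      ← Ideal.map_map, Algebra.FormallyUnramified.map_maximalIdeal, ← hmB]
  haveI : IsLocalHom (algebraMap (Cpl A) (Cpl B)) :=
    ((local_hom_TFAE (algebraMap (Cpl A) (Cpl B))).out 2 0 rfl rfl).mp hmax.le
  haveI : IsLocalHom (algebraMap B (Cpl B)) :=
    AdicCompletion.algebraMap_isLocalHom_of_fg (IsNoetherian.noetherian _)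
  haveI : IsLocalHom (algebraMap A (Cpl A)) :=
    AdicCompletion.algebraMap_isLocalHom_of_fg (IsNoetherian.noetherian _)
  -- finiteness
  have hfin : Module.Finite (Cpl A) (Cpl B) := by
    refine RingHom.finite_algebraMap.1 (CohenLib.finite_of_complete (algebraMap (Cpl A) (Cpl B))
      (maximalIdeal (Cpl A)) hmax.le ?_)
    refine RingHom.Finite.of_comp_finite (f := algebraMap A (Cpl A)) ?_
    rw [RingHom.comp_assoc, ← IsScalarTower.algebraMap_eq A (Cpl A) (Cpl B)]
    have h1 : ((residue (Cpl B)).comp (algebraMap A (Cpl B))).Finite := by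
      rw [IsScalarTower.algebraMap_eq A B (Cpl B), ← RingHom.comp_assoc,
        show (residue (Cpl B)).comp (algebraMap B (Cpl B)) =
          (ResidueField.map (algebraMap B (Cpl B))).comp (residue B) from (ResidueField.map_comp_residue _).symm,
        RingHom.comp_assoc]
      refine RingHom.Finite.comp (RingHom.Finite.of_surjective _ (AdicCompletion.residueField_map_bijective B).2) ?_
      rw [← ResidueField.map_comp_residue (algebraMap A B)]
      exact RingHom.Finite.comp (RingHom.finite_algebraMap.2 (inferInstance : Module.Finite (ResidueField A) (ResidueField B)))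
        (RingHom.Finite.of_surjective _ residue_surjective)
    have h2 := RingHom.Finite.comp (RingHom.Finite.of_surjective
      (Ideal.Quotient.factor (le_of_eq hmax.symm)) (Ideal.Quotient.factor_surjective _)) h1
    exact h2
  -- flatness
  have hflat : Module.Free (Cpl A) (Cpl B) := by
    haveI : Module.Flat A (Cpl B) := Module.Flat.trans A B (Cpl B)
    haveI : Module.FinitePresentation (Cpl A) (Cpl B) := Module.finitePresentation_of_finite _ _
    refine Module.free_of_maximalIdeal_rTensor_injective ?_
    let π : (maximalIdeal A) ⊗[A] Cpl B →+ (maximalIdeal (Cpl A)) ⊗[Cpl A] Cpl B :=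
      TensorProduct.liftAddHom
        { toFun := fun a =>
            { toFun := fun b => (⟨algebraMap A (Cpl A) a, hmA ▸ Ideal.mem_map_of_mem _ a.2⟩ :
                maximalIdeal (Cpl A)) ⊗ₜ[Cpl A] b
              map_zero' := tmul_zero _ _
              map_add' := fun _ _ => tmul_add _ _ _ }
          map_zero' := by
            ext b
            simp only [ZeroMemClass.coe_zero, map_zero]
            exact zero_tmul _ b
          map_add' := fun a a' => by
            ext b
            show (_ : maximalIdeal (Cpl A)) ⊗ₜ[Cpl A] b =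
              (⟨algebraMap A (Cpl A) a, hmA ▸ Ideal.mem_map_of_mem _ a.2⟩ : maximalIdeal (Cpl A)) ⊗ₜ[Cpl A] b +
              (⟨algebraMap A (Cpl A) a', hmA ▸ Ideal.mem_map_of_mem _ a'.2⟩ : maximalIdeal (Cpl A)) ⊗ₜ[Cpl A] b
            rw [← add_tmul]
            congr 1 }
        (fun r a b => by
          show (⟨algebraMap A (Cpl A) (r * a), _⟩ : maximalIdeal (Cpl A)) ⊗ₜ[Cpl A] b =
            (⟨algebraMap A (Cpl A) a, _⟩ : maximalIdeal (Cpl A)) ⊗ₜ[Cpl A] (r • b)
          rw [← algebraMap_smul (Cpl A) r b, ← smul_tmul]
          congr 1)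
    have hπ : ∀ t, (maximalIdeal (Cpl A)).subtype.rTensor (Cpl B) (π t) =
        (1 : Cpl A) ⊗ₜ[Cpl A] (TensorProduct.lid A (Cpl B) ((maximalIdeal A).subtype.rTensor (Cpl B) t)) := by
      intro t
      induction t using TensorProduct.induction_on with
      | zero => simp
      | tmul a b =>
        show (algebraMap A (Cpl A) a) ⊗ₜ[Cpl A] b = (1 : Cpl A) ⊗ₜ[Cpl A] ((a : A) • b)
        rw [← algebraMap_smul (Cpl A) (a : A) b, ← smul_tmul, smul_eq_mul, mul_one]
      | add s t hs ht => rw [map_add, map_add, map_add, map_add, hs, ht, tmul_add]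
    have hsurj : Function.Surjective π := by
      intro t
      induction t using TensorProduct.induction_on with
      | zero => exact ⟨0, map_zero π⟩
      | tmul x b =>
        obtain ⟨x, hx⟩ := x
        have hx' : x ∈ (maximalIdeal A).map (algebraMap A (Cpl A)) := hmA ▸ hx
        rw [Ideal.map] at hx'
        induction hx' using Submodule.span_induction generalizing b with
        | mem y hy =>
          obtain ⟨a, ha, rfl⟩ := hy
          exact ⟨(⟨a, ha⟩ : maximalIdeal A) ⊗ₜ b, rfl⟩
        | zero => exact ⟨0, by rw [map_zero]; exact (zero_tmul _ b).symm⟩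
        | add y z hy hz hy' hz' =>
          obtain ⟨s, hs⟩ := hy' b (hmA.symm ▸ hy)
          obtain ⟨t, ht⟩ := hz' b (hmA.symm ▸ hz)
          exact ⟨s + t, by rw [map_add, hs, ht, ← add_tmul]; rfl⟩
        | smul c y hy hy' =>
          obtain ⟨s, hs⟩ := hy' (c • b) (hmA.symm ▸ hy)
          exact ⟨s, by rw [hs, ← smul_tmul]; rfl⟩
      | add s t hs ht =>
        obtain ⟨s, rfl⟩ := hs
        obtain ⟨t, rfl⟩ := ht
        exact ⟨s + t, map_add π s t⟩
    rw [injective_iff_map_eq_zero]
    intro t ht
    obtain ⟨t, rfl⟩ := hsurj t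
    rw [hπ] at ht
    have h0 := congrArg (TensorProduct.lid (Cpl A) (Cpl B)) ht
    rw [lid_tmul, one_smul, map_zero, LinearEquiv.map_eq_zero_iff] at h0
    rw [(Module.Flat.rTensor_preserves_injective_linearMap (M := Cpl B) (maximalIdeal A).subtype
      Subtype.val_injective) (h0.trans (map_zero _).symm), map_zero]
  refine ⟨hfin, ?_⟩
  haveI := hfin
  haveI : Algebra.IsSeparable (ResidueField (Cpl A)) (ResidueField (Cpl B)) :=
    Algebra.IsSeparable.of_equiv_equiv (RingEquiv.ofBijective _ (AdicCompletion.residueField_map_bijective A))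
      (RingEquiv.ofBijective _ (AdicCompletion.residueField_map_bijective B)) (by
        refine RingHom.ext fun x => ?_
        obtain ⟨a, rfl⟩ := residue_surjective x
        show residue (Cpl B) (algebraMap (Cpl A) (Cpl B) (algebraMap A (Cpl A) a)) =
          residue (Cpl B) (algebraMap B (Cpl B) (algebraMap A B a))
        rw [← IsScalarTower.algebraMap_apply, ← IsScalarTower.algebraMap_apply])
  haveI : Algebra.FormallyUnramified (Cpl A) (Cpl B) := Algebra.FormallyUnramified.of_map_maximalIdeal hmax
  haveI : Algebra.FinitePresentation (Cpl A) (Cpl B) := (Algebra.FinitePresentation.of_finiteType).1 inferInstance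
  haveI : Module.Flat (Cpl A) (Cpl B) := inferInstance
  exact Algebra.Etale.of_formallyUnramified_of_flat

/-- Completions of flat unramified extensions of analytically reduced rings are reduced. -/
theorem isReduced [_root_.IsReduced (Cpl A)] : _root_.IsReduced (Cpl B) := by
  letI := (map A B).toAlgebra
  obtain ⟨_, _⟩ := finite_etale A B
  let f := Spec.map (CommRingCat.ofHom (algebraMap (Cpl A) (Cpl B)))
  haveI : Etale f := (HasRingHomProperty.Spec_iff (P := @Etale)).2 (RingHom.etale_algebraMap.2 ‹_›)
  haveI : AlgebraicGeometry.IsReduced (Spec (CommRingCat.of (Cpl B))) := AlgSpDec.isReduced_of_etaleMor f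
  exact (affine_isReduced_iff (CommRingCat.of (Cpl B))).1 inferInstance

end Groth.Agent.SchDesc82.CplEtale

namespace Groth.Agent.SchDesc82.CplEtale

open IsLocalRing

/-- A formally smooth local ring of an algebra of finite type over a Noetherian ring is flat. -/
theorem flat_of_formallySmoothAt (R C : Type u) [CommRing R] [IsNoetherianRing R] [CommRing C] [Algebra R C]
    [Algebra.FiniteType R C] (q : Ideal C) [q.IsPrime] [Algebra.FormallySmooth R (Localization.AtPrime q)] :
    Module.Flat R (Localization.AtPrime q) := by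
  obtain ⟨k, π, hπ⟩ := (Algebra.FiniteType.iff_quotient_mvPolynomial'' (R := R) (S := C)).mp inferInstance
  let q' := q.comap π.toRingHom
  let f := Localization.localAlgHom q' q π rfl
  haveI : Module.Flat R (Localization.AtPrime q') := Module.Flat.trans R (MvPolynomial (Fin k) R) _
  refine Algebra.FormallySmooth.flat_of_algHom_of_isNoetherianRing f fun z => ?_
  obtain ⟨c, ⟨s, hs⟩, rfl⟩ := IsLocalization.exists_mk'_eq q.primeCompl z
  obtain ⟨c, rfl⟩ := hπ c
  obtain ⟨s, rfl⟩ := hπ s
  exact ⟨IsLocalization.mk' _ c (⟨s, hs⟩ : q'.primeCompl), Localization.localRingHom_mk' q' q π.toRingHom rfl c _⟩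

end Groth.Agent.SchDesc82.CplEtale
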