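import Mathlib.RingTheory.Invariant.Basic
import Mathlib.RingTheory.Filtration
import Mathlib.RingTheory.Ideal.GoingUp
import Mathlib.RingTheory.Localization.AtPrime.Basic
import Mathlib.RingTheory.Nakayama
import Mathlib.RingTheory.LocalRing.RingHom.Basic
import Mathlib.RingTheory.Localization.Submodule
import Mathlib.RingTheory.Ideal.Quotient.Operations
import Mathlib.RingTheory.Noetherian.Basic

/-!
# Invariants of a subgroup containing a decomposition group

For a finite group `G` acting on `R`, a prime `q` and a subgroup `H` containing the stabilizer of `q`, the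
invariants of `G` and of `H` have the same completed local rings at `q`. The proof is elementary: the sum over
`G/H` of the translates of `e r` approximates `e r` near `q` for a suitable invariant `e`.
-/

universe u

set_option autoImplicit false
set_option backward.isDefEq.respectTransparency false
set_option backward.isDefEq.respectTransparency.types false

open Pointwise IsLocalRing

namespace Groth.Agent.SchDesc82.DecompInv

variable {G R : Type u} [Group G] [Finite G] [CommRing R] [MulSemiringAction G R] {H : Subgroup G}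

local notation "B" => FixedPoints.subring R G
local notation "R'" => FixedPoints.subring R H

theorem smul_eq_of_mem (x : R') {g₁ g₂ : G} (h : g₁⁻¹ * g₂ ∈ H) : g₁ • (x : R) = g₂ • (x : R) := by
  have := x.2 (⟨_, h⟩ : H)
  rw [show g₂ = g₁ * (g₁⁻¹ * g₂) by group, mul_smul]
  exact congrArg (g₁ • ·) this.symm

/-- The sum of the translates by the cosets. -/
noncomputable def tr (x : R') : R :=
  haveI := Fintype.ofFinite (G ⧸ H)
  ∑ c : G ⧸ H, c.out • (x : R)

theorem smul_tr (x : R') (k : G) : k • tr x = tr x := by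
  letI := Fintype.ofFinite (G ⧸ H)
  rw [tr, Finset.smul_sum]
  refine Fintype.sum_equiv (MulAction.toPerm k) _ _ fun c => ?_
  rw [← mul_smul]
  refine smul_eq_of_mem x (QuotientGroup.eq.1 ?_)
  rw [show ((k * c.out : G) : G ⧸ H) = k • (c.out : G ⧸ H) from rfl, QuotientGroup.out_eq', QuotientGroup.out_eq']
  rfl

/-- The sum as an invariant. -/
noncomputable def trB (x : R') : B := ⟨tr x, fun k => smul_tr x k⟩

theorem tr_add (x y : R') : tr (x + y) = tr x + tr y := by
  simp only [tr, Subring.coe_add, smul_add, Finset.sum_add_distrib]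

theorem trB_mul (hle : B ≤ R') (b : B) (x : R') : trB (Subring.inclusion hle b * x) = b * trB x := by
  refine Subtype.ext ?_
  show tr _ = (b : R) * tr x
  rw [tr, tr, Finset.mul_sum]
  exact Finset.sum_congr rfl fun c _ => by
    rw [Subring.coe_mul, smul_mul']
    exact congrArg (· * _) (b.2 _)

variable (q : Ideal R) [q.IsPrime]

theorem tr_sub_mem {N : ℕ} (x : R') (hx : ∀ g : G, g ∉ H → g • (x : R) ∈ q ^ N) : tr x - x ∈ q ^ N := by
  classical
  haveI := Fintype.ofFinite (G ⧸ H)
  have h1 : ((1 : G) : G ⧸ H).out • (x : R) = x := by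
    conv_rhs => rw [← one_smul G (x : R)]
    refine smul_eq_of_mem x (QuotientGroup.eq.1 ?_)
    rw [QuotientGroup.out_eq']
  rw [show tr x = ∑ c : G ⧸ H, c.out • (x : R) from Finset.sum_congr (Finset.ext fun c => by simp) fun _ _ => rfl,
    ← Finset.add_sum_erase _ _ (Finset.mem_univ ((1 : G) : G ⧸ H)), h1, add_sub_cancel_left]
  refine Ideal.sum_mem _ fun c hc => hx _ fun hm => (Finset.mem_erase.1 hc).1 ?_
  rw [← c.out_eq']
  exact QuotientGroup.eq.2 (by simpa using inv_mem hm)

theorem isInvariant : Algebra.IsInvariant R' R H := ⟨fun x hx => ⟨⟨x, hx⟩, rfl⟩⟩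

theorem smulCommClass : SMulCommClass H R' R := ⟨fun h a x => by
  show h • ((a : R) * x) = (a : R) * h • x
  rw [smul_mul']
  exact congrArg (· * _) (a.2 h)⟩

/-- The prime of the invariants. -/
abbrev q' : Ideal R' := q.comap (R' : Subring R).subtype

theorem exists_smul_eq (Q : Ideal R) [Q.IsPrime] (hQ : q' (H := H) Q = q' q) : ∃ h : H, (h : G) • q = Q := by
  haveI := smulCommClass (G := G) (R := R) (H := H)
  haveI := isInvariant (G := G) (R := R) (H := H)
  obtain ⟨h, hh⟩ := Algebra.IsInvariant.exists_smul_of_under_eq R' R H q Q hQ.symm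
  exact ⟨h, hh.symm⟩

theorem smul_mem_iff (h : G) (Q : Ideal R) (x : R) : h • x ∈ Q ↔ x ∈ h⁻¹ • Q := by
  rw [Ideal.mem_inv_pointwise_smul_iff]

/-- Incomparability of the translates. -/
theorem smul_eq_of_le (g : G) (Q : Ideal R) [Q.IsPrime] (hle : g • q ≤ Q)
    (hQ : Q.comap (B : Subring R).subtype = q.comap (B : Subring R).subtype) : g • q = Q := by
  haveI : SMulCommClass G B R := ⟨fun h a x => by
    show h • ((a : R) * x) = (a : R) * h • x
    rw [smul_mul']
    exact congrArg (· * _) (a.2 h)⟩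
  haveI : Algebra.IsInvariant B R G := ⟨fun x hx => ⟨⟨x, hx⟩, rfl⟩⟩
  haveI := Algebra.IsInvariant.isIntegral B R G
  by_contra hne
  have := Ideal.IsIntegral.comap_lt_comap (R := B) (lt_of_le_of_ne hle hne)
  refine this.ne (Eq.trans ?_ hQ.symm)
  ext b
  show (b : R) ∈ g • q ↔ (b : R) ∈ q
  rw [Ideal.mem_pointwise_smul_iff_inv_smul_mem, b.2 g⁻¹]

/-- An invariant element near the prime only. -/
theorem exists_selector (hD : MulAction.stabilizer G q ≤ H) (N : ℕ) :
    ∃ e : R', e ∉ q' (H := H) q ∧ ∀ g : G, g ∉ H → g • (e : R) ∈ q ^ N := by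
  classical
  haveI := Fintype.ofFinite G
  haveI := Fintype.ofFinite H
  have ha : ∀ g : {g : G // g ∉ H}, ∃ a ∈ (g.1⁻¹ • q : Ideal R), ∀ h : H, a ∉ ((h : G) • q : Ideal R) := by
    intro g
    by_contra hcon
    push Not at hcon
    have hsub : ((g.1⁻¹ • q : Ideal R) : Set R) ⊆ ⋃ h ∈ ((Finset.univ : Finset H) : Set H), (((h : G) • q : Ideal R) : Set R) :=
      fun a ha => by
        obtain ⟨h, hh⟩ := hcon a ha
        exact Set.mem_biUnion (Finset.mem_coe.2 (Finset.mem_univ h)) hh
    obtain ⟨h, -, hh⟩ := (Ideal.subset_union_prime (1 : H) 1 fun i _ _ _ => Ideal.IsPrime.smul (i : G)).1 hsub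
    have hcomap : ((h : G) • q : Ideal R).comap (B : Subring R).subtype = q.comap (B : Subring R).subtype := by
      ext b
      show (b : R) ∈ (h : G) • q ↔ (b : R) ∈ q
      rw [Ideal.mem_pointwise_smul_iff_inv_smul_mem, b.2]
    haveI : ((h : G) • q : Ideal R).IsPrime := Ideal.IsPrime.smul _
    have e := smul_eq_of_le q g.1⁻¹ _ hh hcomap
    have : (h : G)⁻¹ * g.1⁻¹ ∈ H := hD (by
      rw [MulAction.mem_stabilizer_iff, mul_smul, e, inv_smul_smul])
    exact g.2 (by simpa using inv_mem (mul_mem h.2 this))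
  choose a ha ha' using ha
  let e₀ : R := (∏ g, a g) ^ N
  let e : R := ∏ h : H, (h : G) • e₀
  have he : ∀ k : H, k • e = e := by
    intro k
    show (k : G) • e = e
    rw [Finset.smul_prod']
    refine Fintype.prod_equiv (Equiv.mulLeft k) _ _ fun h => ?_
    rw [Equiv.coe_mulLeft, Subgroup.coe_mul, mul_smul]
  refine ⟨⟨e, he⟩, fun hmem => ?_, fun g hg => ?_⟩
  · have hmem' : e ∈ q := hmem
    obtain ⟨h, -, hh⟩ := (Ideal.IsPrime.prod_mem_iff (p := q)).1 hmem'
    rw [smul_mem_iff] at hh
    haveI : ((h : G)⁻¹ • q : Ideal R).IsPrime := Ideal.IsPrime.smul _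
    obtain ⟨g, -, hg⟩ := (Ideal.IsPrime.prod_mem_iff).1 (Ideal.IsPrime.mem_of_pow_mem inferInstance N hh)
    exact ha' g h⁻¹ hg
  · show g • e ∈ q ^ N
    have h1 : g • a ⟨g, hg⟩ ∈ q := by
      have := ha ⟨g, hg⟩
      rwa [← smul_mem_iff] at this
    rw [show e = ∏ h : H, (h : G) • e₀ from rfl, Finset.smul_prod']
    refine Ideal.mem_of_dvd _ (Finset.dvd_prod_of_mem _ (Finset.mem_univ (1 : H))) ?_
    rw [Subgroup.coe_one, one_smul, smul_pow']
    refine Ideal.pow_mem_pow (Ideal.mem_of_dvd _ ?_ h1) N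
    rw [Finset.smul_prod']
    exact Finset.dvd_prod_of_mem _ (Finset.mem_univ _)

/-- The topology of the invariants is induced from the topology at the prime. -/
theorem exists_pow_comap [IsNoetherianRing R'] [Module.Finite R' R] (n : ℕ) :
    ∃ N, 1 ≤ N ∧ ∀ x : R', (x : R) ∈ q ^ N → ∃ u : R', u ∉ q' (H := H) q ∧ u * x ∈ q' (H := H) q ^ n := by
  haveI : IsNoetherianRing R := IsNoetherianRing.of_finite R' R
  haveI := smulCommClass (G := G) (R := R) (H := H)
  haveI := isInvariant (G := G) (R := R) (H := H)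
  haveI := Algebra.IsInvariant.isIntegral R' R H
  let I : Ideal R' := q' q
  let IR : Ideal R := I.map (algebraMap R' R)
  let L := Localization.AtPrime q
  have hrad : q.map (algebraMap R L) ≤ (IR.map (algebraMap R L)).radical := by
    rw [Ideal.radical_eq_sInf]
    refine le_sInf fun Q ⟨hQ, hQp⟩ => ?_
    haveI := hQp
    let Q₀ := Q.comap (algebraMap R L)
    have hQq : Q₀ ≤ q :=
      (Ideal.comap_mono (IsLocalRing.le_maximalIdeal hQp.ne_top)).trans (IsLocalization.AtPrime.comap_maximalIdeal L q).le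
    have hI : I ≤ Q₀.comap (algebraMap R' R) := Ideal.map_le_iff_le_comap.1 (Ideal.map_le_iff_le_comap.1 hQ)
    have heq : Q₀ = q := by
      by_contra hne
      exact (Ideal.IsIntegral.comap_lt_comap (R := R') (lt_of_le_of_ne hQq hne)).not_ge hI
    exact Ideal.map_le_iff_le_comap.2 heq.symm.le
  haveI : IsNoetherianRing L := IsLocalization.isNoetherianRing q.primeCompl L inferInstance
  obtain ⟨c, hc⟩ := Ideal.exists_pow_le_of_le_radical_of_fg hrad (IsNoetherian.noetherian _)
  let T : Submodule R' R := LinearMap.range (Algebra.linearMap R' R)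
  obtain ⟨k, hk⟩ := I.exists_pow_inf_eq_pow_smul T
  refine ⟨c * (n + k) + 1, Nat.le_add_left 1 _, fun x hx => ?_⟩
  let C : Ideal R :=
    { carrier := {v | v * (x : R) ∈ IR ^ (n + k)}
      zero_mem' := by simp
      add_mem' := fun {a b} ha hb => by rw [Set.mem_setOf_eq, add_mul]; exact add_mem ha hb
      smul_mem' := fun r a ha => by rw [Set.mem_setOf_eq, smul_eq_mul, mul_assoc]; exact Ideal.mul_mem_left _ r ha }
  have hv : ∃ v ∈ C, v ∉ q := by
    have h1 : algebraMap R L x ∈ (IR ^ (n + k)).map (algebraMap R L) := by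
      rw [Ideal.map_pow]
      refine Ideal.pow_right_mono hc _ ?_
      rw [← pow_mul, ← Ideal.map_pow]
      exact Ideal.mem_map_of_mem _ (Ideal.pow_le_pow_right (Nat.le_succ _) hx)
    obtain ⟨⟨⟨y, hy⟩, ⟨s, hs⟩⟩, e⟩ := (IsLocalization.mem_map_algebraMap_iff q.primeCompl L).1 h1
    rw [← map_mul] at e
    obtain ⟨⟨t, ht⟩, ht'⟩ := (IsLocalization.eq_iff_exists q.primeCompl L).1 e
    refine ⟨t * s, ?_, fun h => (Ideal.IsPrime.mem_or_mem inferInstance h).elim ht hs⟩
    show t * s * (x : R) ∈ IR ^ (n + k)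
    rw [mul_assoc, mul_comm s]
    exact ht' ▸ Ideal.mul_mem_left _ t hy
  have hu : ∃ u : R', u ∉ I ∧ algebraMap R' R u ∈ C := by
    by_contra hcon
    push Not at hcon
    have hle : C.comap (algebraMap R' R) ≤ I := fun u hu => not_not.1 fun h => hcon u h hu
    obtain ⟨Q, hQC, hQp, hQ⟩ := Ideal.exists_ideal_over_prime_of_isIntegral I C hle
    obtain ⟨h, rfl⟩ := exists_smul_eq q Q hQ
    obtain ⟨v, hvC, hvq⟩ := hv
    refine hvq ?_
    have hC : (h : G) • v ∈ C := by
      show (h : G) • v * (x : R) ∈ IR ^ (n + k)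
      rw [show (h : G) • v * (x : R) = MulSemiringAction.toRingHom H R h (v * x) by
        rw [map_mul]; exact congrArg (_ * ·) (x.2 h).symm]
      have hmap : (IR ^ (n + k)).map (MulSemiringAction.toRingHom H R h) = IR ^ (n + k) := by
        rw [Ideal.map_pow, Ideal.map_map]
        congr 2
        exact RingHom.ext fun a => a.2 h
      exact hmap ▸ Ideal.mem_map_of_mem _ hvC
    have := hQC hC
    rwa [Ideal.mem_pointwise_smul_iff_inv_smul_mem, inv_smul_smul] at this
  obtain ⟨u, hu, huC⟩ := hu
  refine ⟨u, hu, ?_⟩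
  have h2 : algebraMap R' R (u * x) ∈ I ^ (n + k) • (⊤ : Submodule R' R) ⊓ T := by
    refine ⟨?_, ⟨u * x, rfl⟩⟩
    rw [SetLike.mem_coe, Ideal.smul_top_eq_map, Submodule.restrictScalars_mem, Ideal.map_pow, map_mul]
    exact huC
  rw [hk (n + k) (Nat.le_add_left k n), Nat.add_sub_cancel] at h2
  have h3 : algebraMap R' R (u * x) ∈ I ^ n • T := (Submodule.smul_mono le_rfl inf_le_right) h2
  rw [show T = Submodule.map (Algebra.linearMap R' R) ⊤ from (Submodule.map_top _).symm,
    ← Submodule.map_smul''] at h3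
  obtain ⟨y, hy, hye⟩ := h3
  rw [smul_eq_mul, Ideal.mul_top] at hy
  exact (Subtype.ext hye : y = u * x) ▸ hy

variable (hle : FixedPoints.subring R G ≤ FixedPoints.subring R H)

/-- The map of the local rings. -/
noncomputable abbrev φ :=
  Localization.localRingHom (Ideal.comap (Subring.inclusion hle) (q' (H := H) q)) (q' (H := H) q) (Subring.inclusion hle) rfl

set_option maxHeartbeats 1000000 in
include hle in
/-- Surjectivity modulo powers. -/
theorem surjective_mod [IsNoetherianRing R'] [Module.Finite R' R] (hD : MulAction.stabilizer G q ≤ H) (n : ℕ) :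
    Function.Surjective ((Ideal.Quotient.mk (maximalIdeal (Localization.AtPrime (q' (H := H) q)) ^ n)).comp (φ q hle)) := by
  intro z
  obtain ⟨z, rfl⟩ := Ideal.Quotient.mk_surjective z
  obtain ⟨r, ⟨s, hs⟩, rfl⟩ := IsLocalization.exists_mk'_eq (q' (H := H) q).primeCompl z
  let L' := Localization.AtPrime (q' (H := H) q)
  obtain ⟨N, hN1, hN⟩ := exists_pow_comap (H := H) q n
  obtain ⟨e, he, he'⟩ := exists_selector q hD N
  have hclose : ∀ a : R', algebraMap R' L' (Subring.inclusion hle (trB (e * a))) - algebraMap R' L' (e * a) ∈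
      maximalIdeal L' ^ n := by
    intro a
    have hmem : ((Subring.inclusion hle (trB (e * a)) - e * a : R') : R) ∈ q ^ N :=
      tr_sub_mem q (e * a) fun g hg => by
        rw [Subring.coe_mul, smul_mul']
        exact Ideal.mul_mem_right _ _ (he' g hg)
    obtain ⟨u, hu, hux⟩ := hN _ hmem
    have h1 := Ideal.mem_map_of_mem (algebraMap R' L') hux
    rw [Ideal.map_pow, Localization.AtPrime.map_eq_maximalIdeal, map_mul] at h1
    rw [← map_sub]
    exact (Ideal.unit_mul_mem_iff_mem _ (IsLocalization.map_units L' (⟨u, hu⟩ : (q' (H := H) q).primeCompl))).1 h1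
  have hes : trB (e * s) ∉ Ideal.comap (Subring.inclusion hle) (q' (H := H) q) := by
    intro h
    have h2 : tr (e * s) - ((e : R) * s) ∈ q := Ideal.pow_le_self (Nat.one_le_iff_ne_zero.1 hN1) (tr_sub_mem q (e * s) fun g hg => by
        rw [Subring.coe_mul, smul_mul']
        exact Ideal.mul_mem_right _ _ (he' g hg))
    have h3 : (e : R) * s ∈ q := by
      have := sub_mem (show tr (e * s) ∈ q from h) h2
      rwa [sub_sub_cancel] at this
    exact (Ideal.IsPrime.mem_or_mem inferInstance h3).elim he hs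
  refine ⟨IsLocalization.mk' _ (trB (e * r)) (⟨_, hes⟩ : (Ideal.comap (Subring.inclusion hle) (q' (H := H) q)).primeCompl), ?_⟩
  rw [RingHom.comp_apply, Localization.localRingHom_mk']
  have hes' : Subring.inclusion hle (trB (e * s)) ∉ q' (H := H) q := hes
  have hu1 : IsUnit (algebraMap R' L' (Subring.inclusion hle (trB (e * s)))) :=
    IsLocalization.map_units L' (⟨_, hes'⟩ : (q' (H := H) q).primeCompl)
  have hu2 : IsUnit (algebraMap R' L' (e * s)) :=
    IsLocalization.map_units L' (⟨_, fun h => (Ideal.IsPrime.mem_or_mem inferInstance h).elim he hs⟩ :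
      (q' (H := H) q).primeCompl)
  refine (hu2.map (Ideal.Quotient.mk (maximalIdeal L' ^ n))).mul_right_cancel ?_
  conv_lhs => rw [← Ideal.Quotient.eq.2 (hclose s), ← map_mul, IsLocalization.mk'_spec, Ideal.Quotient.eq.2 (hclose r)]
  rw [map_mul (algebraMap R' L'), map_mul (algebraMap R' L'), map_mul, map_mul,
    ← IsLocalization.mk'_spec L' r ⟨s, hs⟩, map_mul]
  ring

set_option maxHeartbeats 1000000 in
include hle in
/-- The kernels. -/
theorem comap_pow [IsNoetherianRing R'] [Module.Finite R' R] (hD : MulAction.stabilizer G q ≤ H) (n : ℕ) :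
    Ideal.comap (φ q hle) (maximalIdeal (Localization.AtPrime (q' (H := H) q)) ^ n) =
      maximalIdeal (Localization.AtPrime (Ideal.comap (Subring.inclusion hle) (q' (H := H) q))) ^ n := by
  let p := Ideal.comap (Subring.inclusion hle) (q' (H := H) q)
  let L' := Localization.AtPrime (q' (H := H) q)
  let Lp := Localization.AtPrime p
  haveI : IsLocalHom (φ q hle) := inferInstance
  have hmle : (maximalIdeal Lp).map (φ q hle) ≤ maximalIdeal L' := ((local_hom_TFAE (φ q hle)).out 0 2 rfl rfl).mp ‹_›
  have hmax : (maximalIdeal Lp).map (φ q hle) = maximalIdeal L' := by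
    refine le_antisymm hmle (Submodule.le_of_le_smul_of_le_jacobson_bot (IsNoetherian.noetherian _)
      (IsLocalRing.maximalIdeal_le_jacobson ⊥) fun x hx => ?_)
    obtain ⟨y, hy⟩ := surjective_mod q hle hD 2 (Ideal.Quotient.mk _ x)
    rw [RingHom.comp_apply, Ideal.Quotient.eq] at hy
    have hy' : φ q hle y ∈ maximalIdeal L' := by
      have := add_mem (Ideal.pow_le_self two_ne_zero hy) hx
      rwa [sub_add_cancel] at this
    refine Submodule.mem_sup.2 ⟨φ q hle y, Ideal.mem_map_of_mem _ (fun hu => hy' (hu.map _)), x - φ q hle y, ?_,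
      add_sub_cancel _ _⟩
    rw [smul_eq_mul, ← pow_two, ← neg_sub]
    exact neg_mem hy
  refine le_antisymm (fun z hz => ?_) (Ideal.map_le_iff_le_comap.1 ?_)
  swap
  · rw [Ideal.map_pow]
    exact Ideal.pow_right_mono hmle n
  obtain ⟨b, ⟨s, hs⟩, rfl⟩ := IsLocalization.exists_mk'_eq p.primeCompl z
  have hb : φ q hle (algebraMap B Lp b) ∈ maximalIdeal L' ^ n := by
    rw [← IsLocalization.mk'_spec Lp b (⟨s, hs⟩ : p.primeCompl), map_mul]
    exact Ideal.mul_mem_right _ _ hz
  rw [← hmax, ← Ideal.map_pow, ← Localization.AtPrime.map_eq_maximalIdeal, ← Ideal.map_pow, Ideal.map_map,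
    Localization.localRingHom_to_map, show (φ q hle).comp (algebraMap B Lp) =
      (algebraMap R' L').comp (Subring.inclusion hle) from RingHom.ext fun a => Localization.localRingHom_to_map p (q' q) (Subring.inclusion hle) rfl a,
    ← Ideal.map_map] at hb
  obtain ⟨⟨⟨y, hy⟩, ⟨t, ht⟩⟩, ey⟩ := (IsLocalization.mem_map_algebraMap_iff (q' (H := H) q).primeCompl L').1 hb
  rw [← map_mul] at ey
  obtain ⟨⟨v, hv⟩, hv'⟩ := (IsLocalization.eq_iff_exists (q' (H := H) q).primeCompl L').1 ey
  obtain ⟨e, he, he'⟩ := exists_selector q hD 1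
  have key : ∀ y ∈ (p ^ n).map (Subring.inclusion hle), ∀ w : R', trB (w * y) ∈ p ^ n := by
    intro y hy
    rw [Ideal.map] at hy
    induction hy using Submodule.span_induction with
    | mem y hy =>
      obtain ⟨a, ha, rfl⟩ := hy
      intro w
      rw [mul_comm, trB_mul hle]
      exact Ideal.mul_mem_right _ _ ha
    | zero =>
      intro w
      rw [mul_zero, show (0 : R') = Subring.inclusion hle 0 * 0 by rw [mul_zero], trB_mul hle, zero_mul]
      exact zero_mem _
    | add a c _ _ ha hc =>
      intro w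
      rw [show trB (w * (a + c)) = trB (w * a) + trB (w * c) from
        Subtype.ext ((congrArg tr (mul_add w a c)).trans (tr_add _ _))]
      exact add_mem (ha w) (hc w)
    | smul r a _ ha =>
      intro w
      rw [smul_eq_mul, ← mul_assoc]
      exact ha (w * r)
  have h1 := key (v * (Subring.inclusion hle b * t)) (by rw [hv']; exact Ideal.mul_mem_left _ v hy) e
  rw [show e * (v * (Subring.inclusion hle b * t)) = Subring.inclusion hle b * (e * (v * t)) by ring,
    trB_mul hle] at h1
  have hunit : trB (e * (v * t)) ∉ p := by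
    intro h
    have h2 : tr (e * (v * t)) - ((e * (v * t) : R') : R) ∈ q := by
      have := tr_sub_mem (N := 1) q (e * (v * t)) fun g hg => by
        rw [Subring.coe_mul, smul_mul']
        exact Ideal.mul_mem_right _ _ (he' g hg)
      rwa [pow_one] at this
    have h3 : ((e * (v * t) : R') : R) ∈ q := by
      have := sub_mem (show tr (e * (v * t)) ∈ q from h) h2
      rwa [sub_sub_cancel] at this
    exact (Ideal.IsPrime.mem_or_mem (inferInstance : (q' (H := H) q).IsPrime) h3).elim he
      fun h4 => (Ideal.IsPrime.mem_or_mem inferInstance h4).elim hv ht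
  rw [← Localization.AtPrime.map_eq_maximalIdeal, ← Ideal.map_pow, IsLocalization.mk'_eq_mul_mk'_one]
  refine Ideal.mul_mem_right _ _ ?_
  have h5 := Ideal.mem_map_of_mem (algebraMap B Lp) h1
  rw [map_mul] at h5
  exact (Ideal.mul_unit_mem_iff_mem _ (IsLocalization.map_units Lp (⟨_, hunit⟩ : p.primeCompl))).1 h5

end Groth.Agent.SchDesc82.DecompInv
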