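import Groth.Agent.SchDesc82.Cover
import Groth.Agent.SchDesc82.Completion
import Groth.Agent.AlgSpDec.EtaleBdd
import Mathlib.AlgebraicGeometry.Morphisms.FlatMono
import Mathlib.AlgebraicGeometry.ResidueField

/-!
# Effectivity from etale charts, by induction on the cardinality of geometric fibres
-/

universe u

set_option autoImplicit false
set_option backward.isDefEq.respectTransparency false
set_option backward.isDefEq.respectTransparency.types false

open CategoryTheory CategoryTheory.Limits AlgebraicGeometry Opposite Desc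

namespace Groth.Agent.SchDesc82

open DescLib

variable {S S' : Scheme.{u}} {g : S' ⟶ S} {D : SchDDFam (fun _ : PUnit.{1} => g)}

/-- Every point of the underlying scheme is the value of a compatible family over an etale scheme. -/
def HasCharts (D : SchDDFam (fun _ : PUnit.{1} => g)) : Prop :=
  ∀ e : ↥(D.obj PUnit.unit).left, ∃ (V : Scheme.{u}) (j : V ⟶ S) (_ : Etale j) (c : Compat D j)
    (z : ↥(pullback j g)), value c z = e

/-- The geometric fibres have at most `n` points. -/
def Bd (D : SchDDFam (fun _ : PUnit.{1} => g)) (n : ℕ) : Prop :=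
  ∀ (L : Type u) [Field L] [IsAlgClosed L] (x : Spec (CommRingCat.of L) ⟶ S') ⦃m : ℕ⦄
    (l : Fin m → Lifts (D.obj PUnit.unit) x), Function.Injective l → m ≤ n

theorem exists_bd [Etale (D.obj PUnit.unit).hom] [CompactSpace ↥(D.obj PUnit.unit).left] :
    ∃ n, Bd D n := by
  obtain ⟨d, hd⟩ := AlgSpDec.exists_degLE_of_etale (D.obj PUnit.unit).hom
  refine ⟨d, fun L _ _ x m l hl => ?_⟩
  obtain ⟨hfin, -, hcard⟩ := (hd L x).space
  let π := (D.obj PUnit.unit).hom
  let σ : Fin m → (Spec (CommRingCat.of L) ⟶ pullback x π) := fun i =>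
    pullback.lift (𝟙 _) (l i).1 (by rw [Category.id_comp]; exact (l i).2.symm)
  have hσ : ∀ i, σ i ≫ pullback.fst x π = 𝟙 _ := fun i => pullback.lift_fst _ _ _
  let pt : Fin m → ↥(pullback x π) := fun i => σ i (IsLocalRing.closedPoint L)
  have hinj : Function.Injective pt := by
    intro a b e
    have : Etale (σ a) := by
      have : Etale (σ a ≫ pullback.fst x π) := by rw [hσ]; infer_instance
      exact MorphismProperty.of_postcomp (W := @Etale) (W' := @Etale) (σ a) (pullback.fst x π) inferInstance this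
    have : Mono (σ a) := (SplitMono.mk (pullback.fst x π) (hσ a)).mono
    have : IsOpenImmersion (σ a) := IsOpenImmersion.of_flat_of_mono _
    have hsub : Set.range (σ b) ⊆ Set.range (σ a) := by
      rintro _ ⟨q, rfl⟩
      refine ⟨IsLocalRing.closedPoint L, ?_⟩
      rw [Subsingleton.elim (α := PrimeSpectrum L) q (IsLocalRing.closedPoint L)]
      exact e
    have hk := IsOpenImmersion.lift_fac (σ a) (σ b) hsub
    have h1 : IsOpenImmersion.lift (σ a) (σ b) hsub = 𝟙 _ := by
      have := congrArg (· ≫ pullback.fst x π) hk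
      simpa only [Category.assoc, hσ, Category.comp_id] using this
    rw [h1, Category.id_comp] at hk
    have := congrArg (· ≫ pullback.snd x π) hk
    simp only [σ, pullback.lift_snd] at this
    exact hl (Subtype.ext this)
  have h := Nat.card_le_card_of_injective pt hinj
  rw [Nat.card_fin] at h
  exact h.trans hcard

theorem Bd.pullD {n : ℕ} (h : Bd D n) {V : Scheme.{u}} (j : V ⟶ S) : Bd (pullD D j) n :=
  fun L _ _ x _ l hl => h L (x ≫ pullback.fst g j)
    (fun i => liftsPullbackEquiv (D.obj PUnit.unit) (pullback.fst g j) x (l i))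
    ((liftsPullbackEquiv (D.obj PUnit.unit) (pullback.fst g j) x).injective.comp hl)

theorem HasCharts.pullD (h : HasCharts D) {V : Scheme.{u}} (j : V ⟶ S) : HasCharts (pullD D j) := by
  intro e
  obtain ⟨V', j', hj', c', z, hz⟩ := h (pullback.fst (D.obj PUnit.unit).hom (pullback.fst g j) e)
  let fE := pullback.fst (D.obj PUnit.unit).hom (pullback.fst g j)
  let sE := pullback.snd (D.obj PUnit.unit).hom (pullback.fst g j)
  obtain ⟨q, hq₁, hq₂⟩ := Scheme.Pullback.exists_preimage_pullback (f := value c') (g := fE) z e hz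
  let P := pullback (value c') fE
  let a : P ⟶ V' := pullback.fst (value c') fE ≫ pullback.fst j' g
  let y : P ⟶ pullback g j := pullback.snd (value c') fE ≫ sE
  have hy1 : y ≫ pullback.fst g j = pullback.fst (value c') fE ≫ pullback.snd j' g := by
    have : pullback.snd (value c') fE ≫ fE ≫ (D.obj PUnit.unit).hom =
        pullback.snd (value c') fE ≫ sE ≫ pullback.fst g j := congrArg _ pullback.condition
    simp only [y, Category.assoc]
    rw [← this, ← value_over c', pullback.condition_assoc]
  have hcond : a ≫ j' = (y ≫ pullback.snd g j) ≫ j := by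
    rw [Category.assoc y, ← pullback.condition, reassoc_of% hy1, Category.assoc, pullback.condition]
  let t : P ⟶ pullback j' j := pullback.lift a (y ≫ pullback.snd g j) hcond
  have hy : y ≫ pullback.snd g j = t ≫ pullback.snd j' j := (pullback.lift_snd _ _ _).symm
  let c'' : Compat (SchDesc82.pullD D j) (pullback.snd j' j) :=
    (c'.res (pullback.fst j' j) _ rfl).pull (α := id) (fun _ => pullback.condition) pullback.condition.symm
  refine ⟨pullback j' j, pullback.snd j' j, inferInstance, c'', pullback.lift t y hy.symm q, ?_⟩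
  rw [← Scheme.Hom.comp_apply, lift_value c'' t y hy]
  have key : (c''.pt (i := PUnit.unit) t y hy).1 = pullback.snd (value c') fE := by
    apply pullback.hom_ext
    · have h' : (y ≫ pullback.fst g j) ≫ g = (t ≫ pullback.fst j' j) ≫ j' := by
        rw [pullback.lift_fst, hy1, Category.assoc, Category.assoc, pullback.condition]
      have hval : (c''.pt (i := PUnit.unit) t y hy).1 ≫ fE =
          (c'.pt (i := PUnit.unit) (t ≫ pullback.fst j' j) (y ≫ pullback.fst g j) h').1 :=
        pullback.lift_fst _ _ _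
      refine hval.trans ?_
      rw [← pullback.condition]
      refine c'.nat (pullback.fst (value c') fE) (pullback.fst j' g) (pullback.snd j' g)
        pullback.condition.symm _ _ ?_ hy1.symm h'
      exact (pullback.lift_fst _ _ _).symm
    · exact pullback.lift_snd _ _ _
  rw [key]
  exact hq₂

section sub

variable (hg : SGA1.UnivSubmersive g) {W : (D.obj PUnit.unit).left.Opens} (hW : Stable D W)

include hg in
theorem HasCharts.subDD (h : HasCharts D) : HasCharts (subDD hW) := by
  intro e
  obtain ⟨V, j, hj, c, z, hz⟩ := h (W.ι e)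
  obtain ⟨O, hO, -⟩ := exists_locus hg hW
  let V' := (O c : Scheme.{u})
  let i := (O c).ι
  have hzO : pullback.fst j g z ∈ O c :=
    (hO c _ _ pullback.condition.symm z).1 (by
      show value c z ∈ W
      rw [hz]; exact e.2)
  obtain ⟨c', hc'⟩ := exists_map_subHom hW (c.res i (i ≫ j) rfl) fun T' t y hy q => by
    rw [Compat.res_pt]
    exact (hO c _ _ _ q).2 (t q).2
  obtain ⟨q, hq₁, -⟩ := Scheme.Pullback.exists_preimage_pullback (f := pullback.fst j g) (g := i) z
    ⟨_, hzO⟩ rfl
  let t := pullback.snd (pullback.fst j g) i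
  let y := pullback.fst (pullback.fst j g) i ≫ pullback.snd j g
  have hy : y ≫ g = t ≫ i ≫ j := by
    rw [Category.assoc, ← pullback.condition, pullback.condition_assoc]
  refine ⟨V', i ≫ j, inferInstance, c', pullback.lift t y hy.symm q, ?_⟩
  have key : (pullback.lift t y hy.symm ≫ value c') ≫ W.ι = pullback.fst (pullback.fst j g) i ≫ value c := by
    rw [lift_value c' t y hy]
    refine (congrArg (fun d : Compat D (i ≫ j) => (d.pt (i := PUnit.unit) t y hy).1) hc').trans ?_
    exact c.nat (pullback.fst (pullback.fst j g) i) (pullback.fst j g) (pullback.snd j g)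
      pullback.condition.symm (t ≫ i) y pullback.condition rfl _
  apply W.ι.isOpenEmbedding.injective
  exact (congrArg (fun f : _ ⟶ (D.obj PUnit.unit).left => f q) key).trans ((congrArg (value c) hq₁).trans hz)

end sub

section section_

variable (c : Compat D (𝟙 S))

/-- The section of the underlying scheme given by a compatible family over the base. -/
noncomputable def sect : S' ⟶ (D.obj PUnit.unit).left :=
  (c.pt (i := PUnit.unit) g (𝟙 S') (by simp)).1

theorem sect_over : sect c ≫ (D.obj PUnit.unit).hom = 𝟙 S' :=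
  (c.pt (i := PUnit.unit) g (𝟙 S') (by simp)).2

theorem pt_eq_sect {T : Scheme.{u}} (t : T ⟶ S) (y : T ⟶ S') (h : y ≫ g = t ≫ 𝟙 S) :
    (c.pt (i := PUnit.unit) t y h).1 = y ≫ sect c :=
  c.nat y g (𝟙 S') (by simp) t y (by rw [h, Category.comp_id]) (Category.comp_id _) h

theorem φ_sect {T : Scheme.{u}} (x₀ x₁ : T ⟶ S') (h : x₀ ≫ g = x₁ ≫ g)
    (v : Lifts (D.obj PUnit.unit) x₀) (hv : v.1 = x₀ ≫ sect c) :
    (D.φ (i := PUnit.unit) (j := PUnit.unit) x₀ x₁ h v).1 = x₁ ≫ sect c := by
  have h0 : x₀ ≫ g = (x₀ ≫ g) ≫ 𝟙 S := (Category.comp_id _).symm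
  rw [← pt_eq_sect c (x₀ ≫ g) x₁ (h.symm.trans h0),
    ← c.comp (i := PUnit.unit) (k := PUnit.unit) (x₀ ≫ g) x₀ x₁ h0 (h.symm.trans h0)]
  exact φ_congr rfl rfl _ _ _ _ (hv.trans (pt_eq_sect c _ _ h0).symm)

variable [Etale (D.obj PUnit.unit).hom]

theorem isOpenImmersion_sect : IsOpenImmersion (sect c) := by
  have : Etale (sect c ≫ (D.obj PUnit.unit).hom) := by rw [sect_over]; infer_instance
  have : Etale (sect c) :=
    MorphismProperty.of_postcomp (W := @Etale) (W' := @Etale) (sect c) (D.obj PUnit.unit).hom inferInstance this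
  have : Mono (sect c) := (SplitMono.mk (D.obj PUnit.unit).hom (sect_over c)).mono
  exact IsOpenImmersion.of_flat_of_mono _

theorem eq_sect_of_range {T : Scheme.{u}} {x : T ⟶ S'} (v : T ⟶ (D.obj PUnit.unit).left)
    (hv : v ≫ (D.obj PUnit.unit).hom = x) (h : Set.range v ⊆ Set.range (sect c)) : v = x ≫ sect c := by
  have := isOpenImmersion_sect c
  have hk := IsOpenImmersion.lift_fac (sect c) v h
  have : IsOpenImmersion.lift (sect c) v h = x := by
    have e := congrArg (· ≫ (D.obj PUnit.unit).hom) hk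
    simp only [Category.assoc, sect_over, Category.comp_id, hv] at e
    exact e
  rw [← this, hk]

/-- The image of the section, as an open set. -/
noncomputable def sectOpen : (D.obj PUnit.unit).left.Opens :=
  ⟨Set.range (sect c), (isOpenImmersion_sect c).base_open.isOpen_range⟩

theorem stable_sectOpen : Stable D (sectOpen c) := fun T x₀ x₁ h v z hz => by
  let T₀ := v.1 ⁻¹ᵁ sectOpen c
  let v₀ : Lifts (D.obj PUnit.unit) (T₀.ι ≫ x₀) := ⟨T₀.ι ≫ v.1, by rw [Category.assoc, v.2]⟩
  have h₀ : (T₀.ι ≫ x₀) ≫ g = (T₀.ι ≫ x₁) ≫ g := by simp only [Category.assoc, h]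
  have e : v₀.1 = (T₀.ι ≫ x₀) ≫ sect c := eq_sect_of_range c _ v₀.2 (by
    rintro _ ⟨w, rfl⟩
    exact w.2)
  have e₁ := φ_sect c _ (T₀.ι ≫ x₁) h₀ v₀ e
  rw [D.φ_natural T₀.ι x₀ x₁ h _ _ rfl rfl h₀ v v₀ rfl] at e₁
  refine ⟨(T₀.ι ≫ x₁) ⟨z, hz⟩, ?_⟩
  rw [← Scheme.Hom.comp_apply, ← e₁]
  rfl

theorem exists_repBy_sectOpen :
    ∃ U : Over S, Etale U.hom ∧ RepBy (subDD (stable_sectOpen c)) U := by
  obtain ⟨c₀, -⟩ := exists_map_subHom (stable_sectOpen c) c fun T' t y hy z => by
    rw [pt_eq_sect c t y hy]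
    exact ⟨y z, rfl⟩
  refine ⟨Over.mk (𝟙 S), inferInstanceAs (Etale (𝟙 S)), c₀, fun T s c' => ⟨⟨s, Category.comp_id s⟩, ?_, ?_⟩⟩
  · refine Compat.ext fun T' t i y hy => (cancel_mono (sectOpen c).ι).1 ?_
    have key : ∀ v : Lifts ((subDD (stable_sectOpen c)).obj i) y, v.1 ≫ (sectOpen c).ι = y ≫ sect c :=
      fun v => eq_sect_of_range c _ ((Category.assoc _ _ _).trans v.2) (by
        rintro _ ⟨w, rfl⟩
        exact (v.1 w).2)
    exact (key _).trans (key _).symm
  · intro q _
    exact Subtype.ext ((Category.comp_id q.1).symm.trans q.2)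

theorem Bd.subDD_compl {n : ℕ} (h : Bd D (n + 1)) {W : (D.obj PUnit.unit).left.Opens}
    (hW : Stable D W) (hW' : ∀ e, e ∈ W → e ∉ sectOpen c) : Bd (subDD hW) n := fun L _ _ x m l hl => by
  let l' : Fin m → Lifts (D.obj PUnit.unit) x := fun i => ⟨(l i).1 ≫ W.ι, (Category.assoc _ _ _).trans (l i).2⟩
  have hl' : Function.Injective l' := fun a b e =>
    hl (Subtype.ext ((cancel_mono W.ι).1 (congrArg Subtype.val e)))
  let s₀ : Lifts (D.obj PUnit.unit) x := ⟨x ≫ sect c, by rw [Category.assoc, sect_over, Category.comp_id]⟩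
  have hne : s₀ ∉ Set.range l' := by
    rintro ⟨i, hi⟩
    refine hW' _ ((l i).1 (IsLocalRing.closedPoint L)).2 ⟨x (IsLocalRing.closedPoint L), ?_⟩
    have := congrArg (fun a : Lifts (D.obj PUnit.unit) x => a.1 (IsLocalRing.closedPoint L)) hi
    exact this.symm
  have := h L x (Fin.cons s₀ l' : Fin (m + 1) → _) (Fin.cons_injective_iff.mpr ⟨hne, hl'⟩)
  omega

omit [Etale (D.obj PUnit.unit).hom] in
include c in
theorem not_bd_zero [Nonempty ↥S'] : ¬ Bd D 0 := fun h => by
  let x₀ : ↥S' := Classical.arbitrary _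
  let L := AlgebraicClosure (S'.residueField x₀)
  let x : Spec (CommRingCat.of L) ⟶ S' :=
    Spec.map (CommRingCat.ofHom (algebraMap (S'.residueField x₀) L)) ≫ S'.fromSpecResidueField x₀
  have := h L x (fun _ : Fin 1 => (⟨x ≫ sect c, by rw [Category.assoc, sect_over, Category.comp_id]⟩ :
    Lifts (D.obj PUnit.unit) x)) (Function.injective_of_subsingleton _)
  omega

end section_

/-- The image of an etale morphism, as an open subscheme. -/
def imageOpen {V : Scheme.{u}} (j : V ⟶ S) [Etale j] : S.Opens := ⟨Set.range j, j.isOpenMap.isOpen_range⟩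

/-- Descent from one etale chart to its image, which lies in an affine open. -/
theorem exists_repByOn_image (hg : SGA1.UnivSubmersive g) [QuasiCompact g] [Etale (D.obj PUnit.unit).hom]
    [QuasiCompact (D.obj PUnit.unit).hom] [IsSeparated (D.obj PUnit.unit).hom] {V : Scheme.{u}} [IsAffine V]
    (j : V ⟶ S) [Etale j] {A : S.Opens} (hA : IsAffineOpen A) (hjA : Set.range j ⊆ A) {U₁ : Over V}
    [Etale U₁.hom] (h : RepBy (pullD D j) U₁) :
    ∃ U : Over (imageOpen j : Scheme.{u}), Etale U.hom ∧ RepByOn D (imageOpen j).ι U := by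
  let O : S.Opens := imageOpen j
  let p : V ⟶ (O : Scheme.{u}) := IsOpenImmersion.lift O.ι j (by simp [O, imageOpen])
  have hp : p ≫ O.ι = j := IsOpenImmersion.lift_fac _ _ _
  have : Etale (p ≫ O.ι) := by rw [hp]; infer_instance
  have : Etale p := MorphismProperty.of_postcomp (W := @Etale) (W' := @Etale) p O.ι inferInstance this
  have : Surjective p := ⟨fun ⟨_, a, rfl⟩ => ⟨a, O.ι.isOpenEmbedding.injective (by
    rw [← Scheme.Hom.comp_apply, hp]; rfl)⟩⟩
  have : IsAffine (A : Scheme.{u}) := hA
  have : QuasiSeparatedSpace ↥(O : Scheme.{u}) :=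
    .of_isOpenEmbedding (S.homOfLE (show O ≤ A from hjA)).isOpenEmbedding
  have : QuasiCompact p := by
    have : QuasiSeparated (terminal.from (O : Scheme.{u})) := QuasiSeparated.of_quasiSeparatedSpace _
    have : QuasiCompact (p ≫ terminal.from (O : Scheme.{u})) := by
      rw [terminal.comp_from]; exact quasiCompact_of_compactSpace _
    exact QuasiCompact.of_comp p (terminal.from (O : Scheme.{u}))
  have : Etale ((pullD D j).obj PUnit.unit).hom := inferInstanceAs (Etale (pullback.snd _ _))
  have : QuasiCompact ((pullD D j).obj PUnit.unit).hom := inferInstanceAs (QuasiCompact (pullback.snd _ _))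
  have : IsSeparated ((pullD D j).obj PUnit.unit).hom := inferInstanceAs (IsSeparated (pullback.snd _ _))
  have : Etale ((pullD D O.ι).obj PUnit.unit).hom := inferInstanceAs (Etale (pullback.snd _ _))
  obtain ⟨h1, h2⟩ := qc_sep_of_repBy (univSubmersive_snd hg j) h
  have h' : RepByOn D j U₁ :=
    (repBy_pull_iff (D := D) (fun _ => pullback.condition) (univSubmersive_snd hg j) U₁).1 h
  obtain ⟨U, -, -, hU, hr⟩ := exists_repBy_of_fpqc p (repByOn_pullD hg O.ι p U₁ (hp.symm ▸ h'))
  exact ⟨U, hU, (repBy_pull_iff (D := D) (fun _ => pullback.condition) (univSubmersive_snd hg O.ι) U).1 hr⟩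

/-- Effectivity is local for the etale topology at charts. -/
theorem exists_repBy_of_charts_local (hg : SGA1.UnivSubmersive g) [QuasiCompact g]
    [Etale (D.obj PUnit.unit).hom] [QuasiCompact (D.obj PUnit.unit).hom] [IsSeparated (D.obj PUnit.unit).hom]
    (hc : HasCharts D)
    (H : ∀ (V : Scheme.{u}) [IsAffine V] (j : V ⟶ S) [Etale j], Compat D j → Nonempty ↥(pullback g j) →
      ∃ U : Over V, Etale U.hom ∧ RepBy (pullD D j) U) :
    ∃ U : Over S, Etale U.hom ∧ RepBy D U := by
  have key : ∀ e : ↥(D.obj PUnit.unit).left, ∃ W : S.Opens, ((D.obj PUnit.unit).hom ≫ g) e ∈ W ∧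
      ∃ U : Over (W : Scheme.{u}), Etale U.hom ∧ RepByOn D W.ι U := by
    intro e
    obtain ⟨V, j, hj, c, z, hz⟩ := hc e
    let v := pullback.fst j g z
    obtain ⟨A, hA, hvA, -⟩ := exists_isAffineOpen_mem_and_subset (U := (⊤ : S.Opens)) (x := j v) trivial
    obtain ⟨B, hB, hvB, hBA⟩ := exists_isAffineOpen_mem_and_subset (U := j ⁻¹ᵁ A) (x := v) hvA
    let j₁ := B.ι ≫ j
    have : IsAffine (B : Scheme.{u}) := hB
    have hrange : Set.range j₁ ⊆ A := by
      rintro _ ⟨b, rfl⟩
      rw [Scheme.Hom.comp_apply]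
      exact hBA b.2
    have hpt : g (pullback.snd j g z) = j₁ ⟨v, hvB⟩ := by
      rw [← Scheme.Hom.comp_apply, ← pullback.condition, Scheme.Hom.comp_apply]
      rfl
    obtain ⟨w, -⟩ := Scheme.Pullback.exists_preimage_pullback (f := g) (g := j₁) _ _ hpt
    obtain ⟨U₁, hU₁, hr₁⟩ := H B j₁ (c.res B.ι _ rfl) ⟨w⟩
    refine ⟨_, ?_, exists_repByOn_image hg j₁ hA hrange hr₁⟩
    refine ⟨⟨v, hvB⟩, ?_⟩
    rw [← hpt, ← hz, Scheme.Hom.comp_apply, ← Scheme.Hom.comp_apply (value c), value_over]
  choose W hW hrep using key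
  exact exists_repBy_of_supp hg W (fun e => ⟨e, hW e⟩) hrep

/-- Effectivity from charts, with bounded geometric fibres. -/
theorem exists_repBy_of_bd (n : ℕ) : ∀ {S S' : Scheme.{u}} {g : S' ⟶ S}
    {D : SchDDFam (fun _ : PUnit.{1} => g)} (_ : SGA1.UnivSubmersive g) [QuasiCompact g]
    [Etale (D.obj PUnit.unit).hom] [QuasiCompact (D.obj PUnit.unit).hom] [IsSeparated (D.obj PUnit.unit).hom],
    HasCharts D → Bd D n → ∃ U : Over S, Etale U.hom ∧ RepBy D U := by
  induction n with
  | zero =>
    intro S S' g D hg _ _ _ _ hc hb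
    refine exists_repBy_of_charts_local hg hc fun V _ j _ c hne => ?_
    have : Nonempty ↥(pullback g j) := hne
    exact absurd (hb.pullD j) (not_bd_zero (c.pull (α := id) (fun _ => pullback.condition) (Category.id_comp j)))
  | succ n ih =>
    intro S S' g D hg _ _ _ _ hc hb
    refine exists_repBy_of_charts_local hg hc fun V _ j _ c hne => ?_
    let D' := pullD D j
    let hg' := univSubmersive_snd hg j
    have : Etale (D'.obj PUnit.unit).hom := inferInstanceAs (Etale (pullback.snd _ _))
    have : QuasiCompact (D'.obj PUnit.unit).hom := inferInstanceAs (QuasiCompact (pullback.snd _ _))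
    have : IsSeparated (D'.obj PUnit.unit).hom := inferInstanceAs (IsSeparated (pullback.snd _ _))
    let c' : Compat D' (𝟙 V) := c.pull (α := id) (fun _ => pullback.condition) (Category.id_comp j)
    have hclosed : IsClosed (Set.range (sect c')) := by
      have : IsClosedImmersion (sect c' ≫ (D'.obj PUnit.unit).hom) := by rw [sect_over]; infer_instance
      have : IsClosedImmersion (sect c') := IsClosedImmersion.of_comp (sect c') (D'.obj PUnit.unit).hom
      exact (sect c').isClosedEmbedding.isClosed_range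
    let W' : (D'.obj PUnit.unit).left.Opens := ⟨(Set.range (sect c'))ᶜ, hclosed.isOpen_compl⟩
    have hW' : Stable D' W' := (stable_sectOpen c').compl fun e => Iff.rfl
    have : QuasiCompact W'.ι := by
      rw [quasiCompact_iff]
      intro K hK hKc
      rw [W'.ι.isOpenEmbedding.isEmbedding.isCompact_iff, Set.image_preimage_eq_inter_range,
        Scheme.Opens.range_ι]
      exact hKc.inter_right (sectOpen c').isOpen.isClosed_compl
    have : Etale ((subDD hW').obj PUnit.unit).hom := inferInstanceAs (Etale (W'.ι ≫ (D'.obj PUnit.unit).hom))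
    have : QuasiCompact ((subDD hW').obj PUnit.unit).hom :=
      inferInstanceAs (QuasiCompact (W'.ι ≫ (D'.obj PUnit.unit).hom))
    have : IsSeparated ((subDD hW').obj PUnit.unit).hom :=
      inferInstanceAs (IsSeparated (W'.ι ≫ (D'.obj PUnit.unit).hom))
    let Wf : ULift.{u} Bool → (D'.obj PUnit.unit).left.Opens := fun b => bif b.down then sectOpen c' else W'
    have hWf : ∀ b, Stable D' (Wf b) := fun ⟨b⟩ => by
      cases b
      · exact hW'
      · exact stable_sectOpen c'
    refine exists_repBy_of_stable_cover hg' Wf hWf (fun e => ?_) fun ⟨b⟩ => ?_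
    · by_cases he : e ∈ sectOpen c'
      · exact ⟨⟨true⟩, he⟩
      · exact ⟨⟨false⟩, he⟩
    · cases b
      · exact ih hg' ((hc.pullD j).subDD hg' hW') ((hb.pullD j).subDD_compl c' hW' fun e he => he)
      · exact exists_repBy_sectOpen c'

/-- Effectivity from charts. -/
theorem exists_repBy_of_charts (hg : SGA1.UnivSubmersive g) [QuasiCompact g]
    [Etale (D.obj PUnit.unit).hom] [QuasiCompact (D.obj PUnit.unit).hom] [IsSeparated (D.obj PUnit.unit).hom]
    (hc : HasCharts D) :
    ∃ U : Over S, QuasiCompact U.hom ∧ IsSeparated U.hom ∧ Etale U.hom ∧ RepBy D U := by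
  obtain ⟨U, hU, hr⟩ := exists_repBy_of_charts_local hg hc fun V _ j _ c hne => by
    have : Etale ((pullD D j).obj PUnit.unit).hom := inferInstanceAs (Etale (pullback.snd _ _))
    have : QuasiCompact ((pullD D j).obj PUnit.unit).hom := inferInstanceAs (QuasiCompact (pullback.snd _ _))
    have : IsSeparated ((pullD D j).obj PUnit.unit).hom := inferInstanceAs (IsSeparated (pullback.snd _ _))
    have : CompactSpace ↥(pullback g j) :=
      QuasiCompact.compactSpace_of_compactSpace (pullback.snd g j)
    have : CompactSpace ↥((pullD D j).obj PUnit.unit).left :=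
      QuasiCompact.compactSpace_of_compactSpace ((pullD D j).obj PUnit.unit).hom
    obtain ⟨n, hn⟩ := exists_bd (D := pullD D j)
    exact exists_repBy_of_bd n (univSubmersive_snd hg j) (hc.pullD j) hn
  obtain ⟨h1, h2⟩ := qc_sep_of_repBy hg hr
  exact ⟨U, h1, h2, hU, hr⟩

end Groth.Agent.SchDesc82
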