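import Groth.Agent.SchDesc82.Triv
import Groth.Agent.DescLib.DescCharts
import Groth.Agent.SGA1Q.Subm

/-!
# Open subdata and representability from an open cover by them
-/

universe w u

set_option autoImplicit false
set_option backward.isDefEq.respectTransparency false
set_option backward.isDefEq.respectTransparency.types false

open CategoryTheory CategoryTheory.Limits AlgebraicGeometry Opposite Desc

namespace Groth.Agent.SchDesc82

open DescLib

/-- A scheme covered by etale charts represents etale. -/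
theorem exists_repBy_of_chartCover {S : Scheme.{u}} {ι : Type w} {X : ι → Scheme.{u}} {f : ∀ i, X i ⟶ S}
    {D : SchDDFam f} {κ : Type u} (C : κ → Chart D) (hC : ∀ k, Etale (C k).U.hom)
    (hcover : ∀ ⦃T : Scheme.{u}⦄ ⦃s : T ⟶ S⦄ (c : Compat D s) (x : T), ∃ k, x ∈ (C k).O c) :
    ∃ U : Over S, Etale U.hom ∧ RepBy D U := by
  obtain ⟨U, hU⟩ := exists_repBy (rep_of_charts (C := C) hcover)
  refine ⟨U, ?_, hU⟩
  obtain ⟨c₀, hu⟩ := hU
  let 𝒰 : U.left.OpenCover := Scheme.Cover.mkOfCovers κ (fun k => ((C k).O c₀).toScheme)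
    (fun k => ((C k).O c₀).ι) fun x => by
      obtain ⟨k, hk⟩ := hcover c₀ x
      exact ⟨k, ⟨x, hk⟩, rfl⟩
  refine IsZariskiLocalAtSource.of_openCover (P := @Etale) 𝒰 fun k => ?_
  show Etale (((C k).O c₀).ι ≫ U.hom)
  let i := ((C k).O c₀).ι
  obtain ⟨q, hq, -⟩ := (C k).univ (c₀.res i (i ≫ U.hom) rfl)
    (by
      rw [(C k).O_res]
      have := preimage_ι_eq_top ((C k).O c₀) (𝟙 _)
      rwa [Category.id_comp] at this)
  obtain ⟨r, hr, -⟩ := hu (C k).U.hom (C k).c₀
  have hr1 : r.1 ⁻¹ᵁ (C k).O c₀ = ⊤ := by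
    rw [← (C k).O_res c₀ r.1 (C k).U.hom r.2, hr, (C k).O₀]
  let r' : (C k).U.left ⟶ ((C k).O c₀).toScheme :=
    IsOpenImmersion.lift i r.1 (range_subset_of_preimage_eq_top _ _ hr1)
  have hr' : r' ≫ i = r.1 := IsOpenImmersion.lift_fac _ _ _
  have h1 : r' ≫ q.1 = 𝟙 _ := by
    refine congrArg Subtype.val (((C k).univ (C k).c₀ (C k).O₀).unique
      (y₁ := ⟨r' ≫ q.1, by rw [Category.assoc, q.2, ← Category.assoc, hr', r.2]⟩)
      (y₂ := ⟨𝟙 _, Category.id_comp _⟩) ?_ (Compat.res_id _ _))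
    rw [← Compat.res_res _ q.1 _ q.2 r' _ (by rw [← Category.assoc, hr', r.2]) _ rfl, hq,
      Compat.res_res _ _ _ _ _ _ _ r.1 hr' r.2, hr]
  have h2 : q.1 ≫ r' = 𝟙 _ := by
    rw [← cancel_mono i, Category.assoc, hr', Category.id_comp]
    refine congrArg Subtype.val ((hu (i ≫ U.hom) (c₀.res i _ rfl)).unique
      (y₁ := ⟨q.1 ≫ r.1, by rw [Category.assoc, r.2, q.2]⟩) (y₂ := ⟨i, rfl⟩) ?_ rfl)
    rw [← Compat.res_res _ r.1 _ r.2 q.1 _ q.2 _ rfl, hr, hq]
  have : IsIso q.1 := ⟨r', h2, h1⟩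
  have := hC k
  rw [← q.2]
  infer_instance

variable {S S' : Scheme.{u}} {g : S' ⟶ S} {D : SchDDFam (fun _ : PUnit.{1} => g)}

/-- An open set of the underlying scheme, stable under the descent datum. -/
def Stable (D : SchDDFam (fun _ : PUnit.{1} => g)) (W : (D.obj PUnit.unit).left.Opens) : Prop :=
  ∀ ⦃T : Scheme.{u}⦄ (x₀ x₁ : T ⟶ S') (h : x₀ ≫ g = x₁ ≫ g) (v : Lifts (D.obj PUnit.unit) x₀) (z : T),
    v.1 z ∈ W → (D.φ (i := PUnit.unit) (j := PUnit.unit) x₀ x₁ h v).1 z ∈ W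

theorem Stable.iff {W : (D.obj PUnit.unit).left.Opens} (hW : Stable D W) {T : Scheme.{u}} (x₀ x₁ : T ⟶ S')
    (h : x₀ ≫ g = x₁ ≫ g) (v : Lifts (D.obj PUnit.unit) x₀) (z : T) :
    (D.φ (i := PUnit.unit) (j := PUnit.unit) x₀ x₁ h v).1 z ∈ W ↔ v.1 z ∈ W := by
  refine ⟨fun hz => ?_, hW x₀ x₁ h v z⟩
  have := hW x₁ x₀ h.symm _ z hz
  rwa [D.φ_comp, D.φ_self] at this

/-- A complementary open of a stable open is stable. -/
theorem Stable.compl {W W' : (D.obj PUnit.unit).left.Opens} (hW : Stable D W)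
    (hW' : ∀ e, e ∈ W' ↔ e ∉ W) : Stable D W' := fun T x₀ x₁ h v z hz => by
  rw [hW'] at hz ⊢
  rwa [hW.iff]

/-- The equivalence on points of a stable open. -/
noncomputable def subMap {W : (D.obj PUnit.unit).left.Opens} (hW : Stable D W) {T : Scheme.{u}}
    (x₀ x₁ : T ⟶ S') (h : x₀ ≫ g = x₁ ≫ g) (v : Lifts (Over.mk (W.ι ≫ (D.obj PUnit.unit).hom)) x₀) :
    Lifts (Over.mk (W.ι ≫ (D.obj PUnit.unit).hom)) x₁ :=
  let b := D.φ (i := PUnit.unit) (j := PUnit.unit) x₀ x₁ h ⟨v.1 ≫ W.ι, (Category.assoc _ _ _).trans v.2⟩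
  ⟨IsOpenImmersion.lift W.ι b.1 (by
      rintro _ ⟨z, rfl⟩
      exact ⟨⟨b.1 z, hW x₀ x₁ h _ z (v.1 z).2⟩, rfl⟩), by
    show _ ≫ W.ι ≫ (D.obj PUnit.unit).hom = x₁
    rw [IsOpenImmersion.lift_fac_assoc]
    exact b.2⟩

theorem subMap_ι {W : (D.obj PUnit.unit).left.Opens} (hW : Stable D W) {T : Scheme.{u}}
    (x₀ x₁ : T ⟶ S') (h : x₀ ≫ g = x₁ ≫ g) (v : Lifts (Over.mk (W.ι ≫ (D.obj PUnit.unit).hom)) x₀) :
    (subMap hW x₀ x₁ h v).1 ≫ W.ι =
      (D.φ (i := PUnit.unit) (j := PUnit.unit) x₀ x₁ h ⟨v.1 ≫ W.ι, (Category.assoc _ _ _).trans v.2⟩).1 :=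
  IsOpenImmersion.lift_fac _ _ _

theorem subMap_subMap {W : (D.obj PUnit.unit).left.Opens} (hW : Stable D W) {T : Scheme.{u}}
    (x₀ x₁ x₂ : T ⟶ S') (h : x₀ ≫ g = x₁ ≫ g) (h' : x₁ ≫ g = x₂ ≫ g)
    (v : Lifts (Over.mk (W.ι ≫ (D.obj PUnit.unit).hom)) x₀) :
    subMap hW x₁ x₂ h' (subMap hW x₀ x₁ h v) = subMap hW x₀ x₂ (h.trans h') v := by
  refine Subtype.ext ((cancel_mono W.ι).1 ?_)
  refine (subMap_ι hW _ _ _ _).trans ?_
  refine Eq.trans ?_ (subMap_ι hW _ _ _ _).symm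
  refine Eq.trans ?_ (congrArg Subtype.val (D.φ_comp (i := PUnit.unit) (j := PUnit.unit) (k := PUnit.unit)
    x₀ x₁ x₂ h h' _))
  congr 2
  exact Subtype.ext (subMap_ι hW _ _ _ _)

theorem subMap_self {W : (D.obj PUnit.unit).left.Opens} (hW : Stable D W) {T : Scheme.{u}}
    (x : T ⟶ S') (v : Lifts (Over.mk (W.ι ≫ (D.obj PUnit.unit).hom)) x) :
    subMap hW x x rfl v = v := by
  refine Subtype.ext ((cancel_mono W.ι).1 ?_)
  rw [subMap_ι, D.φ_self]

/-- The open subdatum of a stable open. -/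
noncomputable def subDD {W : (D.obj PUnit.unit).left.Opens} (hW : Stable D W) :
    SchDDFam (fun _ : PUnit.{1} => g) where
  obj _ := Over.mk (W.ι ≫ (D.obj PUnit.unit).hom)
  φ T i j x₀ x₁ h :=
    { toFun := subMap hW x₀ x₁ h
      invFun := subMap hW x₁ x₀ h.symm
      left_inv := fun v => (subMap_subMap hW x₀ x₁ x₀ h h.symm v).trans (subMap_self hW x₀ v)
      right_inv := fun v => (subMap_subMap hW x₁ x₀ x₁ h.symm h v).trans (subMap_self hW x₁ v) }
  φ_natural T T' m i j x₀ x₁ h y₀ y₁ hy₀ hy₁ h' v v' hv := by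
    refine (cancel_mono W.ι).1 ?_
    refine (subMap_ι hW _ _ _ _).trans ?_
    refine Eq.trans ?_ (Category.assoc _ _ _).symm
    refine Eq.trans ?_ (congrArg (m ≫ ·) (subMap_ι hW x₀ x₁ h v).symm)
    refine D.φ_natural m x₀ x₁ h y₀ y₁ hy₀ hy₁ h' _ _ ?_
    show v'.1 ≫ W.ι = m ≫ v.1 ≫ W.ι
    rw [hv, Category.assoc]
  φ_self T i x v := subMap_self hW x v
  φ_comp T i j k x₀ x₁ x₂ h₀₁ h₁₂ v := subMap_subMap hW x₀ x₁ x₂ h₀₁ h₁₂ v

/-- The inclusion of an open subdatum. -/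
noncomputable def subHom {W : (D.obj PUnit.unit).left.Opens} (hW : Stable D W) : subDD hW ⟶ D :=
  ⟨fun _ => Over.homMk W.ι rfl, fun T i j x₀ x₁ h v w hw => by
    refine Eq.trans ?_ (subMap_ι hW x₀ x₁ h v).symm
    congr 2
    exact Subtype.ext hw⟩

section locus

variable (hg : SGA1.UnivSubmersive g) (W : (D.obj PUnit.unit).left.Opens)

/-- The value of a compatible family at the generic point over its base. -/
noncomputable def value {T : Scheme.{u}} {s : T ⟶ S} (c : Compat D s) :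
    pullback s g ⟶ (D.obj PUnit.unit).left :=
  (c.pt (i := PUnit.unit) (pullback.fst s g) (pullback.snd s g) pullback.condition.symm).1

theorem value_over {T : Scheme.{u}} {s : T ⟶ S} (c : Compat D s) :
    value c ≫ (D.obj PUnit.unit).hom = pullback.snd s g :=
  (c.pt (i := PUnit.unit) (pullback.fst s g) (pullback.snd s g) pullback.condition.symm).2

theorem lift_value {T T' : Scheme.{u}} {s : T ⟶ S} (c : Compat D s) (t : T' ⟶ T) (y : T' ⟶ S')
    (h : y ≫ g = t ≫ s) :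
    pullback.lift t y h.symm ≫ value c = (c.pt (i := PUnit.unit) t y h).1 :=
  (c.nat _ _ _ _ t y (pullback.lift_fst _ _ _) (pullback.lift_snd _ _ _) h).symm

variable {W}

theorem value_sat (hW : Stable D W) {T : Scheme.{u}} {s : T ⟶ S} (c : Compat D s)
    (z z' : ↥(pullback s g)) (e : pullback.fst s g z = pullback.fst s g z') (hz : value c z ∈ W) :
    value c z' ∈ W := by
  obtain ⟨r, hr, hr'⟩ := Scheme.Pullback.exists_preimage_pullback z z' e
  let m := pullback.fst (pullback.fst s g) (pullback.fst s g)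
  let n := pullback.snd (pullback.fst s g) (pullback.fst s g)
  have hn : n ≫ pullback.fst s g = m ≫ pullback.fst s g := pullback.condition.symm
  have hm : (m ≫ pullback.snd s g) ≫ g = (m ≫ pullback.fst s g) ≫ s := by
    simp only [Category.assoc, pullback.condition]
  have hn' : (n ≫ pullback.snd s g) ≫ g = (m ≫ pullback.fst s g) ≫ s := by
    rw [← hn]; simp only [Category.assoc, pullback.condition]
  have h0 : (c.pt (i := PUnit.unit) _ _ hm).1 = m ≫ value c :=
    c.nat m _ _ pullback.condition.symm _ _ rfl rfl hm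
  have h1 : (c.pt (i := PUnit.unit) _ _ hn').1 = n ≫ value c :=
    c.nat n _ _ pullback.condition.symm _ _ hn rfl hn'
  have key := hW (m ≫ pullback.snd s g) (n ≫ pullback.snd s g) (hm.trans hn'.symm)
    (c.pt (i := PUnit.unit) _ _ hm) r (by rw [h0, Scheme.Hom.comp_apply]; exact (congrArg (fun a => value c a ∈ W) hr).mpr hz)
  rw [c.comp (i := PUnit.unit) (k := PUnit.unit) (m ≫ pullback.fst s g) _ _ hm hn', h1,
    Scheme.Hom.comp_apply] at key
  exact (congrArg (fun a => value c a ∈ W) hr').mp key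

include hg in
/-- The open locus where a compatible family lands in a stable open. -/
theorem exists_locus (hW : Stable D W) : ∃ O : ∀ ⦃T : Scheme.{u}⦄ ⦃s : T ⟶ S⦄, Compat D s → T.Opens,
    (∀ ⦃T T' : Scheme.{u}⦄ ⦃s : T ⟶ S⦄ (c : Compat D s) (t : T' ⟶ T) (y : T' ⟶ S') (h : y ≫ g = t ≫ s)
      (z : T'), (c.pt (i := PUnit.unit) t y h).1 z ∈ W ↔ t z ∈ O c) ∧
    ∀ ⦃T T' : Scheme.{u}⦄ ⦃s : T ⟶ S⦄ (c : Compat D s) (m : T' ⟶ T) (s' : T' ⟶ S) (hs : m ≫ s = s'),
      O (c.res m s' hs) = m ⁻¹ᵁ O c := by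
  let O : ∀ ⦃T : Scheme.{u}⦄ ⦃s : T ⟶ S⦄, Compat D s → T.Opens := fun T s c =>
    ⟨pullback.fst s g '' (value c ⁻¹ᵁ W : Set ↥(pullback s g)), by
      rw [← (SGA1Q.isQuotientMap_fst hg s).isOpen_preimage]
      have : pullback.fst s g ⁻¹' (pullback.fst s g '' (value c ⁻¹ᵁ W : Set ↥(pullback s g))) =
          value c ⁻¹ᵁ W := by
        refine Set.Subset.antisymm ?_ (Set.subset_preimage_image _ _)
        rintro z ⟨z', hz', e⟩
        exact value_sat hW c z' z e hz'
      rw [this]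
      exact (value c ⁻¹ᵁ W).isOpen⟩
  have hmem : ∀ ⦃T T' : Scheme.{u}⦄ ⦃s : T ⟶ S⦄ (c : Compat D s) (t : T' ⟶ T) (y : T' ⟶ S')
      (h : y ≫ g = t ≫ s) (z : T'), (c.pt (i := PUnit.unit) t y h).1 z ∈ W ↔ t z ∈ O c := by
    intro T T' s c t y h z
    rw [← lift_value c t y h, Scheme.Hom.comp_apply]
    have e : pullback.fst s g (pullback.lift t y h.symm z) = t z := by
      rw [← Scheme.Hom.comp_apply, pullback.lift_fst]
    refine ⟨fun hz => ⟨_, hz, e⟩, ?_⟩
    rintro ⟨z', hz', e'⟩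
    exact value_sat hW c z' _ (e'.trans e.symm) hz'
  refine ⟨O, hmem, fun T T' s c m s' hs => ?_⟩
  ext x
  obtain ⟨z, rfl⟩ := (SGA1Q.isQuotientMap_fst hg s').surjective x
  refine (hmem (c.res m s' hs) (pullback.fst s' g) (pullback.snd s' g) pullback.condition.symm z).symm.trans ?_
  rw [Compat.res_pt]
  exact hmem c (pullback.fst s' g ≫ m) _ _ z

theorem value_mem_of_map (hW : Stable D W) {T : Scheme.{u}} {s : T ⟶ S} (c : Compat (subDD hW) s)
    {T' : Scheme.{u}} (t : T' ⟶ T) (y : T' ⟶ S') (h : y ≫ g = t ≫ s) (z : T') :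
    ((c.map (subHom hW)).pt (i := PUnit.unit) t y h).1 z ∈ W := by
  show ((c.pt (i := PUnit.unit) t y h).1 ≫ W.ι) z ∈ W
  rw [Scheme.Hom.comp_apply]
  exact ((c.pt (i := PUnit.unit) t y h).1 z).2

theorem map_subHom_injective (hW : Stable D W) {T : Scheme.{u}} {s : T ⟶ S} {c c' : Compat (subDD hW) s}
    (e : c.map (subHom hW) = c'.map (subHom hW)) : c = c' := by
  refine Compat.ext fun T' t i y hy => ?_
  exact (cancel_mono W.ι).1 (congrArg (fun d : Compat D s => (d.pt t y hy).1) e)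

/-- A family with values in a stable open is a family of the subdatum. -/
theorem exists_map_subHom (hW : Stable D W) {T : Scheme.{u}} {s : T ⟶ S} (c : Compat D s)
    (h : ∀ ⦃T' : Scheme.{u}⦄ (t : T' ⟶ T) (y : T' ⟶ S') (hy : y ≫ g = t ≫ s) (z : T'),
      (c.pt (i := PUnit.unit) t y hy).1 z ∈ W) : ∃ c' : Compat (subDD hW) s, c'.map (subHom hW) = c := by
  have hb : ∀ ⦃T' : Scheme.{u}⦄ (t : T' ⟶ T) (i : PUnit.{1}) (y : T' ⟶ S') (hy : y ≫ g = t ≫ s),
      ∃ b : Lifts ((subDD hW).obj i) y, b.1 ≫ W.ι = (c.pt (i := PUnit.unit) t y hy).1 := fun T' t i y hy =>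
    ⟨⟨IsOpenImmersion.lift W.ι (c.pt (i := PUnit.unit) t y hy).1 (by
        rintro _ ⟨z, rfl⟩
        exact ⟨⟨_, h t y hy z⟩, rfl⟩), by
      show _ ≫ W.ι ≫ (D.obj PUnit.unit).hom = y
      rw [IsOpenImmersion.lift_fac_assoc]
      exact (c.pt (i := PUnit.unit) t y hy).2⟩, IsOpenImmersion.lift_fac _ _ _⟩
  choose b hb using hb
  refine ⟨{ pt := fun T' t i y hy => b t i y hy, nat := ?_, comp := ?_ },
    Compat.ext fun T' t i y hy => hb t i y hy⟩
  · intro T' T'' m t i y hy t' y' hm hmy hy'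
    refine (cancel_mono W.ι).1 ?_
    rw [Category.assoc]
    exact (hb t' i y' hy').trans ((c.nat m t y hy t' y' hm hmy hy').trans (congrArg (m ≫ ·) (hb t i y hy).symm))
  · intro T' t i k y y' hy hy'
    refine Subtype.ext ((cancel_mono W.ι).1 ?_)
    refine (subMap_ι hW _ _ _ _).trans ?_
    rw [hb t k y' hy', ← c.comp (i := PUnit.unit) (k := PUnit.unit) t y y' hy hy']
    exact φ_congr rfl rfl _ _ _ _ (hb t i y hy)

end locus

/-- Two stable opens covering the underlying scheme: representability of both parts suffices. -/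
theorem exists_repBy_of_stable_cover (hg : SGA1.UnivSubmersive g) {κ : Type u}
    (W : κ → (D.obj PUnit.unit).left.Opens) (hW : ∀ k, Stable D (W k))
    (hcov : ∀ e, ∃ k, e ∈ W k) (h : ∀ k, ∃ U : Over S, Etale U.hom ∧ RepBy (subDD (hW k)) U) :
    ∃ U : Over S, Etale U.hom ∧ RepBy D U := by
  choose U hU c₀ hu using h
  choose O hO hOres using fun k => exists_locus hg (hW k)
  have hlift : ∀ k {T : Scheme.{u}} {s : T ⟶ S} (c : Compat D s), O k c = ⊤ →
      ∃ c' : Compat (subDD (hW k)) s, c'.map (subHom (hW k)) = c := fun k T s c hc =>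
    exists_map_subHom (hW k) c fun T' t y hy z => by
      rw [hO k c t y hy z, hc]
      trivial
  let C : κ → Chart D := fun k =>
    { O := O k
      O_res := hOres k
      U := U k
      c₀ := (c₀ k).map (subHom (hW k))
      O₀ := by
        ext x
        refine iff_of_true ?_ trivial
        obtain ⟨z, rfl⟩ := (SGA1Q.isQuotientMap_fst hg (U k).hom).surjective x
        exact (hO k _ _ _ pullback.condition.symm z).1 (value_mem_of_map (hW k) (c₀ k) _ _ _ z)
      univ := fun T s c hc => by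
        obtain ⟨c', rfl⟩ := hlift k c hc
        obtain ⟨q, hq, huniq⟩ := hu k s c'
        refine ⟨q, ?_, fun r hr => huniq r (map_subHom_injective (hW k) ?_)⟩
        · simp only [← Compat.map_res, hq]
        · simp only [Compat.map_res]; exact hr }
  refine exists_repBy_of_chartCover C hU fun T s c x => ?_
  obtain ⟨z, rfl⟩ := (SGA1Q.isQuotientMap_fst hg s).surjective x
  obtain ⟨k, hk⟩ := hcov (value c z)
  exact ⟨k, (hO k c _ _ pullback.condition.symm z).1 hk⟩

/-- Representability by etale schemes over opens containing all values suffices. -/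
theorem exists_repBy_of_supp (hg : SGA1.UnivSubmersive g) {κ : Type u} (V : κ → S.Opens)
    (hV : ∀ e : ↥(D.obj PUnit.unit).left, ∃ k, ((D.obj PUnit.unit).hom ≫ g) e ∈ V k)
    (h : ∀ k, ∃ U : Over (V k : Scheme.{u}), Etale U.hom ∧ RepByOn D (V k).ι U) :
    ∃ U : Over S, Etale U.hom ∧ RepBy D U := by
  choose U hU c₀ hu using h
  let C : κ → Chart D := fun k =>
    { O := fun T s _ => s ⁻¹ᵁ V k
      O_res := fun T T' s c m s' hs => by subst hs; rfl
      U := Over.mk ((U k).hom ≫ (V k).ι)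
      c₀ := c₀ k
      O₀ := preimage_ι_eq_top _ _
      univ := fun T s c hs => by
        obtain ⟨x, rfl⟩ : ∃ x : T ⟶ (V k : Scheme.{u}), x ≫ (V k).ι = s :=
          ⟨IsOpenImmersion.lift _ s (range_subset_of_preimage_eq_top _ s hs), IsOpenImmersion.lift_fac _ _ _⟩
        obtain ⟨p, hp, huniq⟩ := hu k x c
        refine ⟨⟨p.1, (Category.assoc _ _ _).symm.trans (congrArg (· ≫ (V k).ι) p.2)⟩, hp, fun q hq => ?_⟩
        have hq2 : q.1 ≫ (U k).hom = x := by
          rw [← cancel_mono (V k).ι, Category.assoc]; exact q.2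
        have e := congrArg Subtype.val (huniq ⟨q.1, hq2⟩ hq)
        exact Subtype.ext e }
  refine exists_repBy_of_chartCover C (fun k => ?_) fun T s c x => ?_
  · have := hU k
    exact inferInstanceAs (Etale ((U k).hom ≫ (V k).ι))
  · obtain ⟨z, rfl⟩ := (SGA1Q.isQuotientMap_fst hg s).surjective x
    obtain ⟨k, hk⟩ := hV (value c z)
    refine ⟨k, ?_⟩
    show s (pullback.fst s g z) ∈ V k
    rwa [← Scheme.Hom.comp_apply, pullback.condition, ← value_over c, Category.assoc, Scheme.Hom.comp_apply]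

/-- A representing etale scheme is quasi-compact and separated. -/
theorem qc_sep_of_repBy (hg : SGA1.UnivSubmersive g) [QuasiCompact g] [Etale (D.obj PUnit.unit).hom]
    [QuasiCompact (D.obj PUnit.unit).hom] [IsSeparated (D.obj PUnit.unit).hom] {U : Over S}
    (h : RepBy D U) : QuasiCompact U.hom ∧ IsSeparated U.hom := by
  obtain ⟨v, hv, -, hiso⟩ := exists_triv h.repByOn_id
  have := hiso
  let F := pullback.fst (U.hom ≫ 𝟙 S) g
  let G := pullback.snd (U.hom ≫ 𝟙 S) g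
  have hG : G = psi (𝟙 S) U v hv ≫ pullback.fst _ _ ≫ (D.obj PUnit.unit).hom := by
    rw [reassoc_of% psi_fst, hv]
  have : QuasiCompact G := hG ▸ inferInstance
  have : IsSeparated G := hG ▸ inferInstance
  have hF : Function.Surjective F := (SGA1Q.isQuotientMap_fst hg _).surjective
  have hcond : F ≫ U.hom = G ≫ g := by simpa using (pullback.condition (f := U.hom ≫ 𝟙 S) (g := g))
  refine ⟨⟨fun K hK hKc => ?_⟩, ?_⟩
  · have h1 : IsCompact ((G ≫ g) ⁻¹' K) := QuasiCompact.isCompact_preimage K hK hKc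
    have := h1.image F.continuous
    rwa [← hcond, show ((F ≫ U.hom : _ ⟶ S) : _ → S) ⁻¹' K = F ⁻¹' (U.hom ⁻¹' K) from by
      ext z; simp, Set.image_preimage_eq _ hF] at this
  · have := SGA1Q.isSeparated_of_isPullback (IsPullback.of_hasPullback (U.hom ≫ 𝟙 S) g).flip hg inferInstance
    rwa [Category.comp_id] at this

end Groth.Agent.SchDesc82
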