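import Groth.Agent.SchDesc82.Rep

/-!
# Descent of a representing scheme along a universally submersive morphism
-/

universe w u

set_option autoImplicit false
set_option backward.isDefEq.respectTransparency false
set_option backward.isDefEq.respectTransparency.types false

open CategoryTheory CategoryTheory.Limits AlgebraicGeometry Opposite Desc

namespace Groth.Agent.SchDesc82

open DescLib

variable {S : Scheme.{u}} {ι : Type w} {X : ι → Scheme.{u}} {f : ∀ i, X i ⟶ S} {D : SchDDFam f}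
  {S₁ : Scheme.{u}} {h : S₁ ⟶ S} {U₁ : Over S₁} (c₁ : Compat D (U₁.hom ≫ h))

/-- The family at a point of the representing scheme. -/
noncomputable def famAt {T : Scheme.{u}} {x : T ⟶ S₁} (p : Lifts U₁ x) (s : T ⟶ S) (hs : x ≫ h = s) :
    Compat D s :=
  c₁.res p.1 s (by rw [← Category.assoc, p.2, hs])

variable (hu : ∀ ⦃T : Scheme.{u}⦄ (x : T ⟶ S₁) (c : Compat D (x ≫ h)),
  ∃! p : Lifts U₁ x, c₁.res p.1 (x ≫ h) (by rw [← Category.assoc, p.2]) = c)

/-- Transport of points of the representing scheme between two lifts of a point of the base. -/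
noncomputable def trans {T : Scheme.{u}} {x₀ : T ⟶ S₁} (x₁ : T ⟶ S₁) (e : x₀ ≫ h = x₁ ≫ h)
    (p : Lifts U₁ x₀) : Lifts U₁ x₁ :=
  (hu x₁ (famAt c₁ p (x₁ ≫ h) e)).choose

theorem famAt_trans {T : Scheme.{u}} {x₀ : T ⟶ S₁} (x₁ : T ⟶ S₁) (e : x₀ ≫ h = x₁ ≫ h)
    (p : Lifts U₁ x₀) (s : T ⟶ S) (hs : x₁ ≫ h = s) :
    famAt c₁ (trans c₁ hu x₁ e p) s hs = famAt c₁ p s (e.trans hs) := by
  subst hs
  exact (hu x₁ (famAt c₁ p (x₁ ≫ h) e)).choose_spec.1

include hu in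
theorem famAt_injective {T : Scheme.{u}} {x : T ⟶ S₁} {p q : Lifts U₁ x} {s : T ⟶ S} {hs : x ≫ h = s}
    (e : famAt c₁ p s hs = famAt c₁ q s hs) : p = q := by
  subst hs
  exact (hu x (famAt c₁ q (x ≫ h) rfl)).unique e rfl

theorem trans_eq_iff {T : Scheme.{u}} {x₀ : T ⟶ S₁} (x₁ : T ⟶ S₁) (e : x₀ ≫ h = x₁ ≫ h)
    (p : Lifts U₁ x₀) (q : Lifts U₁ x₁) (s : T ⟶ S) (hs : x₁ ≫ h = s) :
    trans c₁ hu x₁ e p = q ↔ famAt c₁ p s (e.trans hs) = famAt c₁ q s hs :=
  ⟨fun k => by rw [← k, famAt_trans], fun k =>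
    famAt_injective c₁ hu (s := s) (hs := hs) ((famAt_trans c₁ hu x₁ e p s hs).trans k)⟩

/-- The induced descent datum on the representing scheme. -/
noncomputable def transDD : SchDD h where
  obj := U₁
  φ T x₀ x₁ e :=
    { toFun := trans c₁ hu x₁ e
      invFun := trans c₁ hu x₀ e.symm
      left_inv := fun p => (trans_eq_iff c₁ hu x₀ e.symm _ p (x₀ ≫ h) rfl).2 (famAt_trans c₁ hu x₁ e p _ e.symm)
      right_inv := fun p => (trans_eq_iff c₁ hu x₁ e _ p (x₁ ≫ h) rfl).2 (famAt_trans c₁ hu x₀ e.symm p _ e) }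
  φ_natural T T' g x₀ x₁ e e' v v' hv := by
    have hw : (⟨g ≫ (trans c₁ hu x₁ e v).1, by rw [Category.assoc, (trans c₁ hu x₁ e v).2]⟩ :
        Lifts U₁ (g ≫ x₁)) = trans c₁ hu (g ≫ x₁) e' v' := by
      refine ((trans_eq_iff c₁ hu (g ≫ x₁) e' v' _ _ rfl).2 ?_).symm
      have k := congrArg (fun c : Compat D (x₁ ≫ h) => c.res g ((g ≫ x₁) ≫ h) (Category.assoc _ _ _).symm)
        (famAt_trans c₁ hu x₁ e v (x₁ ≫ h) rfl)
      exact ((Compat.res_res _ _ _ _ _ _ _ v'.1 hv.symm _).symm.trans k.symm).trans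
        (Compat.res_res _ _ _ _ _ _ _ _ rfl _)
    exact (congrArg Subtype.val hw).symm
  φ_self T x v := (trans_eq_iff c₁ hu x rfl v v (x ≫ h) rfl).2 rfl
  φ_comp T x₀ x₁ x₂ e e' v := ((trans_eq_iff c₁ hu x₂ (e.trans e') v _ (x₂ ≫ h) rfl).2
    ((famAt_trans c₁ hu x₂ e' _ _ rfl).trans (famAt_trans c₁ hu x₁ e v _ e')).symm).symm

variable [∀ i, Etale (D.obj i).hom]

/-- An etale scheme descending the induced datum represents the compatible families. -/
theorem repBy_of_transDD (hh : SGA1.UnivSubmersive h) (U : Over S) [Etale U.hom]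
    (I : (toDD h).obj U ≅ transDD c₁ hu) : RepBy D U := by
  let e : U₁.left ⟶ pullback h U.hom := I.inv.hom.left
  let e' : pullback h U.hom ⟶ U₁.left := I.hom.hom.left
  have he₁ : e ≫ e' = 𝟙 _ :=
    congrArg (fun a : transDD c₁ hu ⟶ transDD c₁ hu => a.hom.left) I.inv_hom_id
  have he₂ : e' ≫ e = 𝟙 _ :=
    congrArg (fun a : (toDD h).obj U ⟶ (toDD h).obj U => a.hom.left) I.hom_inv_id
  have : IsIso e := ⟨e', he₁, he₂⟩
  have hef : e ≫ pullback.fst h U.hom = U₁.hom := Over.w I.inv.hom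
  let π : U₁.left ⟶ U.left := e ≫ pullback.snd h U.hom
  have hπ : π ≫ U.hom = U₁.hom ≫ h := by
    rw [Category.assoc, ← pullback.condition, ← Category.assoc, hef]
  have hπs : SGA1.UnivSubmersive π := SGA1Q.univSubmersive_of_isPullback hh
    (k := π) (j := U₁.hom) (q := U.hom)
    (IsPullback.of_iso (IsPullback.of_hasPullback h U.hom).flip (asIso e).symm (Iso.refl _) (Iso.refl _)
      (Iso.refl _) (by simp [π]) (by simp [← hef]) (by simp) (by simp))
  have hcomm : ∀ {T : Scheme.{u}} {x₀ : T ⟶ S₁} (x₁ : T ⟶ S₁) (k : x₀ ≫ h = x₁ ≫ h) (p : Lifts U₁ x₀),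
      (trans c₁ hu x₁ k p).1 ≫ π = p.1 ≫ π := by
    intro T x₀ x₁ k p
    have := I.inv.comm x₀ x₁ k p ⟨p.1 ≫ e, by
      show (p.1 ≫ e) ≫ pullback.fst h U.hom = x₀
      rw [Category.assoc, hef]; exact p.2⟩ rfl
    have := congrArg (fun a => a ≫ pullback.snd h U.hom) this
    simp only [toDD, canonicalDD, Equiv.coe_fn_mk, canMap_val, pullback.lift_snd, Category.assoc] at this
    exact this.symm
  have heq : ∀ {T : Scheme.{u}} {x₀ x₁ : T ⟶ S₁} (p : Lifts U₁ x₀) (q : Lifts U₁ x₁) (s : T ⟶ S)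
      (h₀ : x₀ ≫ h = s) (h₁ : x₁ ≫ h = s), p.1 ≫ π = q.1 ≫ π → famAt c₁ p s h₀ = famAt c₁ q s h₁ := by
    intro T x₀ x₁ p q s h₀ h₁ k
    refine (trans_eq_iff c₁ hu x₁ (h₀.trans h₁.symm) p q s h₁).1 (Subtype.ext ?_)
    rw [← cancel_mono e]
    apply pullback.hom_ext
    · rw [Category.assoc, Category.assoc, hef, (trans c₁ hu x₁ _ p).2, q.2]
    · rw [Category.assoc, Category.assoc]
      exact (hcomm x₁ _ p).trans k
  obtain ⟨c₀, hc₀⟩ := compat_glue hπs (U₁.hom ≫ h) hπ c₁ fun Z a b sz ha hb k =>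
    heq (x₀ := a ≫ U₁.hom) (x₁ := b ≫ U₁.hom) ⟨a, rfl⟩ ⟨b, rfl⟩ sz (by rw [Category.assoc]; exact ha)
      (by rw [Category.assoc]; exact hb) k
  have hfam : ∀ {T : Scheme.{u}} {x : T ⟶ S₁} (p : Lifts U₁ x) (s : T ⟶ S) (hs : x ≫ h = s)
      (h' : (p.1 ≫ π) ≫ U.hom = s), c₀.res (p.1 ≫ π) s h' = famAt c₁ p s hs := by
    intro T x p s hs h'
    refine (Compat.res_res c₀ π _ hπ p.1 s (by rw [← Category.assoc, p.2, hs]) _ rfl h').symm.trans ?_
    rw [hc₀]; rfl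
  refine ⟨c₀, fun T s c => ?_⟩
  let F := pullback.fst s h
  let x := pullback.snd s h
  have hx : x ≫ h = F ≫ s := pullback.condition.symm
  have hF : SGA1.UnivSubmersive F :=
    SGA1Q.univSubmersive_of_isPullback hh (IsPullback.of_hasPullback s h)
  obtain ⟨q, hq, hquniq⟩ := hu x (c.res F (x ≫ h) hx.symm)
  have hq' : ∀ (s' : pullback s h ⟶ S) (h₁ : x ≫ h = s') (h₂ : F ≫ s = s'),
      famAt c₁ q s' h₁ = c.res F s' h₂ := by
    intro s' h₁ h₂
    subst h₁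
    exact hq
  obtain ⟨v, ⟨hv₁, hv₂⟩, hvuniq⟩ := existsUnique_lift hF U.hom s (q.1 ≫ π)
    (by rw [Category.assoc, hπ, ← Category.assoc, q.2, hx]) fun Z a b k => by
      let p₀ : Lifts U₁ (a ≫ x) := ⟨a ≫ q.1, by rw [Category.assoc, q.2]⟩
      let p₁ : Lifts U₁ (b ≫ x) := ⟨b ≫ q.1, by rw [Category.assoc, q.2]⟩
      have hb : (b ≫ x) ≫ h = (a ≫ F) ≫ s := by rw [Category.assoc, hx, k, Category.assoc]
      have ha : (a ≫ x) ≫ h = (a ≫ F) ≫ s := by rw [Category.assoc, hx, Category.assoc]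
      have e₀ : famAt c₁ p₀ _ ha = famAt c₁ p₁ _ hb := by
        have r : ∀ (d : Z ⟶ pullback s h) (hd : d ≫ x ≫ h = (a ≫ F) ≫ s),
            famAt c₁ (⟨d ≫ q.1, by rw [Category.assoc, q.2]⟩ : Lifts U₁ (d ≫ x)) _
              ((Category.assoc _ _ _).trans hd) = c.res (d ≫ F) ((a ≫ F) ≫ s)
              (by rw [Category.assoc, ← hx, hd]) := by
          intro d hd
          have := congrArg (fun z : Compat D (x ≫ h) => z.res d ((a ≫ F) ≫ s) hd) (hq' _ rfl hx.symm)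
          exact ((Compat.res_res _ _ _ _ _ _ _ _ rfl _).symm.trans this).trans
            (Compat.res_res _ _ _ _ _ _ _ _ rfl _)
        refine (r a (by rw [← Category.assoc]; exact ha)).trans (Eq.trans ?_ (r b (by rw [← Category.assoc]; exact hb)).symm)
        exact Compat.res_congr c k _ _ _
      have := (trans_eq_iff c₁ hu (b ≫ x) (ha.trans hb.symm) p₀ p₁ _ hb).2 e₀
      rw [← Category.assoc, ← Category.assoc]
      exact (hcomm (b ≫ x) (ha.trans hb.symm) p₀).symm.trans (congrArg (fun z => z.1 ≫ π) this)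
  refine ⟨⟨v, hv₁⟩, compat_ext hF ?_, fun p hp => Subtype.ext (hvuniq p.1 ⟨p.2, ?_⟩)⟩
  · refine ((Compat.res_res c₀ v s hv₁ F _ rfl _ hv₂ (by rw [← hv₂, Category.assoc, hv₁])).trans ?_)
    rw [hfam q (F ≫ s) hx]
    exact hq' _ hx rfl
  · let r : Lifts U₁ x := ⟨pullback.lift x (F ≫ p.1) (by rw [hx, Category.assoc, p.2]) ≫ e', by
      rw [← hef, Category.assoc, reassoc_of% he₂, pullback.lift_fst]⟩
    have hr : r.1 ≫ π = F ≫ p.1 := by
      simp only [r, π, Category.assoc, reassoc_of% he₂, pullback.lift_snd]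
    rw [← hr]
    congr 2
    refine hquniq r ?_
    show famAt c₁ r (x ≫ h) rfl = _
    rw [← hfam r (x ≫ h) rfl (by rw [hr, Category.assoc, p.2, hx]),
      Compat.res_congr c₀ hr _ _ (by rw [Category.assoc, p.2, hx])]
    refine (Compat.res_res c₀ p.1 s p.2 F _ hx.symm _ rfl _).symm.trans ?_
    rw [hp]

end Groth.Agent.SchDesc82
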