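import Groth.Agent.DescLib.DescEff
import Groth.Agent.DescLib.EtaleHom

/-!
# Morphisms into etale schemes and compatible families glue along universally submersive maps
-/

universe w u

set_option autoImplicit false
set_option backward.isDefEq.respectTransparency false
set_option backward.isDefEq.respectTransparency.types false

open CategoryTheory CategoryTheory.Limits AlgebraicGeometry Opposite Desc

namespace Groth.Agent.SchDesc82

open DescLib

/-- Morphisms into an etale scheme descend along universally submersive morphisms. -/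
theorem existsUnique_lift {W W' E B : Scheme.{u}} {h : W' ⟶ W} (hh : SGA1.UnivSubmersive h)
    (π : E ⟶ B) [Etale π] (x : W ⟶ B) (v' : W' ⟶ E) (hv : v' ≫ π = h ≫ x)
    (hc : ∀ ⦃Z : Scheme.{u}⦄ (a b : Z ⟶ W'), a ≫ h = b ≫ h → a ≫ v' = b ≫ v') :
    ∃! v : W ⟶ E, v ≫ π = x ∧ h ≫ v = v' := by
  let q := pullback.snd π x
  have hsq : (pullback.snd (𝟙 W) h) ≫ h = pullback.fst (𝟙 W) h := by
    rw [← pullback.condition, Category.comp_id]
  have hl : (pullback.snd (𝟙 W) h ≫ v') ≫ π = (pullback.snd (𝟙 W) h ≫ h) ≫ x := by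
    rw [Category.assoc, hv, Category.assoc]
  let f' : pullback (𝟙 W) h ⟶ pullback q h :=
    pullback.lift (pullback.lift (pullback.snd (𝟙 W) h ≫ v') (pullback.snd (𝟙 W) h ≫ h) hl)
      (pullback.snd (𝟙 W) h) (pullback.lift_snd _ _ _)
  have hf₁ : f' ≫ pullback.fst q h ≫ pullback.fst π x = pullback.snd (𝟙 W) h ≫ v' := by
    rw [← Category.assoc, pullback.lift_fst, pullback.lift_fst]
  have hf₂ : f' ≫ pullback.fst q h ≫ q = pullback.snd (𝟙 W) h ≫ h := by
    rw [← Category.assoc, pullback.lift_fst]; exact pullback.lift_snd _ _ _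
  obtain ⟨u, ⟨hu, hu'⟩, huniq⟩ := existsUnique_descend_etale h (𝟙 W) q
    (SGA1Q.isQuotientMap_fst hh (𝟙 W)).surjective
    (SGA1Q.isQuotientMap_of_isPullback hh
      (IsPullback.of_hasPullback h (pullback.fst (𝟙 W) q ≫ 𝟙 W)).flip)
    f' (pullback.lift_snd _ _ _) (by
      apply pullback.hom_ext
      · simp only [Category.assoc, hf₁]
        rw [← Category.assoc, ← Category.assoc]
        refine hc _ _ ?_
        simp only [Category.assoc, hsq]
        simp
      · simp only [Category.assoc]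
        erw [hf₂]
        simp only [hsq]
        simp)
  have key : pullback.fst (𝟙 W) h ≫ u ≫ pullback.fst π x = pullback.snd (𝟙 W) h ≫ v' := by
    rw [← Category.assoc, ← hu', Category.assoc, hf₁]
  have hf : pullback.lift h (𝟙 W') (by simp) ≫ pullback.fst (𝟙 W) h = h := pullback.lift_fst _ _ _
  refine ⟨u ≫ pullback.fst π x, ⟨?_, ?_⟩, ?_⟩
  · rw [Category.assoc, pullback.condition, ← Category.assoc, hu, Category.id_comp]
  · have := congrArg (pullback.lift h (𝟙 W') (by simp) ≫ ·) key
    simp only [← Category.assoc, hf, pullback.lift_snd] at this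
    rw [← Category.assoc]
    exact this.trans (Category.id_comp v')
  · rintro v ⟨hvx, hvh⟩
    have e := huniq (pullback.lift v (𝟙 W) (by rw [hvx, Category.id_comp]))
      ⟨pullback.lift_snd _ _ _, by
        apply pullback.hom_ext
        · rw [Category.assoc, hf₁, Category.assoc, pullback.lift_fst, ← hvh, ← Category.assoc, hsq]
        · erw [Category.assoc, hf₂, Category.assoc, pullback.lift_snd, Category.comp_id, hsq]⟩
    rw [← e, pullback.lift_fst]

/-- Two morphisms into an etale scheme over a common base are equal if they agree after a universally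
submersive map. -/
theorem hom_ext_lift {W W' E B : Scheme.{u}} {h : W' ⟶ W} (hh : SGA1.UnivSubmersive h)
    (π : E ⟶ B) [Etale π] {v₁ v₂ : W ⟶ E} (e : v₁ ≫ π = v₂ ≫ π) (e' : h ≫ v₁ = h ≫ v₂) : v₁ = v₂ := by
  refine (existsUnique_lift hh π (v₁ ≫ π) (h ≫ v₁) (Category.assoc _ _ _) fun Z a b eq => ?_).unique
    ⟨rfl, rfl⟩ ⟨e.symm, e'.symm⟩
  rw [← Category.assoc, eq, Category.assoc]

variable {S : Scheme.{u}} {ι : Type w} {X : ι → Scheme.{u}} {f : ∀ i, X i ⟶ S} {D : SchDDFam f}
  [∀ i, Etale (D.obj i).hom] {T T' : Scheme.{u}} {s : T ⟶ S} {h : T' ⟶ T}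

/-- Compatible families are determined after a universally submersive map. -/
theorem compat_ext (hh : SGA1.UnivSubmersive h) {c c' : Compat D s}
    (e : c.res h (h ≫ s) rfl = c'.res h (h ≫ s) rfl) : c = c' := by
  refine Compat.ext fun T'' t i y hy => ?_
  have hP : SGA1.UnivSubmersive (pullback.fst t h) :=
    SGA1Q.univSubmersive_of_isPullback hh (IsPullback.of_hasPullback t h)
  refine hom_ext_lift hP (D.obj i).hom ((c.pt t y hy).2.trans (c'.pt t y hy).2.symm) ?_
  have hy' : (pullback.fst t h ≫ y) ≫ f i = (pullback.snd t h ≫ h) ≫ s := by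
    rw [← pullback.condition, Category.assoc, hy, Category.assoc]
  have hy'' : (pullback.fst t h ≫ y) ≫ f i = pullback.snd t h ≫ h ≫ s := by
    rw [hy', Category.assoc]
  rw [← c.nat (pullback.fst t h) t y hy (pullback.snd t h ≫ h) _ pullback.condition rfl hy',
    ← c'.nat (pullback.fst t h) t y hy (pullback.snd t h ≫ h) _ pullback.condition rfl hy']
  exact congrArg (fun d : Compat D (h ≫ s) => (d.pt (pullback.snd t h) (pullback.fst t h ≫ y) hy'').1) e

/-- Compatible families glue along universally submersive maps. -/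
theorem compat_glue (hh : SGA1.UnivSubmersive h) (s' : T' ⟶ S) (hs : h ≫ s = s') (c' : Compat D s')
    (hc : ∀ ⦃Z : Scheme.{u}⦄ (a b : Z ⟶ T') (sz : Z ⟶ S) (ha : a ≫ s' = sz) (hb : b ≫ s' = sz),
      a ≫ h = b ≫ h → c'.res a sz ha = c'.res b sz hb) :
    ∃ c : Compat D s, c.res h s' hs = c' := by
  have hy' : ∀ {T'' : Scheme.{u}} (t : T'' ⟶ T) {i : ι} (y : T'' ⟶ X i) (_ : y ≫ f i = t ≫ s)
      {Z : Scheme.{u}} (a : Z ⟶ T'') (b : Z ⟶ T') (_ : a ≫ t = b ≫ h), (a ≫ y) ≫ f i = b ≫ s' := by
    intro T'' t i y hy Z a b e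
    rw [Category.assoc, hy, reassoc_of% e, hs]
  have hgl : ∀ ⦃T'' : Scheme.{u}⦄ (t : T'' ⟶ T) ⦃i : ι⦄ (y : T'' ⟶ X i) (hy : y ≫ f i = t ≫ s),
      ∃ v : Lifts (D.obj i) y, ∀ {Z : Scheme.{u}} (a : Z ⟶ T'') (b : Z ⟶ T') (e : a ≫ t = b ≫ h),
        a ≫ v.1 = (c'.pt b (a ≫ y) (hy' t y hy a b e)).1 := by
    intro T'' t i y hy
    have hP : SGA1.UnivSubmersive (pullback.fst t h) :=
      SGA1Q.univSubmersive_of_isPullback hh (IsPullback.of_hasPullback t h)
    let v' := c'.pt (pullback.snd t h) (pullback.fst t h ≫ y) (hy' t y hy _ _ pullback.condition)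
    have hnat : ∀ {Z : Scheme.{u}} (m : Z ⟶ pullback t h) (h1 : ((m ≫ pullback.fst t h) ≫ y) ≫ f i =
        (m ≫ pullback.snd t h) ≫ s'),
        m ≫ v'.1 = (c'.pt (m ≫ pullback.snd t h) ((m ≫ pullback.fst t h) ≫ y) h1).1 := fun m h1 =>
      (c'.nat m _ _ _ _ _ rfl (Category.assoc _ _ _).symm _).symm
    obtain ⟨v, ⟨hv₁, hv₂⟩, -⟩ := existsUnique_lift hP (D.obj i).hom y v'.1 v'.2 fun Z a b e => by
      have ha := hy' t y hy (a ≫ pullback.fst t h) (a ≫ pullback.snd t h)
        (by simp only [Category.assoc, pullback.condition])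
      have hb := hy' t y hy (b ≫ pullback.fst t h) (b ≫ pullback.snd t h)
        (by simp only [Category.assoc, pullback.condition])
      rw [hnat a ha, hnat b hb]
      have e' : (a ≫ pullback.snd t h) ≫ h = (b ≫ pullback.snd t h) ≫ h := by
        simp only [Category.assoc, ← pullback.condition]
        rw [reassoc_of% e]
      have hs' : (b ≫ pullback.snd t h) ≫ s' = (a ≫ pullback.snd t h) ≫ s' := by
        rw [← hs, ← Category.assoc, ← e', Category.assoc]
      have k := congrArg (fun d : Compat D ((a ≫ pullback.snd t h) ≫ s') =>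
        (d.pt (𝟙 Z) ((a ≫ pullback.fst t h) ≫ y) (by rw [ha, Category.id_comp])).1) (hc _ _ _ rfl hs' e')
      exact ((c'.pt_congr (Category.id_comp _).symm rfl _ _).trans k).trans
        (c'.pt_congr (Category.id_comp _) (by rw [e]) _ _)
    refine ⟨⟨v, hv₁⟩, fun {Z} a b e => ?_⟩
    show a ≫ v = _
    have h1 : pullback.lift a b e ≫ pullback.fst t h = a := pullback.lift_fst _ _ _
    have h2 : pullback.lift a b e ≫ pullback.snd t h = b := pullback.lift_snd _ _ _
    conv_lhs => rw [← h1, Category.assoc, hv₂]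
    rw [hnat _ (by rw [h1, h2]; exact hy' t y hy a b e)]
    exact c'.pt_congr h2 (by rw [h1]) _ _
  choose v hv using hgl
  have hP : ∀ {T'' : Scheme.{u}} (t : T'' ⟶ T), SGA1.UnivSubmersive (pullback.fst t h) := fun t =>
    SGA1Q.univSubmersive_of_isPullback hh (IsPullback.of_hasPullback t h)
  refine ⟨{ pt := fun T'' t i y hy => v t y hy, nat := ?_, comp := ?_ }, ?_⟩
  · intro T'' T₃ q t i y hy t' y' hq hqy hy₂
    refine hom_ext_lift (hP t') (D.obj i).hom ?_ ?_
    · rw [(v t' y' hy₂).2, Category.assoc, (v t y hy).2, hqy]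
    · have e : (pullback.fst t' h ≫ q) ≫ t = pullback.snd t' h ≫ h := by
        rw [Category.assoc, hq, pullback.condition]
      rw [hv t' y' hy₂ _ _ pullback.condition, ← Category.assoc, hv t y hy _ _ e]
      exact c'.pt_congr rfl (by rw [Category.assoc, hqy]) _ _
  · intro T'' t i k y y' hy hy₂
    refine Subtype.ext (hom_ext_lift (hP t) (D.obj k).hom ?_ ?_)
    · rw [(D.φ y y' _ _).2, (v t y' hy₂).2]
    · let p := pullback.fst t h
      have hp : (p ≫ y) ≫ f i = (p ≫ y') ≫ f k := by
        simp only [Category.assoc, hy, hy₂]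
      rw [← D.φ_natural p y y' (hy.trans hy₂.symm) (p ≫ y) (p ≫ y') rfl rfl hp (v t y hy)
        ⟨p ≫ (v t y hy).1, by rw [Category.assoc, (v t y hy).2]⟩ rfl,
        hv t y' hy₂ _ _ pullback.condition]
      rw [show (⟨p ≫ (v t y hy).1, by rw [Category.assoc, (v t y hy).2]⟩ : Lifts (D.obj i) (p ≫ y)) =
        c'.pt (pullback.snd t h) (p ≫ y) (hy' t y hy _ _ pullback.condition) from
        Subtype.ext (hv t y hy _ _ pullback.condition), c'.comp]
  · refine Compat.ext fun T'' b i y hy => ?_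
    show (v (b ≫ h) y _).1 = _
    rw [← Category.id_comp (v (b ≫ h) y _).1, hv (b ≫ h) y _ (𝟙 T'') b (Category.id_comp _)]
    exact c'.pt_congr rfl (Category.id_comp _) _ _

end Groth.Agent.SchDesc82
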