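import Mathlib

/-! Fibre products over a fixed base commute with cofiltered limits. -/

set_option autoImplicit false
set_option backward.isDefEq.respectTransparency false
set_option backward.isDefEq.respectTransparency.types false

universe u

open AlgebraicGeometry CategoryTheory Limits

namespace Groth.Agent.SchDesc82.PairSys

variable {J : Type u} [SmallCategory J] {S : Scheme.{u}} {A B : J ⥤ Scheme.{u}}
  (a : ∀ j, A.obj j ⟶ S) (ha : ∀ {i j : J} (f : i ⟶ j), A.map f ≫ a j = a i)
  (b : ∀ j, B.obj j ⟶ S) (hb : ∀ {i j : J} (f : i ⟶ j), B.map f ≫ b j = b i)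

/-- The diagram of fibre products. -/
noncomputable def diag : J ⥤ Scheme.{u} where
  obj j := pullback (a j) (b j)
  map f := pullback.map _ _ _ _ (A.map f) (B.map f) (𝟙 S) (by rw [Category.comp_id, ha])
    (by rw [Category.comp_id, hb])
  map_id j := by apply pullback.hom_ext <;> simp
  map_comp f g := by apply pullback.hom_ext <;> simp

@[reassoc]
theorem map_fst {i j : J} (f : i ⟶ j) :
    (diag a ha b hb).map f ≫ pullback.fst (a j) (b j) = pullback.fst (a i) (b i) ≫ A.map f :=
  pullback.lift_fst _ _ _

@[reassoc]
theorem map_snd {i j : J} (f : i ⟶ j) :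
    (diag a ha b hb).map f ≫ pullback.snd (a j) (b j) = pullback.snd (a i) (b i) ≫ B.map f :=
  pullback.lift_snd _ _ _

include ha hb in
theorem isAffineHom_map [∀ {i j : J} (f : i ⟶ j), IsAffineHom (A.map f)]
    [∀ {i j : J} (f : i ⟶ j), IsAffineHom (B.map f)] {i j : J} (f : i ⟶ j) :
    IsAffineHom ((diag a ha b hb).map f) :=
  MorphismProperty.pullback_map (P := @IsAffineHom) (inferInstanceAs (IsAffineHom (A.map f)))
    (inferInstanceAs (IsAffineHom (B.map f))) (ha f).symm (hb f).symm

theorem compactSpace_obj [IsAffine S] [∀ j, CompactSpace (A.obj j)] [∀ j, IsAffine (B.obj j)] (j : J) :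
    CompactSpace ↥((diag a ha b hb).obj j) :=
  QuasiCompact.compactSpace_of_compactSpace (pullback.fst (a j) (b j))

theorem quasiSeparatedSpace_obj [IsAffine S] [∀ j, QuasiSeparatedSpace (A.obj j)] [∀ j, IsAffine (B.obj j)] (j : J) :
    QuasiSeparatedSpace ↥((diag a ha b hb).obj j) :=
  quasiSeparatedSpace_of_quasiSeparated (pullback.fst (a j) (b j))

variable {cA : Cone A} {cB : Cone B} (sA : cA.pt ⟶ S) (hsA : ∀ j, cA.π.app j ≫ a j = sA)
  (sB : cB.pt ⟶ S) (hsB : ∀ j, cB.π.app j ≫ b j = sB)

/-- The legs of the cone of fibre products. -/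
noncomputable def proj (j : J) : pullback sA sB ⟶ pullback (a j) (b j) :=
  pullback.map _ _ _ _ (cA.π.app j) (cB.π.app j) (𝟙 S) (by rw [Category.comp_id, hsA])
    (by rw [Category.comp_id, hsB])

@[reassoc]
theorem proj_fst (j : J) :
    proj a b sA hsA sB hsB j ≫ pullback.fst (a j) (b j) = pullback.fst sA sB ≫ cA.π.app j :=
  pullback.lift_fst _ _ _

@[reassoc]
theorem proj_snd (j : J) :
    proj a b sA hsA sB hsB j ≫ pullback.snd (a j) (b j) = pullback.snd sA sB ≫ cB.π.app j :=
  pullback.lift_snd _ _ _

/-- The cone of fibre products. -/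
noncomputable def cone : Cone (diag a ha b hb) where
  pt := pullback sA sB
  π :=
    { app := fun j => proj a b sA hsA sB hsB j
      naturality := fun i j f => by
        refine (Category.id_comp _).trans ?_
        apply pullback.hom_ext
        · rw [proj_fst, Category.assoc, map_fst, proj_fst_assoc, cA.w]
        · rw [proj_snd, Category.assoc, map_snd, proj_snd_assoc, cB.w] }

/-- Fibre products over a fixed base commute with cofiltered limits. -/
noncomputable def isLimitCone [Nonempty J] (hA : IsLimit cA) (hB : IsLimit cB) :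
    IsLimit (cone a ha b hb sA hsA sB hsB) := by
  let e : ∀ (s : Cone (diag a ha b hb)) (j : J), s.pt ⟶ pullback (a j) (b j) := fun s j => s.π.app j
  have he : ∀ (s : Cone (diag a ha b hb)) {i j : J} (f : i ⟶ j), e s i ≫ (diag a ha b hb).map f = e s j :=
    fun s i j f => s.w f
  let L1 : Cone (diag a ha b hb) → Cone A := fun s =>
    { pt := s.pt
      π :=
        { app := fun i => e s i ≫ pullback.fst (a i) (b i)
          naturality := fun i j f => (Category.id_comp _).trans
            ((congrArg (· ≫ pullback.fst (a j) (b j)) (he s f)).symm.trans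
              ((Category.assoc _ _ _).trans ((congrArg (e s i ≫ ·) (map_fst a ha b hb f)).trans
                (Category.assoc _ _ _).symm))) } }
  let L2 : Cone (diag a ha b hb) → Cone B := fun s =>
    { pt := s.pt
      π :=
        { app := fun i => e s i ≫ pullback.snd (a i) (b i)
          naturality := fun i j f => (Category.id_comp _).trans
            ((congrArg (· ≫ pullback.snd (a j) (b j)) (he s f)).symm.trans
              ((Category.assoc _ _ _).trans ((congrArg (e s i ≫ ·) (map_snd a ha b hb f)).trans
                (Category.assoc _ _ _).symm))) } }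
  have h1 : ∀ s i, hA.lift (L1 s) ≫ cA.π.app i = e s i ≫ pullback.fst (a i) (b i) := fun s i => hA.fac _ i
  have h2 : ∀ s i, hB.lift (L2 s) ≫ cB.π.app i = e s i ≫ pullback.snd (a i) (b i) := fun s i => hB.fac _ i
  let i₀ : J := Classical.arbitrary J
  let L : ∀ s : Cone (diag a ha b hb), s.pt ⟶ pullback sA sB := fun s =>
    pullback.lift (hA.lift (L1 s)) (hB.lift (L2 s)) (by
      rw [← hsA i₀, ← hsB i₀, reassoc_of% (h1 s i₀), reassoc_of% (h2 s i₀), pullback.condition])
  have hL : ∀ s i, L s ≫ proj a b sA hsA sB hsB i = e s i := fun s i => by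
    apply pullback.hom_ext
    · rw [Category.assoc, proj_fst, pullback.lift_fst_assoc, h1]
    · rw [Category.assoc, proj_snd, pullback.lift_snd_assoc, h2]
  have huniq : ∀ (s : Cone (diag a ha b hb)) (m : s.pt ⟶ pullback sA sB),
      (∀ i, m ≫ proj a b sA hsA sB hsB i = e s i) → m = L s := fun s m hm => by
    apply pullback.hom_ext
    · rw [pullback.lift_fst]
      refine hA.hom_ext fun i => ?_
      rw [h1, Category.assoc, ← hm i, Category.assoc, proj_fst]
    · rw [pullback.lift_snd]
      refine hB.hom_ext fun i => ?_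
      rw [h2, Category.assoc, ← hm i, Category.assoc, proj_snd]
  exact ⟨L, hL, huniq⟩

end Groth.Agent.SchDesc82.PairSys
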