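import Groth.Agent.SchDesc82.Proper

/-!
# Effectivity of etale separated descent data, quasi-compact or not, from charts
-/

universe u

set_option autoImplicit false
set_option backward.isDefEq.respectTransparency false
set_option backward.isDefEq.respectTransparency.types false

open CategoryTheory CategoryTheory.Limits AlgebraicGeometry Opposite Desc

namespace Groth.Agent.SchDesc82

open DescLib

variable {S S' : Scheme.{u}} {g : S' ⟶ S} {D : SchDDFam (fun _ : PUnit.{1} => g)}

/-- A scheme representing a separated etale datum is separated. -/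
theorem sep_of_repBy (hg : SGA1.UnivSubmersive g) [Etale (D.obj PUnit.unit).hom]
    [IsSeparated (D.obj PUnit.unit).hom] {U : Over S} (h : RepBy D U) : IsSeparated U.hom := by
  obtain ⟨v, hv, -, hiso⟩ := exists_triv h.repByOn_id
  have := hiso
  let G := pullback.snd (U.hom ≫ 𝟙 S) g
  have hG : G = psi (𝟙 S) U v hv ≫ pullback.fst _ _ ≫ (D.obj PUnit.unit).hom := by
    rw [reassoc_of% psi_fst, hv]
  have : IsSeparated G := hG ▸ inferInstance
  have := SGA1Q.isSeparated_of_isPullback (IsPullback.of_hasPullback (U.hom ≫ 𝟙 S) g).flip hg inferInstance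
  rwa [Category.comp_id] at this

/-- The values of a family with open value map over an open of its base. -/
theorem exists_stable_value_of_isOpenMap {V : Scheme.{u}} {j : V ⟶ S} (c : Compat D j)
    (hopen : IsOpenMap (value c)) (B : V.Opens) :
    ∃ W : (D.obj PUnit.unit).left.Opens, Stable D W ∧
      (W : Set ↥(D.obj PUnit.unit).left) = value c '' (pullback.fst j g ⁻¹' B) := by
  refine ⟨⟨_, hopen _ (B.isOpen.preimage (pullback.fst j g).continuous)⟩, ?_, rfl⟩
  rintro T x₀ x₁ h v z ⟨w, hw, hwz⟩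
  obtain ⟨r, hr₁, hr₂⟩ := Scheme.Pullback.exists_preimage_pullback (f := v.1) (g := value c) z w hwz.symm
  let m := pullback.fst v.1 (value c)
  let n := pullback.snd v.1 (value c)
  have e₀ : n ≫ pullback.snd j g = m ≫ x₀ := by
    rw [← value_over c, ← Category.assoc, ← pullback.condition, Category.assoc, v.2]
  let t := n ≫ pullback.fst j g
  have h₀ : (m ≫ x₀) ≫ g = t ≫ j := by
    rw [← e₀]; simp only [t, Category.assoc, pullback.condition]
  have h₁ : (m ≫ x₁) ≫ g = t ≫ j := by rw [Category.assoc, ← h, ← Category.assoc, h₀]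
  have hv : (c.pt (i := PUnit.unit) t (m ≫ x₀) h₀).1 = m ≫ v.1 := by
    rw [← lift_value c t (m ≫ x₀) h₀]
    have : pullback.lift t (m ≫ x₀) h₀.symm = n := by
      apply pullback.hom_ext
      · rw [pullback.lift_fst]
      · rw [pullback.lift_snd, e₀]
    rw [this, ← pullback.condition]
  have key : m ≫ (D.φ (i := PUnit.unit) (j := PUnit.unit) x₀ x₁ h v).1 =
      pullback.lift t (m ≫ x₁) h₁.symm ≫ value c := by
    rw [lift_value c t (m ≫ x₁) h₁, ← c.comp (i := PUnit.unit) (k := PUnit.unit) t (m ≫ x₀) (m ≫ x₁) h₀ h₁]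
    exact (D.φ_natural m x₀ x₁ h (m ≫ x₀) (m ≫ x₁) rfl rfl (h₀.trans h₁.symm) v _ hv).symm
  refine ⟨pullback.lift t (m ≫ x₁) h₁.symm r, ?_, ?_⟩
  · show pullback.fst j g (pullback.lift t (m ≫ x₁) h₁.symm r) ∈ B
    rw [← Scheme.Hom.comp_apply, pullback.lift_fst, Scheme.Hom.comp_apply, hr₂]
    exact hw
  · rw [← Scheme.Hom.comp_apply, ← key, Scheme.Hom.comp_apply, hr₁]

/-- The values of a family over an open of its base. -/
theorem exists_stable_value {V : Scheme.{u}} {j : V ⟶ S} [Etale j] [Etale (D.obj PUnit.unit).hom]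
    (c : Compat D j) (B : V.Opens) :
    ∃ W : (D.obj PUnit.unit).left.Opens, Stable D W ∧
      (W : Set ↥(D.obj PUnit.unit).left) = value c '' (pullback.fst j g ⁻¹' B) := by
  have : Etale (value c ≫ (D.obj PUnit.unit).hom) := by rw [value_over]; infer_instance
  have : Etale (value c) :=
    MorphismProperty.of_postcomp (W := @Etale) (W' := @Etale) (value c) (D.obj PUnit.unit).hom inferInstance this
  exact exists_stable_value_of_isOpenMap c (value c).isOpenMap B

/-- The values of a family over an affine open form a quasi-compact open over the source. -/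
theorem quasiCompact_value [IsAffine S] [QuasiCompact g] {V : Scheme.{u}} {j : V ⟶ S} (c : Compat D j)
    {B : V.Opens} (hB : IsAffineOpen B) {W : (D.obj PUnit.unit).left.Opens}
    (hWr : (W : Set ↥(D.obj PUnit.unit).left) = value c '' (pullback.fst j g ⁻¹' B)) :
    QuasiCompact (W.ι ≫ (D.obj PUnit.unit).hom) := by
  rw [quasiCompact_iff_forall_isAffineOpen]
  intro K hK
  have : IsAffine (B : Scheme.{u}) := hB
  have : IsAffine (K : Scheme.{u}) := hK
  let kg : pullback K.ι (𝟙 S') ⟶ S' := pullback.snd _ _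
  let M := pullback (B.ι ≫ j) (K.ι ≫ g)
  have : CompactSpace ↥M := inferInstance
  let μ : M ⟶ pullback j g := pullback.map _ _ _ _ B.ι K.ι (𝟙 S) (by simp) (by simp)
  have hμ : Set.range μ = pullback.fst j g ⁻¹' B ∩ pullback.snd j g ⁻¹' K := by
    rw [show μ = pullback.map _ _ _ _ B.ι K.ι (𝟙 S) (by simp) (by simp) from rfl,
      AlgebraicGeometry.Scheme.Pullback.range_map]
    simp
  rw [W.ι.isOpenEmbedding.isEmbedding.isCompact_iff]
  have he : W.ι '' ((W.ι ≫ (D.obj PUnit.unit).hom) ⁻¹ᵁ K : Set ↥W.toScheme) =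
      value c '' Set.range μ := by
    ext x
    constructor
    · rintro ⟨⟨x, hx⟩, hxK, rfl⟩
      rw [← SetLike.mem_coe, hWr] at hx
      obtain ⟨w, hw, rfl⟩ := hx
      refine ⟨w, ?_, rfl⟩
      rw [hμ]
      refine ⟨hw, ?_⟩
      show pullback.snd j g w ∈ K
      rw [← value_over c, Scheme.Hom.comp_apply]
      exact hxK
    · rintro ⟨w, hw, rfl⟩
      rw [hμ] at hw
      have hx : value c w ∈ W := by rw [← SetLike.mem_coe, hWr]; exact ⟨w, hw.1, rfl⟩
      refine ⟨⟨_, hx⟩, ?_, rfl⟩
      show (D.obj PUnit.unit).hom (value c w) ∈ K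
      rw [← Scheme.Hom.comp_apply, value_over]
      exact hw.2
  rw [he]
  exact (isCompact_range μ.continuous).image (value c).continuous
/-- Effectivity from charts over an affine base. -/
theorem exists_repBy_of_charts_affine [IsAffine S] (hg : SGA1.UnivSubmersive g) [QuasiCompact g]
    [Etale (D.obj PUnit.unit).hom] [IsSeparated (D.obj PUnit.unit).hom] (hc : HasCharts D) :
    ∃ U : Over S, Etale U.hom ∧ RepBy D U := by
  have key : ∀ e, ∃ W : (D.obj PUnit.unit).left.Opens, Stable D W ∧ e ∈ W ∧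
      QuasiCompact (W.ι ≫ (D.obj PUnit.unit).hom) := by
    intro e
    obtain ⟨V, j, hj, c, z, hz⟩ := hc e
    obtain ⟨B, hB, hzB, -⟩ := exists_isAffineOpen_mem_and_subset (U := (⊤ : V.Opens))
      (x := pullback.fst j g z) trivial
    obtain ⟨W, hW, hWr⟩ := exists_stable_value c B
    refine ⟨W, hW, ?_, ?_⟩
    · rw [← SetLike.mem_coe, hWr]
      exact ⟨z, hzB, hz⟩
    · exact quasiCompact_value c hB hWr
  choose W hW heW hWq using key
  refine exists_repBy_of_stable_cover hg W hW (fun e => ⟨e, heW e⟩) fun e => ?_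
  have : Etale ((subDD (hW e)).obj PUnit.unit).hom := inferInstanceAs (Etale (_ ≫ (D.obj PUnit.unit).hom))
  have : IsSeparated ((subDD (hW e)).obj PUnit.unit).hom :=
    inferInstanceAs (IsSeparated (_ ≫ (D.obj PUnit.unit).hom))
  have : QuasiCompact ((subDD (hW e)).obj PUnit.unit).hom := hWq e
  obtain ⟨U, -, -, hU, hr⟩ := exists_repBy_of_charts hg (hc.subDD hg (hW e))
  exact ⟨U, hU, hr⟩

/-- Effectivity from charts. -/
theorem exists_repBy_of_charts_sep (hg : SGA1.UnivSubmersive g) [QuasiCompact g]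
    [Etale (D.obj PUnit.unit).hom] [IsSeparated (D.obj PUnit.unit).hom] (hc : HasCharts D) :
    ∃ U : Over S, IsSeparated U.hom ∧ Etale U.hom ∧ RepBy D U := by
  obtain ⟨U, hU, hr⟩ := exists_repBy_of_opens (D := D) (κ := {A : S.Opens // IsAffineOpen A}) (fun A => A.1)
    (fun x => by
      obtain ⟨A, hA, hx, -⟩ := exists_isAffineOpen_mem_and_subset (U := (⊤ : S.Opens)) (x := x) trivial
      exact ⟨⟨A, hA⟩, hx⟩)
    fun ⟨A, hA⟩ => by
      have : IsAffine (A : Scheme.{u}) := hA
      have : Etale ((pullD D A.ι).obj PUnit.unit).hom := inferInstanceAs (Etale (pullback.snd _ _))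
      have : IsSeparated ((pullD D A.ι).obj PUnit.unit).hom := inferInstanceAs (IsSeparated (pullback.snd _ _))
      obtain ⟨U, hU, hr⟩ := exists_repBy_of_charts_affine (univSubmersive_snd hg A.ι) (hc.pullD A.ι)
      exact ⟨U, hU, (repBy_pull_iff (D := D) (fun _ => pullback.condition) (univSubmersive_snd hg A.ι) U).1 hr⟩
  exact ⟨U, sep_of_repBy hg hr, hU, hr⟩

/-- Effectivity of etale separated descent data along proper surjective morphisms of finite presentation. -/
theorem exists_repBy_of_proper_sep [IsProper g] [LocallyOfFinitePresentation g] [Surjective g]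
    [Etale (D.obj PUnit.unit).hom] [IsSeparated (D.obj PUnit.unit).hom] :
    ∃ U : Over S, IsSeparated U.hom ∧ Etale U.hom ∧ RepBy D U :=
  exists_repBy_of_charts_sep (univSubmersive_of_universallyClosed g) (hasCharts_of_canSplit canSplit_of_proper)

/-- Effectivity along a morphism with a section. -/
theorem exists_repBy_of_section (hg : SGA1.UnivSubmersive g) (σ : S ⟶ S') (hσ : σ ≫ g = 𝟙 S)
    [Etale (D.obj PUnit.unit).hom] [IsSeparated (D.obj PUnit.unit).hom] :
    ∃ U : Over S, IsSeparated U.hom ∧ Etale U.hom ∧ RepBy D U := by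
  let g₁ := σ ≫ g
  have : IsProper g₁ := by rw [show g₁ = 𝟙 S from hσ]; infer_instance
  have : Surjective g₁ := by rw [show g₁ = 𝟙 S from hσ]; infer_instance
  have : LocallyOfFinitePresentation g₁ := by rw [show g₁ = 𝟙 S from hσ]; infer_instance
  let w : ∀ _ : PUnit.{1}, σ ≫ g = g₁ ≫ 𝟙 _ := fun _ => (Category.comp_id _).symm
  let D₁ := (pullDDFam (f := fun _ : PUnit.{1} => g) (f' := fun _ : PUnit.{1} => g₁)
    (α := fun _ => PUnit.unit) (p' := fun _ => σ) w).obj D
  have : Etale (D₁.obj PUnit.unit).hom := inferInstanceAs (Etale (pullback.snd _ _))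
  have : IsSeparated (D₁.obj PUnit.unit).hom := inferInstanceAs (IsSeparated (pullback.snd _ _))
  obtain ⟨U, -, hU, hr⟩ := exists_repBy_of_proper_sep (D := D₁)
  have h := (repBy_pull_iff (D := D) w (univSubmersive_of_universallyClosed g₁) U).1 hr
  obtain ⟨U', hU'⟩ := exists_repBy (rep_of_repOn h.repOn)
  obtain ⟨I⟩ := hU'.repByOn_id.unique h
  refine ⟨U', sep_of_repBy hg hU', ?_, hU'⟩
  rw [← Over.w I.hom]
  infer_instance

end Groth.Agent.SchDesc82
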