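import Groth.Agent.SchDesc82.Triv
import Groth.Agent.Pi1Ext.SpreadLim
import Groth.Agent.MorLib.BaseChangeLim
import Groth.Agent.S0591
import Groth.Agent.S9192
import Groth.Agent.S4805

/-!
# A trivialisation over a limit comes from a stage
-/

universe u

set_option autoImplicit false
set_option backward.isDefEq.respectTransparency false
set_option backward.isDefEq.respectTransparency.types false
set_option linter.style.haveILetI false

open CategoryTheory CategoryTheory.Limits AlgebraicGeometry Opposite Desc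

namespace Groth.Agent.SchDesc82

open DescLib Groth.Agent.MorLib

variable {S S' : Scheme.{u}} {g : S' ⟶ S} {D : SchDDFam (fun _ : PUnit.{1} => g)}
  {W W' : Scheme.{u}} {j : W ⟶ S} {U : Over W} {j' : W' ⟶ S} {U' : Over W'}
  {m : W' ⟶ W} (hj : m ≫ j = j') {q : U'.left ⟶ U.left} (sq : IsPullback q U'.hom U.hom m)

/-- The map of total spaces induced by a base change. -/
noncomputable def rho : pullback (U'.hom ≫ j') g ⟶ pullback (U.hom ≫ j) g :=
  pullback.lift (pullback.fst _ _ ≫ q) (pullback.snd _ _) (by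
    rw [Category.assoc, ← Category.assoc q, sq.w, Category.assoc, hj]
    exact pullback.condition)

theorem rho_fst : rho (g := g) hj sq ≫ pullback.fst _ _ = pullback.fst _ _ ≫ q := pullback.lift_fst _ _ _

theorem rho_snd : rho (g := g) hj sq ≫ pullback.snd _ _ = pullback.snd _ _ := pullback.lift_snd _ _ _

theorem isPullback_rho_fst : IsPullback (rho (g := g) hj sq) (pullback.fst (U'.hom ≫ j') g)
    (pullback.fst (U.hom ≫ j) g) q := by
  refine IsPullback.of_right ?_ (rho_fst hj sq) (IsPullback.of_hasPullback (U.hom ≫ j) g).flip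
  rw [rho_snd, ← Category.assoc, sq.w, Category.assoc, hj]
  exact (IsPullback.of_hasPullback (U'.hom ≫ j') g).flip

theorem isPullback_rho : IsPullback (rho (g := g) hj sq) (pullback.fst (U'.hom ≫ j') g ≫ U'.hom)
    (pullback.fst (U.hom ≫ j) g ≫ U.hom) m :=
  (isPullback_rho_fst hj sq).paste_vert sq

variable (D) in
/-- The map of underlying schemes induced by a base change. -/
noncomputable def rhoR : pullback ((D.obj PUnit.unit).hom ≫ g) j' ⟶ pullback ((D.obj PUnit.unit).hom ≫ g) j :=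
  pullback.lift (pullback.fst _ _) (pullback.snd _ _ ≫ m) (by
    rw [Category.assoc (pullback.snd _ _), hj]
    exact pullback.condition)

include hj in
theorem isPullback_rhoR : IsPullback (rhoR D hj) (pullback.snd _ j') (pullback.snd _ j) m := by
  refine IsPullback.of_right ?_ (pullback.lift_snd _ _ _) (IsPullback.of_hasPullback ((D.obj PUnit.unit).hom ≫ g) j)
  rw [hj, rhoR, pullback.lift_fst]
  exact IsPullback.of_hasPullback _ _

variable {v : pullback (U.hom ≫ j) g ⟶ (D.obj PUnit.unit).left}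
  (hv : v ≫ (D.obj PUnit.unit).hom = pullback.snd (U.hom ≫ j) g)

include hv in
theorem over_rho : (rho (g := g) hj sq ≫ v) ≫ (D.obj PUnit.unit).hom = pullback.snd (U'.hom ≫ j') g := by
  rw [over_comp j U v hv, rho_snd]

theorem cocy_rho (h : Cocy j U v hv) : Cocy j' U' (rho hj sq ≫ v) (over_rho hj sq hv) := by
  intro Z p r e
  rw [← Category.assoc r]
  refine Eq.trans ?_ (h (p ≫ rho hj sq) (r ≫ rho hj sq)
    (by rw [Category.assoc, Category.assoc, rho_fst, reassoc_of% e]))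
  exact φ_congr (by rw [Category.assoc, rho_snd]) (by rw [Category.assoc, rho_snd]) _ _ _ _
    (Category.assoc _ _ _).symm

theorem isPullback_psi : IsPullback (rho hj sq) (psi j' U' (rho hj sq ≫ v) (over_rho hj sq hv))
    (psi j U v hv) (rhoR D hj) := by
  refine IsPullback.of_bot ?_ ?_ (isPullback_rhoR hj)
  · rw [psi_snd, psi_snd]
    exact isPullback_rho hj sq
  · apply pullback.hom_ext
    · rw [Category.assoc, psi_fst, Category.assoc, rhoR, pullback.lift_fst, psi_fst]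
    · rw [Category.assoc, psi_snd, Category.assoc, rhoR, pullback.lift_snd, ← Category.assoc (psi _ _ _ _),
        psi_snd, ← Category.assoc, rho_fst, Category.assoc, Category.assoc, sq.w]

section limit

variable {I : Type u} [SmallCategory I] [IsCofiltered I] {T : I ⥤ Scheme.{u}} {c : Cone T} (hc : IsLimit c)
  [∀ (i k : I) (f : i ⟶ k), IsAffineHom (T.map f)] [∀ i, CompactSpace (T.obj i)]
  [∀ i, QuasiSeparatedSpace (T.obj i)]
  (t : ∀ i, T.obj i ⟶ S) (ht : ∀ {i k} (f : i ⟶ k), T.map f ≫ t k = t i)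
  [LocallyOfFinitePresentation g] [QuasiCompact g] [QuasiSeparated g]
  [LocallyOfFinitePresentation (D.obj PUnit.unit).hom] [QuasiCompact (D.obj PUnit.unit).hom]
  [QuasiSeparated (D.obj PUnit.unit).hom]

include hc ht in
theorem exists_triv_stage {i : I} {Ua : Over c.pt} [Etale Ua.hom] [QuasiCompact Ua.hom] [QuasiSeparated Ua.hom]
    {va : pullback (Ua.hom ≫ c.π.app i ≫ t i) g ⟶ (D.obj PUnit.unit).left}
    (hva : va ≫ (D.obj PUnit.unit).hom = pullback.snd (Ua.hom ≫ c.π.app i ≫ t i) g)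
    (hcoca : Cocy (c.π.app i ≫ t i) Ua va hva) (hisoa : IsIso (psi (c.π.app i ≫ t i) Ua va hva)) :
    ∃ (k : I) (U : Over (T.obj k)) (v : pullback (U.hom ≫ t k) g ⟶ (D.obj PUnit.unit).left)
      (hv : v ≫ (D.obj PUnit.unit).hom = pullback.snd (U.hom ≫ t k) g),
      Etale U.hom ∧ Cocy (t k) U v hv ∧ IsIso (psi (t k) U v hv) := by
  haveI : ∀ {i k : I} (f : i ⟶ k), IsAffineHom (T.map f) := fun {i k} f => inferInstance
  have hja : ∀ k, c.π.app k ≫ t k = c.π.app i ≫ t i := fun k => by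
    let o := IsCofiltered.min i k
    rw [← c.w (IsCofiltered.minToRight i k), ← c.w (IsCofiltered.minToLeft i k), Category.assoc, ht,
      Category.assoc, ht]
  -- the scheme
  obtain ⟨i₀, X₀, f₀, g₀, h₁, h₂, h₃, sq₀⟩ := Groth.Agent.S0591.result T c hc Ua.left Ua.hom
  haveI : CompactSpace X₀ := QuasiCompact.compactSpace_of_compactSpace f₀
  haveI : QuasiSeparatedSpace X₀ := quasiSeparatedSpace_of_quasiSeparated f₀
  obtain ⟨i₁, φ, X₁, Y₁, f₁, g₁, pY, pX, hpY, hpX, he₁⟩ := Groth.Agent.S9192.result T c hc i₀ f₀ (𝟙 _) Ua.hom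
    (𝟙 _) (c.π.app i₀) g₀ (IsPullback.of_vert_isIso ⟨by simp⟩) sq₀
  haveI : IsIso g₁ := hpY.isIso_snd_of_isIso
  let U₁ : Over (T.obj i₁) := Over.mk (f₁ ≫ g₁)
  haveI hU₁ : Etale U₁.hom := inferInstanceAs (Etale (f₁ ≫ g₁))
  have sqφ : IsPullback pX U₁.hom (f₀ ≫ 𝟙 _) (T.map φ) := hpX.paste_vert hpY
  let qa := sqφ.lift g₀ (Ua.hom ≫ c.π.app i₁) (by
    rw [Category.comp_id, Category.assoc, c.w, sq₀.w])
  have sqa : IsPullback qa Ua.hom U₁.hom (c.π.app i₁) := by
    refine IsPullback.of_right ?_ (sqφ.lift_snd _ _ _) sqφ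
    rw [sqφ.lift_fst, c.w, Category.comp_id]
    exact sq₀
  haveI : QuasiCompact f₀ := h₂
  haveI : QuasiSeparated f₀ := h₃
  haveI : QuasiCompact U₁.hom :=
    MorphismProperty.of_isPullback (P := @QuasiCompact) sqφ (inferInstanceAs (QuasiCompact (f₀ ≫ 𝟙 _)))
  haveI : QuasiSeparated U₁.hom :=
    MorphismProperty.of_isPullback (P := @QuasiSeparated) sqφ (inferInstanceAs (QuasiSeparated (f₀ ≫ 𝟙 _)))
  -- the trivialisation
  let xi : pullback (U₁.hom ≫ t i₁) g ⟶ T.obj i₁ := pullback.fst _ g ≫ U₁.hom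
  haveI : CompactSpace U₁.left := QuasiCompact.compactSpace_of_compactSpace U₁.hom
  haveI : QuasiSeparatedSpace U₁.left := quasiSeparatedSpace_of_quasiSeparated U₁.hom
  haveI : CompactSpace ↥(pullback (U₁.hom ≫ t i₁) g) :=
    QuasiCompact.compactSpace_of_compactSpace (pullback.fst (U₁.hom ≫ t i₁) g)
  haveI : QuasiSeparatedSpace ↥(pullback (U₁.hom ≫ t i₁) g) :=
    quasiSeparatedSpace_of_quasiSeparated (pullback.fst (U₁.hom ≫ t i₁) g)
  have sqP := isPullback_rho (g := g) (U := U₁) (U' := Ua) (hja i₁) sqa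
  let τ : BC.diag T xi ⟶ (Functor.const _).obj S' :=
    BC.toStart T xi ≫ (Functor.const (Over i₁)).map (pullback.snd (U₁.hom ≫ t i₁) g)
  obtain ⟨k, v₁, hv₁, hv₁'⟩ := Scheme.exists_π_app_comp_eq_of_locallyOfFinitePresentation (BC.diag T xi) τ
    (D.obj PUnit.unit).hom (BC.cone T xi sqP) (BC.isLimitCone T xi sqP hc) va (by
      ext l : 2
      simp only [τ, NatTrans.comp_app, Functor.const_map_app]
      show BC.proj T xi sqP l ≫ pullback.fst xi (T.map l.hom) ≫ pullback.snd (U₁.hom ≫ t i₁) g = _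
      rw [BC.proj_fst_assoc, rho_snd, hva])
  let U₂ : Over (T.obj k.left) := Over.mk (pullback.snd U₁.hom (T.map k.hom))
  have sq₂ : IsPullback (pullback.fst U₁.hom (T.map k.hom)) U₂.hom U₁.hom (T.map k.hom) :=
    IsPullback.of_hasPullback _ _
  let σ : pullback (U₂.hom ≫ t k.left) g ⟶ pullback xi (T.map k.hom) :=
    pullback.lift (rho (ht k.hom) sq₂) (pullback.fst _ g ≫ U₂.hom) (isPullback_rho (ht k.hom) sq₂).w
  let v₂ := σ ≫ v₁
  have hv₂ : v₂ ≫ (D.obj PUnit.unit).hom = pullback.snd (U₂.hom ≫ t k.left) g := by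
    have hv₁'' : v₁ ≫ (D.obj PUnit.unit).hom = pullback.fst xi (T.map k.hom) ≫ pullback.snd _ g := hv₁'
    rw [Category.assoc, hv₁'', pullback.lift_fst_assoc, rho_snd]
  let qa₂ := pullback.lift (f := U₁.hom) (g := T.map k.hom) qa (Ua.hom ≫ c.π.app k.left)
    (by rw [Category.assoc, c.w, sqa.w])
  have sqa₂ : IsPullback qa₂ Ua.hom U₂.hom (c.π.app k.left) := by
    refine IsPullback.of_right ?_ (pullback.lift_snd _ _ _) (IsPullback.of_hasPullback U₁.hom (T.map k.hom))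
    rw [pullback.lift_fst, c.w]
    exact sqa
  have hρva : rho (hja k.left) sqa₂ ≫ v₂ = va := by
    have : rho (hja k.left) sqa₂ ≫ σ = BC.proj T xi sqP k := by
      apply pullback.hom_ext
      · rw [Category.assoc, pullback.lift_fst, BC.proj_fst]
        apply pullback.hom_ext
        · rw [Category.assoc, rho_fst, reassoc_of% rho_fst, pullback.lift_fst, rho_fst]
        · rw [Category.assoc, rho_snd, rho_snd, rho_snd]
      · rw [Category.assoc, pullback.lift_snd, BC.proj_snd, reassoc_of% rho_fst, Category.assoc, sqa₂.w]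
    show rho _ _ ≫ σ ≫ v₁ = va
    rw [reassoc_of% this]
    exact hv₁
  -- the cocycle condition
  haveI : Etale U₂.hom := inferInstanceAs (Etale (pullback.snd U₁.hom (T.map k.hom)))
  haveI : QuasiCompact U₂.hom := inferInstanceAs (QuasiCompact (pullback.snd U₁.hom (T.map k.hom)))
  haveI : QuasiSeparated U₂.hom := inferInstanceAs (QuasiSeparated (pullback.snd U₁.hom (T.map k.hom)))
  let F₂ := pullback.fst (U₂.hom ≫ t k.left) g
  let y₂ := pullback.snd (U₂.hom ≫ t k.left) g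
  let Fa := pullback.fst (Ua.hom ≫ c.π.app i ≫ t i) g
  let xiQ : pullback F₂ F₂ ⟶ T.obj k.left := pullback.fst F₂ F₂ ≫ F₂ ≫ U₂.hom
  haveI : CompactSpace U₂.left := QuasiCompact.compactSpace_of_compactSpace U₂.hom
  haveI : CompactSpace ↥(pullback (U₂.hom ≫ t k.left) g) := QuasiCompact.compactSpace_of_compactSpace F₂
  haveI : CompactSpace ↥(pullback F₂ F₂) := QuasiCompact.compactSpace_of_compactSpace (pullback.fst F₂ F₂)
  let ρQ : pullback Fa Fa ⟶ pullback F₂ F₂ :=
    pullback.map Fa Fa F₂ F₂ (rho (hja k.left) sqa₂) (rho (hja k.left) sqa₂) qa₂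
      (rho_fst (U := U₂) (U' := Ua) (hja k.left) sqa₂).symm (rho_fst (U := U₂) (U' := Ua) (hja k.left) sqa₂).symm
  have sqQ : IsPullback ρQ (pullback.fst Fa Fa ≫ Fa ≫ Ua.hom) xiQ (c.π.app k.left) := by
    have h₁ : IsPullback ρQ (pullback.fst Fa Fa) (pullback.fst F₂ F₂) (rho (hja k.left) sqa₂) := by
      refine IsPullback.of_right ?_ (pullback.lift_fst _ _ _) (IsPullback.of_hasPullback F₂ F₂).flip
      rw [pullback.lift_snd, rho_fst]
      exact (IsPullback.of_hasPullback Fa Fa).flip.paste_horiz (isPullback_rho_fst (hja k.left) sqa₂)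
    exact h₁.paste_vert (isPullback_rho (hja k.left) sqa₂)
  let a : pullback F₂ F₂ ⟶ (D.obj PUnit.unit).left :=
    (D.φ (i := PUnit.unit) (j := PUnit.unit) (pullback.fst F₂ F₂ ≫ y₂) (pullback.snd F₂ F₂ ≫ y₂)
      (snd_compat _ _ pullback.condition) ⟨pullback.fst F₂ F₂ ≫ v₂, over_comp _ _ v₂ hv₂ _⟩).1
  let b : pullback F₂ F₂ ⟶ (D.obj PUnit.unit).left := pullback.snd F₂ F₂ ≫ v₂
  have haπ : a ≫ (D.obj PUnit.unit).hom = pullback.snd F₂ F₂ ≫ y₂ := (D.φ _ _ _ _).2
  have hbπ : b ≫ (D.obj PUnit.unit).hom = pullback.snd F₂ F₂ ≫ y₂ := over_comp _ _ v₂ hv₂ _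
  have hab : ρQ ≫ a = ρQ ≫ b := by
    have h₁ : ρQ ≫ pullback.fst F₂ F₂ = pullback.fst Fa Fa ≫ rho (hja k.left) sqa₂ := pullback.lift_fst _ _ _
    have h₂ : ρQ ≫ pullback.snd F₂ F₂ = pullback.snd Fa Fa ≫ rho (hja k.left) sqa₂ := pullback.lift_snd _ _ _
    have hz : (ρQ ≫ pullback.fst F₂ F₂ ≫ y₂) ≫ g = (ρQ ≫ pullback.snd F₂ F₂ ≫ y₂) ≫ g := by
      simp only [Category.assoc]
      simp only [y₂, ← pullback.condition, F₂]
      rw [pullback.condition_assoc]
    rw [show ρQ ≫ a = _ from (D.φ_natural ρQ _ _ _ _ _ rfl rfl hz _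
      ⟨ρQ ≫ pullback.fst F₂ F₂ ≫ v₂, by rw [Category.assoc, over_comp _ _ v₂ hv₂]⟩ rfl).symm]
    show _ = ρQ ≫ pullback.snd F₂ F₂ ≫ v₂
    refine Eq.trans ?_ ((Category.assoc _ _ _).symm.trans ((congrArg (· ≫ v₂) h₂).trans
      ((Category.assoc _ _ _).trans (congrArg (pullback.snd Fa Fa ≫ ·) hρva)))).symm
    rw [← hcoca (pullback.fst Fa Fa) (pullback.snd Fa Fa) pullback.condition]
    refine φ_congr ?_ ?_ _ _ _ _ ?_
    · rw [reassoc_of% h₁, rho_snd]
    · rw [reassoc_of% h₂, rho_snd]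
    · show ρQ ≫ pullback.fst F₂ F₂ ≫ v₂ = _
      rw [reassoc_of% h₁, hρva]
  let τQ : BC.diag T xiQ ⟶ (Functor.const _).obj S' :=
    BC.toStart T xiQ ≫ (Functor.const (Over k.left)).map (pullback.snd F₂ F₂ ≫ y₂)
  obtain ⟨l, ψ, hl⟩ := Scheme.exists_hom_comp_eq_comp_of_locallyOfFiniteType (BC.diag T xiQ) τQ
    (D.obj PUnit.unit).hom (BC.cone T xiQ sqQ) (BC.isLimitCone T xiQ sqQ hc) (i := Over.mk (𝟙 k.left))
    (pullback.fst xiQ _ ≫ a) (pullback.fst xiQ _ ≫ b)
    (by rw [Category.assoc, haπ]; rfl) (by rw [Category.assoc, hbπ]; rfl) (by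
      show BC.proj T xiQ sqQ _ ≫ _ = BC.proj T xiQ sqQ _ ≫ _
      rw [BC.proj_fst_assoc, BC.proj_fst_assoc, hab])
  have hl' : pullback.fst xiQ (T.map l.hom) ≫ a = pullback.fst xiQ (T.map l.hom) ≫ b := by
    rw [← BC.map_fst T xiQ ψ]
    exact (Category.assoc _ _ _).trans (hl.trans (Category.assoc _ _ _).symm)
  let U₃ : Over (T.obj l.left) := Over.mk (pullback.snd U₂.hom (T.map l.hom))
  have sq₃ : IsPullback (pullback.fst U₂.hom (T.map l.hom)) U₃.hom U₂.hom (T.map l.hom) :=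
    IsPullback.of_hasPullback _ _
  haveI : Etale U₃.hom := inferInstanceAs (Etale (pullback.snd U₂.hom (T.map l.hom)))
  haveI : QuasiCompact U₃.hom := inferInstanceAs (QuasiCompact (pullback.snd U₂.hom (T.map l.hom)))
  haveI : QuasiSeparated U₃.hom := inferInstanceAs (QuasiSeparated (pullback.snd U₂.hom (T.map l.hom)))
  let v₃ := rho (g := g) (U := U₂) (U' := U₃) (ht l.hom) sq₃ ≫ v₂
  have hv₃ : v₃ ≫ (D.obj PUnit.unit).hom = pullback.snd (U₃.hom ≫ t l.left) g := over_rho _ _ hv₂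
  have hcoc₃ : Cocy (t l.left) U₃ v₃ hv₃ := by
    intro Z p r e
    let ρ := rho (g := g) (U := U₂) (U' := U₃) (ht l.hom) sq₃
    let z : Z ⟶ pullback F₂ F₂ := pullback.lift (p ≫ ρ) (r ≫ ρ)
      (by simp only [Category.assoc, ρ, F₂, rho_fst]; rw [reassoc_of% e])
    let z' : Z ⟶ pullback xiQ (T.map l.hom) :=
      pullback.lift z (p ≫ pullback.fst _ g ≫ U₃.hom) (by
        simp only [xiQ, z, pullback.lift_fst_assoc, ρ, F₂, Category.assoc, reassoc_of% rho_fst, sq₃.w])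
    have hz' : z' ≫ pullback.fst xiQ (T.map l.hom) = z := pullback.lift_fst _ _ _
    have key : z ≫ a = z ≫ b := by rw [← hz', Category.assoc, hl', Category.assoc]
    have h₁ : z ≫ pullback.fst F₂ F₂ = p ≫ ρ := pullback.lift_fst _ _ _
    have h₂ : z ≫ pullback.snd F₂ F₂ = r ≫ ρ := pullback.lift_snd _ _ _
    have hz : (z ≫ pullback.fst F₂ F₂ ≫ y₂) ≫ g = (z ≫ pullback.snd F₂ F₂ ≫ y₂) ≫ g := by
      simp only [Category.assoc]
      simp only [y₂, ← pullback.condition, F₂]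
      rw [pullback.condition_assoc]
    rw [show z ≫ a = _ from (D.φ_natural z _ _ _ _ _ rfl rfl hz _
      ⟨z ≫ pullback.fst F₂ F₂ ≫ v₂, by rw [Category.assoc, over_comp _ _ v₂ hv₂]⟩ rfl).symm] at key
    have hb : z ≫ b = r ≫ v₃ := by simp only [b, v₃, reassoc_of% h₂, ρ]
    rw [← hb, ← key]
    refine φ_congr ?_ ?_ _ _ _ _ ?_
    · simp only [reassoc_of% h₁, ρ, y₂, rho_snd]
    · simp only [reassoc_of% h₂, ρ, y₂, rho_snd]
    · show p ≫ v₃ = z ≫ pullback.fst F₂ F₂ ≫ v₂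
      simp only [reassoc_of% h₁, ρ, v₃]
  let qa₃ := pullback.lift (f := U₂.hom) (g := T.map l.hom) qa₂ (Ua.hom ≫ c.π.app l.left)
    (by rw [Category.assoc, c.w, sqa₂.w])
  have sqa₃ : IsPullback qa₃ Ua.hom U₃.hom (c.π.app l.left) := by
    refine IsPullback.of_right ?_ (pullback.lift_snd _ _ _) (IsPullback.of_hasPullback U₂.hom (T.map l.hom))
    rw [pullback.lift_fst, c.w]
    exact sqa₂
  have hρ₃ : rho (hja l.left) sqa₃ ≫ v₃ = va := by
    have : rho (g := g) (U := U₃) (U' := Ua) (hja l.left) sqa₃ ≫ rho (g := g) (U := U₂) (U' := U₃) (ht l.hom) sq₃ =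
        rho (g := g) (U := U₂) (U' := Ua) (hja k.left) sqa₂ := by
      apply pullback.hom_ext
      · rw [Category.assoc, rho_fst, reassoc_of% rho_fst, pullback.lift_fst, rho_fst]
      · rw [Category.assoc, rho_snd, rho_snd, rho_snd]
    show rho _ _ ≫ rho _ _ ≫ v₂ = va
    rw [reassoc_of% this, hρva]
  -- the isomorphism
  let Ψ₃ := psi (t l.left) U₃ v₃ hv₃
  let sR := pullback.snd ((D.obj PUnit.unit).hom ≫ g) (t l.left)
  haveI : CompactSpace U₃.left := QuasiCompact.compactSpace_of_compactSpace U₃.hom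
  haveI hlfp : LocallyOfFinitePresentation (Ψ₃ ≫ sR) := by rw [psi_snd]; infer_instance
  haveI hqc : QuasiCompact (Ψ₃ ≫ sR) := by rw [psi_snd]; infer_instance
  haveI hqs : QuasiSeparated (Ψ₃ ≫ sR) := by rw [psi_snd]; infer_instance
  have sqΨ : IsPullback (rho (hja l.left) sqa₃) (psi (c.π.app i ≫ t i) Ua va hva) Ψ₃ (rhoR D (hja l.left)) := by
    have h := isPullback_psi (hja l.left) sqa₃ hv₃
    have e : psi (c.π.app i ≫ t i) Ua (rho (hja l.left) sqa₃ ≫ v₃) (over_rho (hja l.left) sqa₃ hv₃) =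
        psi (c.π.app i ≫ t i) Ua va hva := by
      congr 1
    rw [e] at h
    exact h
  haveI := hisoa
  obtain ⟨n, χ, Xn, Yn, fn, gn, pYn, pXn, hYn, hXn, hfn⟩ := Groth.Agent.S4805.result T c hc l.left Ψ₃ sR
    (psi (c.π.app i ≫ t i) Ua va hva) _ _ _ (isPullback_rhoR (hja l.left)) sqΨ
  haveI := hfn
  let U₄ : Over (T.obj n) := Over.mk (pullback.snd U₃.hom (T.map χ))
  have sq₄ : IsPullback (pullback.fst U₃.hom (T.map χ)) U₄.hom U₃.hom (T.map χ) := IsPullback.of_hasPullback _ _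
  refine ⟨n, U₄, rho (g := g) (U := U₃) (U' := U₄) (ht χ) sq₄ ≫ v₃, over_rho (U' := U₄) (ht χ) sq₄ hv₃,
    inferInstanceAs (Etale (pullback.snd U₃.hom (T.map χ))), cocy_rho (U' := U₄) (ht χ) sq₄ hv₃ hcoc₃, ?_⟩
  have hR := isPullback_rhoR (D := D) (ht χ)
  let e := hYn.isoIsPullback _ _ hR
  have h2 : IsPullback pXn (fn ≫ e.hom) Ψ₃ (rhoR D (ht χ)) :=
    IsPullback.of_iso hXn (Iso.refl _) (Iso.refl _) e (Iso.refl _) (by simp) (by simp) (by simp)
      (by simp [e])
  have h := isPullback_psi (U := U₃) (U' := U₄) (ht χ) sq₄ hv₃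
  rw [← h.isoIsPullback_hom_snd _ _ h2]
  infer_instance

end limit

end Groth.Agent.SchDesc82
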