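import Groth.Agent.SchDesc82.PairSys
import Groth.Agent.MorLib.BaseChangeLim
import Groth.Agent.MorLib.EventuallySep
import Groth.Agent.S0591
import Groth.Agent.S9192

/-!
# An etale separated scheme over a limit comes from a stage
-/

set_option autoImplicit false
set_option backward.isDefEq.respectTransparency false
set_option backward.isDefEq.respectTransparency.types false

universe u

open AlgebraicGeometry CategoryTheory Limits

namespace Groth.Agent.SchDesc82

open Groth.Agent.MorLib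

/-- An etale separated quasi-compact scheme over a limit of affine schemes comes from a stage. -/
theorem exists_stage_etale_sep {I : Type u} [SmallCategory I] [IsCofiltered I] (T : I ⥤ Scheme.{u}) (c : Cone T)
    (hc : IsLimit c) [∀ i, IsAffine (T.obj i)] {E : Scheme.{u}} (e : E ⟶ c.pt) [Etale e] [IsSeparated e]
    [QuasiCompact e] :
    ∃ (k : I) (E₀ : Scheme.{u}) (e₀ : E₀ ⟶ T.obj k) (q : E ⟶ E₀),
      IsPullback q e e₀ (c.π.app k) ∧ Etale e₀ ∧ IsSeparated e₀ ∧ QuasiCompact e₀ := by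
  haveI : ∀ {i j : I} (f : i ⟶ j), IsAffineHom (T.map f) := fun f => inferInstance
  obtain ⟨i₀, X₀, f₀, g₀, h₁, h₂, h₃, sq₀⟩ := Groth.Agent.S0591.result T c hc E e
  haveI := h₁
  haveI : CompactSpace X₀ := QuasiCompact.compactSpace_of_compactSpace f₀
  haveI : QuasiSeparatedSpace X₀ := quasiSeparatedSpace_of_quasiSeparated f₀
  obtain ⟨i₁, φ, X₁, Y₁, f₁, g₁, pY, pX, hpY, hpX, he₁⟩ := Groth.Agent.S9192.result T c hc i₀ f₀ (𝟙 _) e
    (𝟙 _) (c.π.app i₀) g₀ (IsPullback.of_vert_isIso ⟨by simp⟩) sq₀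
  haveI : IsIso g₁ := hpY.isIso_snd_of_isIso
  let e₁ : X₁ ⟶ T.obj i₁ := f₁ ≫ g₁
  haveI : Etale e₁ := inferInstanceAs (Etale (f₁ ≫ g₁))
  have sqφ : IsPullback pX e₁ (f₀ ≫ 𝟙 _) (T.map φ) := hpX.paste_vert hpY
  haveI : QuasiCompact (f₀ ≫ 𝟙 (T.obj i₀)) := by rw [Category.comp_id]; exact h₂
  haveI : QuasiSeparated (f₀ ≫ 𝟙 (T.obj i₀)) := by rw [Category.comp_id]; exact h₃
  haveI : QuasiCompact e₁ := MorphismProperty.of_isPullback (P := @QuasiCompact) sqφ inferInstance
  haveI : QuasiSeparated e₁ := MorphismProperty.of_isPullback (P := @QuasiSeparated) sqφ inferInstance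
  haveI : CompactSpace X₁ := QuasiCompact.compactSpace_of_compactSpace e₁
  haveI : QuasiSeparatedSpace X₁ := quasiSeparatedSpace_of_quasiSeparated e₁
  let qa := sqφ.lift g₀ (e ≫ c.π.app i₁) (by rw [Category.comp_id, Category.assoc, c.w, sq₀.w])
  have sqa : IsPullback qa e e₁ (c.π.app i₁) := by
    refine IsPullback.of_right ?_ (sqφ.lift_snd _ _ _) sqφ
    rw [sqφ.lift_fst, c.w, Category.comp_id]
    exact sq₀
  let ts : ∀ l : Over i₁, (BC.diag T e₁).obj l ⟶ T.obj i₁ := fun l =>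
    pullback.snd e₁ (T.map l.hom) ≫ T.map l.hom
  haveI : IsAffineHom (c.π.app i₁) := isAffineHom_π_app _ c hc i₁
  have : ∀ l, CompactSpace ↥((BC.diag T e₁).obj l) := fun l => BC.compactSpace_obj T e₁ l
  have : ∀ l, QuasiSeparatedSpace ↥((BC.diag T e₁).obj l) := fun l => BC.quasiSeparatedSpace_obj T e₁ l
  have : ∀ {j k : Over i₁} (f : j ⟶ k), IsAffineHom ((BC.diag T e₁).map f) := fun f => BC.isAffineHom_map T e₁ f
  haveI : IsSeparated (e ≫ c.π.app i₁) := inferInstance
  obtain ⟨l, hl⟩ := EvSep.eventually_isSeparated ts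
    (fun {j k} f => by
      simp only [ts]
      rw [← Category.assoc, BC.map_snd, Category.assoc, ← T.map_comp, Over.w f])
    (c := BC.cone T e₁ sqa) (e ≫ c.π.app i₁)
    (fun l => by
      show BC.proj T e₁ sqa l ≫ pullback.snd e₁ (T.map l.hom) ≫ T.map l.hom = _
      rw [BC.proj_snd_assoc, c.w])
    (BC.isLimitCone T e₁ sqa hc)
  haveI : IsSeparated (ts l) := hl l (𝟙 l)
  haveI : IsSeparated (pullback.snd e₁ (T.map l.hom) ≫ T.map l.hom) := ‹IsSeparated (ts l)›
  exact ⟨l.left, pullback e₁ (T.map l.hom), pullback.snd e₁ (T.map l.hom), BC.proj T e₁ sqa l,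
    BC.isPullback_proj T e₁ sqa l, inferInstance, IsSeparated.of_comp _ (T.map l.hom), inferInstance⟩

end Groth.Agent.SchDesc82
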