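import Groth.Agent.SchDesc82.Main

/-!
# Representation of a descent datum by a scheme, expressed by one trivialising morphism
-/

universe u

set_option autoImplicit false
set_option backward.isDefEq.respectTransparency false
set_option backward.isDefEq.respectTransparency.types false

open CategoryTheory CategoryTheory.Limits AlgebraicGeometry Opposite Desc

namespace Groth.Agent.SchDesc82

open DescLib

variable {S S' : Scheme.{u}} {g : S' ⟶ S} {D : SchDDFam (fun _ : PUnit.{1} => g)}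

theorem φ_congr {T : Scheme.{u}} {x₀ x₀' x₁ x₁' : T ⟶ S'} (e₀ : x₀ = x₀') (e₁ : x₁ = x₁')
    (h : x₀ ≫ g = x₁ ≫ g) (h' : x₀' ≫ g = x₁' ≫ g) (v : Lifts (D.obj PUnit.unit) x₀)
    (v' : Lifts (D.obj PUnit.unit) x₀') (ev : v.1 = v'.1) :
    (D.φ (i := PUnit.unit) (j := PUnit.unit) x₀ x₁ h v).1 =
      (D.φ (i := PUnit.unit) (j := PUnit.unit) x₀' x₁' h' v').1 := by
  subst e₀ e₁
  rw [Subtype.ext ev]

variable {W : Scheme.{u}} (j : W ⟶ S) (U : Over W)

/-- The comparison with the underlying scheme of the datum. -/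
noncomputable def psi (v : pullback (U.hom ≫ j) g ⟶ (D.obj PUnit.unit).left)
    (hv : v ≫ (D.obj PUnit.unit).hom = pullback.snd (U.hom ≫ j) g) :
    pullback (U.hom ≫ j) g ⟶ pullback ((D.obj PUnit.unit).hom ≫ g) j :=
  pullback.lift v (pullback.fst (U.hom ≫ j) g ≫ U.hom)
    (by rw [reassoc_of% hv, Category.assoc, pullback.condition])

theorem psi_fst (v : pullback (U.hom ≫ j) g ⟶ (D.obj PUnit.unit).left)
    (hv : v ≫ (D.obj PUnit.unit).hom = pullback.snd (U.hom ≫ j) g) :
    psi j U v hv ≫ pullback.fst _ _ = v := pullback.lift_fst _ _ _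

theorem psi_snd (v : pullback (U.hom ≫ j) g ⟶ (D.obj PUnit.unit).left)
    (hv : v ≫ (D.obj PUnit.unit).hom = pullback.snd (U.hom ≫ j) g) :
    psi j U v hv ≫ pullback.snd _ _ = pullback.fst (U.hom ≫ j) g ≫ U.hom := pullback.lift_snd _ _ _

theorem over_comp {U' : Scheme.{u}} (v : pullback (U.hom ≫ j) g ⟶ (D.obj PUnit.unit).left)
    (hv : v ≫ (D.obj PUnit.unit).hom = pullback.snd (U.hom ≫ j) g) (p : U' ⟶ pullback (U.hom ≫ j) g) :
    (p ≫ v) ≫ (D.obj PUnit.unit).hom = p ≫ pullback.snd (U.hom ≫ j) g := by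
  rw [Category.assoc, hv]

theorem snd_compat {Z : Scheme.{u}} {p q : Z ⟶ pullback (U.hom ≫ j) g}
    (e : p ≫ pullback.fst (U.hom ≫ j) g = q ≫ pullback.fst (U.hom ≫ j) g) :
    (p ≫ pullback.snd (U.hom ≫ j) g) ≫ g = (q ≫ pullback.snd (U.hom ≫ j) g) ≫ g := by
  simp only [Category.assoc, ← pullback.condition]
  rw [reassoc_of% e]

/-- The cocycle condition of a trivialisation. -/
def Cocy (v : pullback (U.hom ≫ j) g ⟶ (D.obj PUnit.unit).left)
    (hv : v ≫ (D.obj PUnit.unit).hom = pullback.snd (U.hom ≫ j) g) : Prop :=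
  ∀ ⦃Z : Scheme.{u}⦄ (p q : Z ⟶ pullback (U.hom ≫ j) g)
    (e : p ≫ pullback.fst (U.hom ≫ j) g = q ≫ pullback.fst (U.hom ≫ j) g),
    (D.φ (i := PUnit.unit) (j := PUnit.unit) (p ≫ pullback.snd (U.hom ≫ j) g)
      (q ≫ pullback.snd (U.hom ≫ j) g) (snd_compat j U e) ⟨p ≫ v, over_comp j U v hv p⟩).1 = q ≫ v

variable {j U}

/-- A trivialisation gives a representing scheme. -/
theorem repByOn_of_triv (hg : SGA1.UnivSubmersive g) [Etale (D.obj PUnit.unit).hom] [Etale U.hom]
    {v : pullback (U.hom ≫ j) g ⟶ (D.obj PUnit.unit).left}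
    {hv : v ≫ (D.obj PUnit.unit).hom = pullback.snd (U.hom ≫ j) g} (hcoc : Cocy j U v hv)
    (hiso : IsIso (psi j U v hv)) : RepByOn D j U := by
  have : ∀ i, Etale (D.obj i).hom := fun _ => ‹_›
  let c₀ : Compat D (U.hom ≫ j) :=
    { pt := fun T' t i y h => ⟨pullback.lift t y h.symm ≫ v, by
        rw [over_comp j U v hv, pullback.lift_snd]⟩
      nat := fun T' T'' m t i y h t' y' hm hy h' => by
        show pullback.lift t' y' _ ≫ v = m ≫ pullback.lift t y _ ≫ v
        rw [← Category.assoc m]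
        congr 1
        exact pullback.hom_ext (by simp [hm]) (by simp [hy])
      comp := fun T' t i k y y' h h' => by
        refine Subtype.ext ?_
        refine Eq.trans ?_ (hcoc (pullback.lift t y h.symm) (pullback.lift t y' h'.symm)
          (by rw [pullback.lift_fst, pullback.lift_fst]))
        exact φ_congr (pullback.lift_snd _ _ _).symm (pullback.lift_snd _ _ _).symm _ _ _ _ rfl }
  refine ⟨c₀, fun T x c => ?_⟩
  let F := pullback.fst (x ≫ j) g
  let y := pullback.snd (x ≫ j) g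
  have hF : SGA1.UnivSubmersive F :=
    SGA1Q.univSubmersive_of_isPullback hg (IsPullback.of_hasPullback (x ≫ j) g)
  have hy : y ≫ g = F ≫ x ≫ j := pullback.condition.symm
  let a := c.pt (i := PUnit.unit) F y hy
  have ha : a.1 ≫ (D.obj PUnit.unit).hom = y := a.2
  let r : pullback (x ≫ j) g ⟶ pullback ((D.obj PUnit.unit).hom ≫ g) j :=
    pullback.lift a.1 (F ≫ x) (by rw [← Category.assoc, ha, hy, Category.assoc])
  let P₀ := r ≫ inv (psi j U v hv)
  have hP₀ : P₀ ≫ psi j U v hv = r := by simp [P₀]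
  have hP₀v : P₀ ≫ v = a.1 := by
    have := congrArg (· ≫ pullback.fst _ _) hP₀
    simpa only [Category.assoc, psi_fst, r, pullback.lift_fst] using this
  have hP₀U : P₀ ≫ pullback.fst (U.hom ≫ j) g ≫ U.hom = F ≫ x := by
    have := congrArg (· ≫ pullback.snd _ _) hP₀
    simpa only [Category.assoc, psi_snd, r, pullback.lift_snd] using this
  have hP₀y : P₀ ≫ pullback.snd (U.hom ≫ j) g = y := by rw [← over_comp j U v hv, hP₀v, ha]
  obtain ⟨u, ⟨hu₁, hu₂⟩, huniq⟩ := existsUnique_lift hF U.hom x (P₀ ≫ pullback.fst (U.hom ≫ j) g)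
    (by rw [Category.assoc, hP₀U]) fun Z p q e => by
      have hpq : (p ≫ y) ≫ g = (q ≫ y) ≫ g := by
        rw [Category.assoc, Category.assoc, hy, reassoc_of% e]
      have he : p ≫ P₀ ≫ pullback.fst (U.hom ≫ j) g ≫ U.hom = q ≫ F ≫ x := by
        rw [hP₀U, ← Category.assoc, e, Category.assoc]
      let p' : Z ⟶ pullback (U.hom ≫ j) g := pullback.lift (p ≫ P₀ ≫ pullback.fst (U.hom ≫ j) g) (q ≫ y)
        (by
          have e' := congrArg (· ≫ j) he
          simp only [Category.assoc] at e' ⊢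
          rw [e', hy])
      have key : p' ≫ psi j U v hv = (q ≫ P₀) ≫ psi j U v hv := by
        apply pullback.hom_ext
        · simp only [Category.assoc, psi_fst, hP₀v]
          rw [← hcoc (p ≫ P₀) p' (by simp [p'])]
          have hpF : p ≫ F = p ≫ F := rfl
          have hyp : (p ≫ y) ≫ g = (p ≫ F) ≫ x ≫ j := by rw [Category.assoc, hy, Category.assoc]
          have hyq : (q ≫ y) ≫ g = (p ≫ F) ≫ x ≫ j := by rw [e, Category.assoc, hy, Category.assoc]
          have e₁ : p ≫ a.1 = (c.pt (i := PUnit.unit) (p ≫ F) (p ≫ y) hyp).1 :=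
            (c.nat p F y hy _ _ rfl rfl _).symm
          have e₂ : q ≫ a.1 = (c.pt (i := PUnit.unit) (p ≫ F) (q ≫ y) hyq).1 :=
            (c.nat q F y hy _ _ e.symm rfl _).symm
          rw [e₂, ← c.comp (i := PUnit.unit) (k := PUnit.unit) (p ≫ F) (p ≫ y) (q ≫ y) hyp hyq]
          refine φ_congr ?_ ?_ _ _ _ _ ?_
          · rw [Category.assoc, hP₀y]
          · simp [p']
          · show (p ≫ P₀) ≫ v = _
            rw [Category.assoc, hP₀v, e₁]
        · simp only [Category.assoc, psi_snd, hP₀U]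
          simp only [p', pullback.lift_fst_assoc, Category.assoc]
          exact he
      have := (cancel_mono (psi j U v hv)).1 key
      have := congrArg (· ≫ pullback.fst (U.hom ≫ j) g) this
      simpa [p'] using this
  have hval : ∀ (w : T ⟶ U.left) (hw : w ≫ U.hom = x),
      ((c₀.res w (x ≫ j) (by rw [← Category.assoc, hw])).pt (i := PUnit.unit) F y hy).1 =
        pullback.lift (F ≫ w) y (by rw [hy, Category.assoc, ← Category.assoc w, hw]) ≫ v := fun w hw => rfl
  refine ⟨⟨u, hu₁⟩, compat_ext hF ?_, fun q hq => Subtype.ext (huniq q.1 ⟨q.2, ?_⟩)⟩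
  · rw [res_eq_ofPoint (c₀.res u (x ≫ j) _) F _ rfl y hy, res_eq_ofPoint c F _ rfl y hy]
    congr 1
    refine Subtype.ext ?_
    rw [hval u hu₁]
    show _ = a.1
    rw [← hP₀v]
    congr 1
    exact pullback.hom_ext (by rw [pullback.lift_fst, hu₂]) (by rw [pullback.lift_snd, hP₀y])
  · have hq' : pullback.lift (F ≫ q.1) y (by rw [hy, Category.assoc, ← Category.assoc q.1, q.2]) = P₀ := by
      rw [← cancel_mono (psi j U v hv), hP₀]
      apply pullback.hom_ext
      · rw [Category.assoc, psi_fst, pullback.lift_fst, ← hval q.1 q.2, hq]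
      · rw [Category.assoc, psi_snd, pullback.lift_fst_assoc, pullback.lift_snd, Category.assoc, q.2]
    rw [← hq', pullback.lift_fst]

/-- A representing scheme has a trivialisation. -/
theorem exists_triv [Etale (D.obj PUnit.unit).hom] (h : RepByOn D j U) :
    ∃ (v : pullback (U.hom ≫ j) g ⟶ (D.obj PUnit.unit).left)
      (hv : v ≫ (D.obj PUnit.unit).hom = pullback.snd (U.hom ≫ j) g),
      Cocy j U v hv ∧ IsIso (psi j U v hv) := by
  obtain ⟨c₀, hu⟩ := h
  let F := pullback.fst (U.hom ≫ j) g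
  let y := pullback.snd (U.hom ≫ j) g
  let a := c₀.pt (i := PUnit.unit) F y pullback.condition.symm
  refine ⟨a.1, a.2, fun Z p q e => ?_, ?_⟩
  · have hp : (p ≫ y) ≫ g = (p ≫ F) ≫ U.hom ≫ j := by simp only [Category.assoc, F, y, pullback.condition]
    have hq : (q ≫ y) ≫ g = (p ≫ F) ≫ U.hom ≫ j := by
      rw [e]; simp only [Category.assoc, y, pullback.condition]
    rw [show q ≫ a.1 = (c₀.pt (i := PUnit.unit) (p ≫ F) (q ≫ y) hq).1 from
      (c₀.nat q F y pullback.condition.symm _ _ e.symm rfl _).symm,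
      ← c₀.comp (i := PUnit.unit) (k := PUnit.unit) (p ≫ F) (p ≫ y) (q ≫ y) hp hq]
    exact φ_congr rfl rfl _ _ _ _ (c₀.nat p F y pullback.condition.symm _ _ rfl rfl _).symm
  · let π := (D.obj PUnit.unit).hom
    let R := pullback (π ≫ g) j
    let x : R ⟶ W := pullback.snd (π ≫ g) j
    let z : R ⟶ S' := pullback.fst (π ≫ g) j ≫ π
    have hz : z ≫ g = x ≫ j := by simp only [z, x, Category.assoc]; exact pullback.condition
    let b : Lifts (D.obj PUnit.unit) z := ⟨pullback.fst (π ≫ g) j, rfl⟩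
    obtain ⟨p₀, hp₀, -⟩ := hu x (Compat.ofPoint D (i := PUnit.unit) b (x ≫ j) hz)
    let Θ : R ⟶ pullback (U.hom ≫ j) g := pullback.lift p₀.1 z (by rw [hz, ← Category.assoc, p₀.2])
    have hΘv : Θ ≫ a.1 = pullback.fst (π ≫ g) j := by
      have h₀ : z ≫ g = p₀.1 ≫ U.hom ≫ j := by rw [hz, ← Category.assoc, p₀.2]
      rw [← c₀.nat Θ F y pullback.condition.symm p₀.1 z (pullback.lift_fst _ _ _) (pullback.lift_snd _ _ _) h₀]
      have := congrArg (fun d : Compat D (x ≫ j) => (d.pt (i := PUnit.unit) (𝟙 R) z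
        (hz.trans (Category.id_comp _).symm)).1) hp₀
      exact ((c₀.pt_congr (Category.id_comp p₀.1).symm rfl _ _).trans this).trans
        (Compat.ofPoint_pt_self b hz _)
    refine ⟨Θ, ?_, ?_⟩
    · let Ψ := psi j U a.1 a.2
      have hx : (Ψ ≫ p₀.1) ≫ U.hom = F ≫ U.hom := by
        rw [Category.assoc, p₀.2]; exact psi_snd _ _ _ _
      have hΨz : Ψ ≫ z = y := by
        show Ψ ≫ pullback.fst (π ≫ g) j ≫ π = y
        rw [← Category.assoc, psi_fst]; exact a.2
      have hy₁ : y ≫ g = (Ψ ≫ p₀.1) ≫ U.hom ≫ j := by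
        rw [← Category.assoc, hx, Category.assoc]; exact pullback.condition.symm
      have key : c₀.res (Ψ ≫ p₀.1) ((F ≫ U.hom) ≫ j) (by rw [← Category.assoc, hx]) =
          c₀.res F ((F ≫ U.hom) ≫ j) (Category.assoc _ _ _).symm := by
        rw [res_eq_ofPoint c₀ (Ψ ≫ p₀.1) _ _ y hy₁, res_eq_ofPoint c₀ F _ _ y pullback.condition.symm]
        congr 1
        refine Subtype.ext ?_
        rw [c₀.nat (Ψ ≫ Θ) F y pullback.condition.symm (Ψ ≫ p₀.1) y
          (by rw [Category.assoc, pullback.lift_fst]) (by rw [Category.assoc, pullback.lift_snd, hΨz]) hy₁,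
          Category.assoc, hΘv]
        exact psi_fst _ _ _ _
      have hp : Ψ ≫ p₀.1 = F := congrArg Subtype.val ((hu (F ≫ U.hom) (c₀.res F _ (Category.assoc _ _ _).symm)).unique
        (y₁ := ⟨_, hx⟩) (y₂ := ⟨F, rfl⟩) key rfl)
      apply pullback.hom_ext
      · rw [Category.assoc, pullback.lift_fst, Category.id_comp]; exact hp
      · rw [Category.assoc, pullback.lift_snd, Category.id_comp]; exact hΨz
    · apply pullback.hom_ext
      · rw [Category.assoc, psi_fst, Category.id_comp]; exact hΘv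
      · rw [Category.assoc, psi_snd, pullback.lift_fst_assoc, Category.id_comp]; exact p₀.2

/-- Restriction of a representing scheme. -/
theorem RepByOn.restrict (h : RepByOn D j U) {W' : Scheme.{u}} (m : W' ⟶ W) :
    RepByOn D (m ≫ j) (Over.mk (pullback.snd U.hom m)) := by
  obtain ⟨c₀, hu⟩ := h
  refine ⟨c₀.res (pullback.fst U.hom m) _ (by
    show _ = pullback.snd U.hom m ≫ m ≫ j
    rw [← Category.assoc, pullback.condition, Category.assoc]), fun T x c => ?_⟩
  obtain ⟨p, hp, huniq⟩ := hu (x ≫ m) (c.res (𝟙 T) ((x ≫ m) ≫ j) (by rw [Category.id_comp, Category.assoc]))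
  refine ⟨⟨pullback.lift p.1 x p.2, pullback.lift_snd _ _ _⟩, ?_, fun q hq => ?_⟩
  · have := congrArg (fun z : Compat D ((x ≫ m) ≫ j) => z.res (𝟙 T) (x ≫ m ≫ j)
      (by rw [Category.id_comp, Category.assoc])) hp
    simp only [Compat.res_res _ _ _ _ _ _ _ (𝟙 T) (Category.comp_id _) (Category.id_comp _), Compat.res_id] at this
    refine (Compat.res_res _ _ _ _ _ _ _ p.1 (pullback.lift_fst _ _ _) ?_).trans ?_
    · rw [← Category.assoc, p.2, Category.assoc]
    · exact (Compat.res_res c₀ p.1 _ _ (𝟙 T) _ _ p.1 (Category.id_comp _) _).symm.trans this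
  · refine Subtype.ext (pullback.hom_ext ?_ ?_)
    · rw [pullback.lift_fst]
      have hq' : (q.1 ≫ pullback.fst U.hom m) ≫ U.hom = x ≫ m := by
        rw [Category.assoc, pullback.condition, ← Category.assoc]
        exact congrArg (· ≫ m) q.2
      refine congrArg Subtype.val (huniq ⟨_, hq'⟩ ?_)
      rw [← hq, Compat.res_res _ _ _ _ _ _ _ q.1 (Category.id_comp _)
        (by
          show q.1 ≫ pullback.snd U.hom m ≫ m ≫ j = _
          rw [← Category.assoc]
          exact (congrArg (· ≫ m ≫ j) q.2).trans (Category.assoc _ _ _).symm)]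
      exact (Compat.res_res _ _ _ _ _ _ _ _ rfl _).symm
    · rw [pullback.lift_snd]; exact q.2

end Groth.Agent.SchDesc82
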