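import Groth.Agent.H23.PnLine
import Groth.Agent.PicFRel.AlgClosedFamily
import Groth.Agent.LimMor.Approx
import Mathlib.AlgebraicGeometry.Morphisms.ClosedImmersion
import Mathlib.AlgebraicGeometry.Morphisms.Proper

/-!
# A compactification of affine space with a point on each clopen piece

For `n : ℕ` and a ring `R`, a proper `R`-scheme `P` of finite presentation with an open `O`, such that an
idempotent `e` and a tuple `c` in an `R`-algebra `B` give a point `pt e c` of `P` whose inverse image of `O` is the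
piece of `e`, and `pt 1 c` is a closed immersion into `O` when `c` generates.
-/

universe u

set_option autoImplicit false
set_option backward.isDefEq.respectTransparency false
set_option backward.isDefEq.respectTransparency.types false

open CategoryTheory CategoryTheory.Limits AlgebraicGeometry TopologicalSpace

noncomputable section

namespace Groth.Agent.SchDesc82.ValChart

open Groth.Agent.H23

variable (R : Type u) [CommRing R] (n : ℕ)

local notation "𝒜" => CohB1.polyGrading (n + 1) PnLine.Z

/-- The linear form. -/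
def form : MvPolynomial (Fin (n + 1 + 1)) PnLine.Z.{u} :=
  MvPolynomial.X 0 + MvPolynomial.X (Fin.last (n + 1))

theorem form_mem : form.{u} n ∈ CohB1.polyGrading (n + 1) PnLine.Z.{u} 1 :=
  add_mem ((MvPolynomial.mem_homogeneousSubmodule 1 _).mpr (MvPolynomial.isHomogeneous_X _ _))
    ((MvPolynomial.mem_homogeneousSubmodule 1 _).mpr (MvPolynomial.isHomogeneous_X _ _))

/-- The chart ring. -/
abbrev A : Type u := HomogeneousLocalization.Away (CohB1.polyGrading (n + 1) PnLine.Z.{u}) (form.{u} n)

/-- The base. -/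
abbrev S : Scheme.{u} := Spec (CommRingCat.of R)

/-- The chart over the integers. -/
abbrev awayMap : Spec (CommRingCat.of (A.{u} n)) ⟶ CohB1.ProjSpace (n + 1) PnLine.Z.{u} :=
  Proj.awayι (CohB1.polyGrading (n + 1) PnLine.Z.{u}) (form n) (form_mem n) one_pos

/-- The structure map of the chart. -/
abbrev toZ : Spec (CommRingCat.of (A.{u} n)) ⟶ Spec (CommRingCat.of PnLine.Z.{u}) :=
  awayMap n ≫ CohB1.ProjSpace.toSpec (n + 1) PnLine.Z.{u}

/-- The chart over the base. -/
abbrev Q : Scheme.{u} := pullback (toZ.{u} n) (specULiftZIsTerminal.from (S R))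

/-- The compactification. -/
abbrev P : Scheme.{u} := CohB1.ProjSpaceOver (n + 1) (S R)

/-- The structure map. -/
abbrev p : P R n ⟶ S R := CohB1.ProjSpaceOver.toBase (n + 1) (S R)

instance isProper_p : IsProper (p R n) := PicFRel.AlgClosedFamily.isProper_toBase _ _

instance lfp_p : LocallyOfFinitePresentation (p R n) := by
  have : IsProper (CohB1.ProjSpace.toSpec (n + 1) PnLine.Z.{u}) := PnCoh.Chow.isProper_toSpec _ _
  have : IsLocallyNoetherian (Spec (CommRingCat.of PnLine.Z.{u})) := inferInstance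
  have : LocallyOfFinitePresentation (CohB1.ProjSpace.toSpec (n + 1) PnLine.Z.{u}) :=
    LocallyOfFinitePresentation.iff_locallyOfFiniteType.2 inferInstance
  exact MorphismProperty.pullback_snd (P := @LocallyOfFinitePresentation) _ _ this

/-- The chart in the compactification. -/
def ιQ : Q R n ⟶ P R n :=
  pullback.map _ _ _ _ (awayMap n) (𝟙 _) (𝟙 _) (by simp) (by simp)

instance : IsOpenImmersion (ιQ R n) := by
  delta ιQ
  infer_instance

theorem ιQ_p : ιQ R n ≫ p R n = pullback.snd _ _ :=
  (pullback.lift_snd _ _ _).trans (Category.comp_id _)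

/-- The last coordinate ratio. -/
abbrev last : A.{u} n := PnLine.coord (form_mem n) (Fin.last (n + 1))

/-- The open of the chart. -/
def W : (Q R n).Opens := pullback.fst (toZ n) _ ⁻¹ᵁ (PrimeSpectrum.basicOpen (last n))

/-- The open. -/
def O : (P R n).Opens := ((W R n).ι ≫ ιQ R n).opensRange

theorem isCompact_O : IsCompact (O R n : Set (P R n)) := by
  have : IsAffineHom (pullback.fst (toZ.{u} n) (specULiftZIsTerminal.from (S R))) :=
    MorphismProperty.pullback_fst _ _ inferInstance
  have h : IsAffineOpen (W R n) := IsAffineOpen.preimage (by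
    exact IsAffineOpen.Spec_basicOpen (R := CommRingCat.of (A.{u} n)) (last n)) _
  have : CompactSpace ↥(W R n).toScheme := isCompact_iff_compactSpace.1 h.isCompact
  exact isCompact_range ((W R n).ι ≫ ιQ R n).continuous

variable {R n} {B : Type u} [CommRing B] [Algebra R B]

/-- The vector. -/
def vec (e : B) (c : Fin n → B) : Fin (n + 1 + 1) → B :=
  Fin.cons (1 - e) (Fin.snoc (fun k => e * c k) e)

theorem eval_vec (e : B) (c : Fin n → B) :
    MvPolynomial.eval₂ (PnLine.up B) (vec e c) (form n) = 1 := by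
  have h : Fin.last (n + 1) = (Fin.last n).succ := rfl
  rw [form, MvPolynomial.eval₂_add, MvPolynomial.eval₂_X, MvPolynomial.eval₂_X, h]
  simp only [vec, Fin.cons_zero, Fin.cons_succ, Fin.snoc_last]
  exact sub_add_cancel 1 e

/-- The ring map of the point. -/
def vecRingHom (e : B) (c : Fin n → B) : A.{u} n →+* B :=
  PnLine.vecHom (l := form n) (vec e c) (eval_vec e c)

theorem vecRingHom_coord (e : B) (c : Fin n → B) (m : Fin (n + 1 + 1)) :
    vecRingHom e c (PnLine.coord (form_mem n) m) = vec e c m :=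
  PnLine.vecHom_coord (form_mem n) _ _ m

theorem vecRingHom_last (e : B) (c : Fin n → B) : vecRingHom e c (last n) = e := by
  rw [vecRingHom_coord, show Fin.last (n + 1) = (Fin.last n).succ from rfl]
  simp only [vec, Fin.cons_succ, Fin.snoc_last]

/-- The point in the chart. -/
def ptQ (e : B) (c : Fin n → B) : Spec (CommRingCat.of B) ⟶ Q R n :=
  pullback.lift (Spec.map (CommRingCat.ofHom (vecRingHom e c)))
    (Spec.map (CommRingCat.ofHom (algebraMap R B))) (specULiftZIsTerminal.hom_ext _ _)

/-- The point. -/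
def pt (e : B) (c : Fin n → B) : Spec (CommRingCat.of B) ⟶ P R n := ptQ e c ≫ ιQ R n

theorem pt_p (e : B) (c : Fin n → B) : pt e c ≫ p R n = Spec.map (CommRingCat.ofHom (algebraMap R B)) := by
  rw [pt, Category.assoc, ιQ_p]
  exact pullback.lift_snd _ _ _

theorem pt_natural {B' : Type u} [CommRing B'] [Algebra R B'] (χ : B →ₐ[R] B') (e : B) (c : Fin n → B) (e' : B')
    (c' : Fin n → B') (he : χ e = e') (hc : ∀ k, e' * χ (c k) = e' * c' k) :
    Spec.map (CommRingCat.ofHom χ.toRingHom) ≫ pt e c = pt (R := R) e' c' := by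
  rw [pt, pt, ← Category.assoc]
  congr 1
  apply pullback.hom_ext
  · rw [Category.assoc, ptQ, ptQ, pullback.lift_fst, pullback.lift_fst, ← Spec.map_comp, ← CommRingCat.ofHom_comp]
    congr 2
    refine PnLine.hom_ext (form_mem n) fun m => ?_
    rw [RingHom.comp_apply, vecRingHom_coord, vecRingHom_coord]
    induction m using Fin.cases with
    | zero =>
      simp only [vec, Fin.cons_zero, AlgHom.toRingHom_eq_coe, RingHom.coe_coe, map_sub, map_one, he]
    | succ m =>
      simp only [vec, Fin.cons_succ]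
      induction m using Fin.lastCases with
      | last => simp only [Fin.snoc_last, AlgHom.toRingHom_eq_coe, RingHom.coe_coe, he]
      | cast k => simp only [Fin.snoc_castSucc, AlgHom.toRingHom_eq_coe, RingHom.coe_coe, map_mul, he, hc]
  · rw [Category.assoc, ptQ, ptQ, pullback.lift_snd, pullback.lift_snd, ← Spec.map_comp, ← CommRingCat.ofHom_comp]
    congr 2
    exact RingHom.ext χ.commutes

theorem ptQ_preimage (e : B) (c : Fin n → B) :
    ptQ (R := R) e c ⁻¹ᵁ W R n = (PrimeSpectrum.basicOpen e : (Spec (CommRingCat.of B)).Opens) := by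
  rw [W, ← Scheme.Hom.comp_preimage, ptQ, pullback.lift_fst]
  ext x
  show vecRingHom e c (last n) ∉ x.asIdeal ↔ e ∉ x.asIdeal
  rw [vecRingHom_last]

theorem pt_preimage (e : B) (c : Fin n → B) :
    pt (R := R) e c ⁻¹ᵁ O R n = (PrimeSpectrum.basicOpen e : (Spec (CommRingCat.of B)).Opens) := by
  rw [pt, Scheme.Hom.comp_preimage, ← ptQ_preimage (R := R) e c]
  congr 1
  rw [O]
  ext x
  show ιQ R n x ∈ Set.range ((W R n).ι ≫ ιQ R n) ↔ x ∈ W R n
  constructor
  · rintro ⟨y, hy⟩
    rw [Scheme.Hom.comp_apply] at hy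
    rw [← (ιQ R n).isOpenEmbedding.injective hy]
    exact y.2
  · intro hx
    exact ⟨⟨x, hx⟩, by rw [Scheme.Hom.comp_apply]; rfl⟩

variable (R) in
theorem range_pt_one (c : Fin n → B) : Set.range (pt (R := R) (1 : B) c) ⊆ Set.range (O R n).ι := by
  rintro _ ⟨x, rfl⟩
  rw [Scheme.Opens.range_ι]
  show x ∈ pt (R := R) (1 : B) c ⁻¹ᵁ O R n
  rw [pt_preimage, PrimeSpectrum.basicOpen_one]
  trivial

/-- A pair of ring maps which are jointly surjective gives a closed immersion into the product of spectra. -/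
theorem isClosedImmersion_pair {Z₀ : Type u} [CommRing Z₀] (hZ : Limits.IsTerminal (Spec (CommRingCat.of Z₀)))
    (up : ∀ (B : Type u) [CommRing B], Z₀ →+* B) (huniq : ∀ (B : Type u) [CommRing B] (g : Z₀ →+* B), g = up B)
    {A₁ A₂ B : Type u} [CommRing A₁] [CommRing A₂] [CommRing B] (f : A₁ →+* B)
    (g : A₂ →+* B) (h : ∀ b, b ∈ Subring.closure (Set.range f ∪ Set.range g))
    (a₁ : Spec (CommRingCat.of A₁) ⟶ Spec (CommRingCat.of Z₀))
    (a₂ : Spec (CommRingCat.of A₂) ⟶ Spec (CommRingCat.of Z₀))
    (w : Spec.map (CommRingCat.ofHom f) ≫ a₁ = Spec.map (CommRingCat.ofHom g) ≫ a₂) :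
    IsClosedImmersion (pullback.lift _ _ w) := by
  let alg₁ : Algebra Z₀ A₁ := (up _).toAlgebra
  let alg₂ : Algebra Z₀ A₂ := (up _).toAlgebra
  let algB : Algebra Z₀ B := (up _).toAlgebra
  let f₁ : A₁ →ₐ[Z₀] B :=
    { f with commutes' := fun a => RingHom.congr_fun (huniq B (f.comp (up _))) a }
  let f₂ : A₂ →ₐ[Z₀] B :=
    { g with commutes' := fun a => RingHom.congr_fun (huniq B (g.comp (up _))) a }
  let φ := Algebra.TensorProduct.lift f₁ f₂ fun _ _ => .all _ _
  have hφ : Function.Surjective φ := by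
    intro b
    have : Subring.closure (Set.range f ∪ Set.range g) ≤ φ.toRingHom.range := by
      rw [Subring.closure_le]
      rintro _ (⟨a, rfl⟩ | ⟨a, rfl⟩)
      · exact ⟨a ⊗ₜ 1, (Algebra.TensorProduct.lift_tmul f₁ f₂ _ a 1).trans (by rw [map_one, mul_one]; rfl)⟩
      · exact ⟨1 ⊗ₜ a, (Algebra.TensorProduct.lift_tmul f₁ f₂ _ 1 a).trans (by rw [map_one, one_mul]; rfl)⟩
    exact this (h b)
  have : IsClosedImmersion (Spec.map (CommRingCat.ofHom φ.toRingHom)) := IsClosedImmersion.spec_of_surjective _ hφ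
  let i₀ := pullback.map a₁ a₂ (Spec.map (CommRingCat.ofHom (algebraMap Z₀ A₁)))
    (Spec.map (CommRingCat.ofHom (algebraMap Z₀ A₂))) (𝟙 _) (𝟙 _) (𝟙 _)
    (hZ.hom_ext _ _) (hZ.hom_ext _ _)
  let α := i₀ ≫ (pullbackSpecIso Z₀ A₁ A₂).hom
  have hα : pullback.lift _ _ w ≫ α = Spec.map (CommRingCat.ofHom φ.toRingHom) := by
    rw [← Category.assoc, ← Iso.eq_comp_inv]
    apply pullback.hom_ext
    · rw [Category.assoc, Category.assoc, pullbackSpecIso_inv_fst, ← Spec.map_comp]
      simp only [i₀, Category.comp_id, pullback.lift_fst]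
      congr 1
      ext a
      exact ((Algebra.TensorProduct.lift_tmul f₁ f₂ (fun _ _ => .all _ _) a 1).trans (by rw [map_one, mul_one]; rfl)).symm
    · rw [Category.assoc, Category.assoc, pullbackSpecIso_inv_snd, ← Spec.map_comp]
      simp only [i₀, Category.comp_id, pullback.lift_snd]
      congr 1
      ext a
      exact ((Algebra.TensorProduct.lift_tmul f₁ f₂ (fun _ _ => .all _ _) 1 a).trans (by rw [map_one, one_mul]; rfl)).symm
  have : IsClosedImmersion (pullback.lift _ _ w ≫ α) := hα ▸ this
  exact IsClosedImmersion.of_comp _ α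

/-- An algebra generated by a tuple is closed in the open. -/
theorem isClosedImmersion_lift (c : Fin n → B) (hc : Algebra.adjoin R (Set.range c) = ⊤) :
    IsClosedImmersion (IsOpenImmersion.lift (O R n).ι (pt (R := R) (1 : B) c) (range_pt_one R c)) := by
  have hcl : ∀ b, b ∈ Subring.closure (Set.range (vecRingHom (1 : B) c) ∪ Set.range (algebraMap R B)) := by
    intro b
    have hb : b ∈ Algebra.adjoin R (Set.range c) := by rw [hc]; trivial
    induction hb using Algebra.adjoin_induction with
    | mem x hx =>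
      obtain ⟨k, rfl⟩ := hx
      refine Subring.subset_closure (Or.inl ⟨PnLine.coord (form_mem n) k.castSucc.succ, ?_⟩)
      rw [vecRingHom_coord]
      simp only [vec, Fin.cons_succ, Fin.snoc_castSucc, one_mul]
    | algebraMap r => exact Subring.subset_closure (Or.inr ⟨r, rfl⟩)
    | add x y _ _ hx hy => exact add_mem hx hy
    | mul x y _ _ hx hy => exact mul_mem hx hy
  have : IsClosedImmersion (ptQ (R := R) (1 : B) c) :=
    isClosedImmersion_pair specULiftZIsTerminal (fun B _ => PnLine.up B) (fun B _ g => PnLine.up_unique B g) _ _ hcl (toZ n) (specULiftZIsTerminal.from (S R)) (specULiftZIsTerminal.hom_ext _ _)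
  have hr : Set.range (ptQ (R := R) (1 : B) c) ⊆ Set.range (W R n).ι := by
    rintro _ ⟨x, rfl⟩
    rw [Scheme.Opens.range_ι]
    show x ∈ ptQ (R := R) (1 : B) c ⁻¹ᵁ W R n
    rw [ptQ_preimage, PrimeSpectrum.basicOpen_one]
    trivial
  let l := IsOpenImmersion.lift (W R n).ι (ptQ (R := R) (1 : B) c) hr
  have : IsClosedImmersion (l ≫ (W R n).ι) := by rw [IsOpenImmersion.lift_fac]; infer_instance
  have : IsClosedImmersion l := IsClosedImmersion.of_comp l (W R n).ι
  have e : IsOpenImmersion.lift (O R n).ι (pt (R := R) (1 : B) c) (range_pt_one R c) =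
      l ≫ ((W R n).ι ≫ ιQ R n).isoOpensRange.hom := by
    rw [← cancel_mono (O R n).ι, IsOpenImmersion.lift_fac, Category.assoc]
    rw [show ((W R n).ι ≫ ιQ R n).isoOpensRange.hom ≫ (O R n).ι = (W R n).ι ≫ ιQ R n from
      Scheme.Hom.isoOpensRange_hom_ι _, IsOpenImmersion.lift_fac_assoc]
    rfl
  rw [e]
  infer_instance

end Groth.Agent.SchDesc82.ValChart
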