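import Mathlib.FieldTheory.IsAlgClosed.AlgebraicClosure
import Mathlib.RingTheory.Valuation.ValuationSubring
import Mathlib.RingTheory.FinitePresentation
import Mathlib.Order.Filter.Ultrafilter.Basic
import Mathlib.RingTheory.Spectrum.Prime.Basic
import Mathlib.RingTheory.LocalRing.ResidueField.Ideal

/-!
# A finite family of multisections through every valuation

For a ring `R` let `Rt` be the product of algebraic closures of its residue fields. If a finite family of finitely
presented algebras has a point in every valuation ring over `R` with algebraically closed fraction field, then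
finitely many points on clopen pieces of `Spec Rt` are integral at every valuation of every residue field of `Rt`.
-/

universe u

set_option autoImplicit false

open Filter

namespace Groth.Agent.SchDesc82

variable (R : Type u) [CommRing R]

/-- The product of algebraic closures of all residue fields. -/
abbrev GeomProd : Type u := ∀ p : PrimeSpectrum R, AlgebraicClosure p.asIdeal.ResidueField

namespace GeomProd

/-- A valuation of a residue field of `GeomProd R`, integral on `R`. -/
structure Pt where
  /-- the field -/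
  K : Type u
  [fld : Field K]
  /-- the quotient map -/
  φ : GeomProd R →+* K
  surj : Function.Surjective φ
  /-- the valuation ring -/
  O : ValuationSubring K
  int : ∀ r : R, φ (algebraMap R (GeomProd R) r) ∈ O

attribute [instance] Pt.fld

variable {ι : Type u} (B : ι → Type u) [∀ i, CommRing (B i)] [∀ i, Algebra R (B i)]

/-- A point of some member on a clopen piece. -/
structure Sec where
  /-- the member -/
  i : ι
  /-- the piece -/
  e : GeomProd R
  idem : e * e = e
  /-- the point -/
  ψ : B i →ₐ[R] GeomProd R ⧸ Ideal.span {1 - e}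

variable {R} {B}

/-- The point is integral at the valuation. -/
def Sec.Covers (t : Sec R B) (π : Pt R) : Prop :=
  π.φ t.e = 1 ∧ ∀ (b : B t.i) (x : GeomProd R), Ideal.Quotient.mk _ x = t.ψ b → π.φ x ∈ π.O

theorem isMaximal_of_isPrime (w : Ideal (GeomProd R)) [w.IsPrime] : w.IsMaximal := by
  refine ⟨⟨Ideal.IsPrime.ne_top ‹_›, fun J hJ => (Ideal.eq_top_iff_one J).2 ?_⟩⟩
  obtain ⟨x, hxJ, hxw⟩ := SetLike.exists_of_lt hJ
  let y : GeomProd R := fun p => (x p)⁻¹
  have h : x * (1 - x * y) = 0 := funext fun p => by
    show x p * (1 - x p * (x p)⁻¹) = 0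
    by_cases hp : x p = 0
    · rw [hp, zero_mul]
    · rw [mul_inv_cancel₀ hp, sub_self, mul_zero]
  have h1 : 1 - x * y ∈ w := (Ideal.IsPrime.mem_or_mem ‹_› (h ▸ w.zero_mem)).resolve_left hxw
  have h2 := J.add_mem (hJ.le h1) (J.mul_mem_right y hxJ)
  rwa [sub_add_cancel] at h2

theorem isAlgClosed_quotient (w : Ideal (GeomProd R)) [w.IsPrime] :
    haveI := isMaximal_of_isPrime w
    letI := Ideal.Quotient.field w
    IsAlgClosed (GeomProd R ⧸ w) := by
  have := isMaximal_of_isPrime w
  let _ := Ideal.Quotient.field w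
  refine IsAlgClosed.of_exists_root _ fun P hP hirr => ?_
  have hl : P ∈ Polynomial.lifts (Ideal.Quotient.mk w) :=
    (Polynomial.mem_lifts P).mpr (Polynomial.map_surjective _ Ideal.Quotient.mk_surjective P)
  obtain ⟨f, hf, hdeg, hfm⟩ := Polynomial.lifts_and_natDegree_eq_and_monic hl hP
  choose a ha using fun p : PrimeSpectrum R => IsAlgClosed.exists_root
    (f.map (Pi.evalRingHom (fun p : PrimeSpectrum R => AlgebraicClosure p.asIdeal.ResidueField) p)) (by
      have hd : P.natDegree ≠ 0 :=
        (Polynomial.natDegree_pos_iff_degree_pos.2 (Polynomial.degree_pos_of_irreducible hirr)).ne'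
      intro hcon
      rw [hfm.degree_map] at hcon
      have := Polynomial.natDegree_eq_of_degree_eq_some (n := 0) hcon
      exact hd (hdeg ▸ this))
  refine ⟨Ideal.Quotient.mk w a, ?_⟩
  have h0 : f.eval a = 0 := funext fun p => by
    have := ha p
    rw [Polynomial.IsRoot, Polynomial.eval_map] at this
    rw [Pi.zero_apply, ← this]
    exact Polynomial.eval₂_at_apply
      (Pi.evalRingHom (fun p : PrimeSpectrum R => AlgebraicClosure p.asIdeal.ResidueField) p) a |>.symm
  rw [← hf, Polynomial.eval_map, Polynomial.eval₂_at_apply, h0, map_zero]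

variable (R B) in
/-- Compactness: finitely many points are integral at all valuations. -/
theorem exists_finite_covers [∀ i, Algebra.FinitePresentation R (B i)]
    (hB : ∀ (O : Type u) [CommRing O] [IsDomain O] [ValuationRing O] [Algebra R O],
      IsAlgClosed (FractionRing O) → ∃ i, Nonempty (B i →ₐ[R] O)) :
    ∃ T : Finset (Sec R B), ∀ π : Pt R, ∃ t ∈ T, t.Covers π := by
  classical
  by_contra hcon
  push Not at hcon
  choose π hπ using hcon
  let U : Ultrafilter (Finset (Sec R B)) := Ultrafilter.of atTop
  have hU : (U : Filter (Finset (Sec R B))) ≤ atTop := Ultrafilter.of_le _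
  -- the limit point
  let w : Ideal (GeomProd R) :=
    { carrier := {a | ∀ᶠ F in (U : Filter _), (π F).φ a = 0}
      zero_mem' := Eventually.of_forall fun F => map_zero _
      add_mem' := by
        intro a b ha hb
        exact (Filter.Eventually.and ha hb).mono fun F h => by rw [map_add, h.1, h.2, add_zero]
      smul_mem' := by
        intro c a ha
        exact Filter.Eventually.mono ha fun F h => by rw [smul_eq_mul, map_mul, h, mul_zero] }
  have hw : ∀ a, a ∈ w ↔ ∀ᶠ F in (U : Filter _), (π F).φ a = 0 := fun a => Iff.rfl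
  have : w.IsPrime := by
    refine ⟨fun h => ?_, fun {a b} hab => ?_⟩
    · obtain ⟨F, hF⟩ := ((hw 1).1 ((Ideal.eq_top_iff_one w).1 h)).exists
      exact one_ne_zero ((map_one (π F).φ).symm.trans hF)
    · rw [hw, hw, ← Ultrafilter.eventually_or]
      exact ((hw _).1 hab).mono fun F h => mul_eq_zero.1 ((map_mul _ a b).symm.trans h)
  have := isMaximal_of_isPrime w
  let _ := Ideal.Quotient.field w
  let mk := Ideal.Quotient.mk w
  let inO : GeomProd R → Prop := fun a => ∀ᶠ F in (U : Filter _), (π F).φ a ∈ (π F).O
  have hcongr : ∀ a b, mk a = mk b → inO a → inO b := fun a b h ha =>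
    (ha.and ((hw _).1 (Ideal.Quotient.eq.1 h))).mono fun F hF => by
      rw [map_sub, sub_eq_zero] at hF
      rw [← hF.2]
      exact hF.1
  let O : ValuationSubring (GeomProd R ⧸ w) :=
    { carrier := {z | ∃ a, mk a = z ∧ inO a}
      zero_mem' := ⟨0, map_zero _, Eventually.of_forall fun F => by rw [map_zero]; exact zero_mem _⟩
      one_mem' := ⟨1, map_one _, Eventually.of_forall fun F => by rw [map_one]; exact one_mem _⟩
      add_mem' := by
        rintro _ _ ⟨a, rfl, ha⟩ ⟨b, rfl, hb⟩
        exact ⟨a + b, map_add _ _ _, (ha.and hb).mono fun F h => by rw [map_add]; exact add_mem h.1 h.2⟩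
      mul_mem' := by
        rintro _ _ ⟨a, rfl, ha⟩ ⟨b, rfl, hb⟩
        exact ⟨a * b, map_mul _ _ _, (ha.and hb).mono fun F h => by rw [map_mul]; exact mul_mem h.1 h.2⟩
      neg_mem' := by
        rintro _ ⟨a, rfl, ha⟩
        exact ⟨-a, map_neg _ _, ha.mono fun F h => by rw [map_neg]; exact neg_mem h⟩
      mem_or_inv_mem' := fun z => by
        obtain ⟨a, rfl⟩ := Ideal.Quotient.mk_surjective z
        by_cases hz : mk a = 0
        · exact Or.inl ⟨0, (map_zero _).trans hz.symm, Eventually.of_forall fun F => by rw [map_zero]; exact zero_mem _⟩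
        obtain ⟨b, hb⟩ := Ideal.Quotient.mk_surjective (mk a)⁻¹
        have hab : ∀ᶠ F in (U : Filter _), (π F).φ a * (π F).φ b = 1 := by
          have h1 : mk (a * b) = mk 1 := by rw [map_mul, hb, map_one]; exact mul_inv_cancel₀ hz
          exact ((hw _).1 (Ideal.Quotient.eq.1 h1)).mono fun F h => by
            rw [map_sub, map_mul, map_one, sub_eq_zero] at h; exact h
        have : ∀ᶠ F in (U : Filter _), (π F).φ a ∈ (π F).O ∨ (π F).φ b ∈ (π F).O := hab.mono fun F h => by
          refine ((π F).O.mem_or_inv_mem ((π F).φ a)).imp id fun h' => ?_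
          rwa [← eq_inv_of_mul_eq_one_right h] at h'
        rcases Ultrafilter.eventually_or.1 this with h | h
        · exact Or.inl ⟨a, rfl, h⟩
        · exact Or.inr ⟨b, hb, h⟩ }
  have hO : ∀ a, mk a ∈ O → inO a := fun a ⟨b, hb, h⟩ => hcongr b a hb h
  have hint : ∀ r, mk.comp (algebraMap R (GeomProd R)) r ∈ O.toSubring :=
    fun r => ⟨algebraMap R (GeomProd R) r, rfl, Eventually.of_forall fun F => (π F).int r⟩
  let _ : Algebra R O := (RingHom.codRestrict (mk.comp (algebraMap R (GeomProd R))) O.toSubring hint).toAlgebra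
  have hac : IsAlgClosed (FractionRing O) :=
    have := isAlgClosed_quotient w
    IsAlgClosed.of_ringEquiv _ _ (FractionRing.algEquiv O (GeomProd R ⧸ w)).symm.toRingEquiv
  obtain ⟨i, ⟨χ⟩⟩ := hB O hac
  -- the point on a piece
  obtain ⟨n, f, hf, s, hs⟩ := Algebra.FinitePresentation.out (R := R) (A := B i)
  choose c hc using fun k => Ideal.Quotient.mk_surjective (χ (f (MvPolynomial.X k))).1
  let ev : MvPolynomial (Fin n) R →ₐ[R] GeomProd R := MvPolynomial.aeval c
  let inc : O →ₐ[R] GeomProd R ⧸ w := { O.toSubring.subtype with commutes' := fun r => rfl }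
  have hev : ∀ g, mk (ev g) = (χ (f g)).1 := fun g => by
    have : (Ideal.Quotient.mkₐ R w).comp ev = inc.comp (χ.comp f) :=
      MvPolynomial.algHom_ext fun k => by
        show mk (ev (MvPolynomial.X k)) = _
        rw [MvPolynomial.aeval_X, hc]
        rfl
    exact congr($this g)
  let u : MvPolynomial (Fin n) R → GeomProd R := fun g p => 1 - ev g p * (ev g p)⁻¹
  let e : GeomProd R := ∏ g ∈ s, u g
  have hidem : ∀ g, u g * u g = u g ∧ ev g * u g = 0 := fun g => by
    refine ⟨funext fun p => ?_, funext fun p => ?_⟩ <;> by_cases h : ev g p = 0 <;> simp [u, h]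
  have he : e * e = e := by
    rw [← Finset.prod_mul_distrib]
    exact Finset.prod_congr rfl fun g _ => (hidem g).1
  have hew : mk e = 1 := by
    rw [map_prod]
    refine Finset.prod_eq_one fun g hg => ?_
    have h0 : mk (ev g) = 0 := by
      have hk : g ∈ RingHom.ker f.toRingHom := hs ▸ Ideal.subset_span hg
      rw [hev, show f g = 0 from hk, map_zero]
      rfl
    have : u g = 1 - ev g * fun p => (ev g p)⁻¹ := rfl
    rw [this, map_sub, map_mul, map_one, h0, zero_mul, sub_zero]
  let ev' : MvPolynomial (Fin n) R →ₐ[R] GeomProd R ⧸ Ideal.span {1 - e} := (Ideal.Quotient.mkₐ R _).comp ev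
  have hker : RingHom.ker f.toRingHom ≤ RingHom.ker ev'.toRingHom := by
    rw [← hs, Ideal.span_le]
    intro g hg
    show Ideal.Quotient.mk _ (ev g) = 0
    rw [Ideal.Quotient.eq_zero_iff_mem, Ideal.mem_span_singleton']
    refine ⟨ev g, ?_⟩
    obtain ⟨q, hq⟩ : u g ∣ e := Finset.dvd_prod_of_mem _ hg
    rw [mul_sub, mul_one, hq, ← mul_assoc, (hidem g).2, zero_mul, sub_zero]
  let t : Sec R B := ⟨i, e, he, f.liftOfSurjective hf ev' hker⟩
  have ht : ∀ g, t.ψ (f g) = Ideal.Quotient.mk _ (ev g) := fun g => by
    exact AlgHom.liftOfSurjective_apply f hf ev' hker g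
  have h1 : ∀ᶠ F in (U : Filter _), (π F).φ e = 1 := by
    have : mk e = mk 1 := by rw [hew, map_one]
    exact ((hw _).1 (Ideal.Quotient.eq.1 this)).mono fun F h => by
      rw [map_sub, map_one, sub_eq_zero] at h; exact h
  have h2 : ∀ᶠ F in (U : Filter _), ∀ k, (π F).φ (c k) ∈ (π F).O :=
    eventually_all.2 fun k => hO _ (by rw [hc]; exact Subtype.mem _)
  have h3 : ∀ᶠ F in (U : Filter _), t.Covers (π F) := by
    refine (h1.and h2).mono fun F ⟨hFe, hFc⟩ => ⟨hFe, fun b x hx => ?_⟩
    obtain ⟨g, rfl⟩ := hf b
    rw [ht, Ideal.Quotient.eq, Ideal.mem_span_singleton'] at hx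
    obtain ⟨q, hq⟩ := hx
    have : (π F).φ x = (π F).φ (ev g) := by
      have := congrArg (π F).φ hq
      rw [map_mul, map_sub, map_one, hFe, sub_self, mul_zero, map_sub] at this
      exact sub_eq_zero.1 this.symm
    rw [this]
    clear hq this
    induction g using MvPolynomial.induction_on with
    | C r => rw [MvPolynomial.aeval_C]; exact (π F).int r
    | add g g' hg hg' => rw [map_add, map_add]; exact add_mem hg hg'
    | mul_X g k hg => rw [map_mul, map_mul, MvPolynomial.aeval_X]; exact mul_mem hg (hFc k)
  obtain ⟨F, hF, hmem⟩ := (h3.and (hU (eventually_ge_atTop {t}))).exists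
  exact hπ F t (Finset.singleton_subset_iff.1 hmem) hF

end GeomProd

end Groth.Agent.SchDesc82
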