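import Groth.Agent.SchDesc82.ValPoint
import Groth.Agent.SchDesc82.ValCompact
import Groth.Agent.SchDesc82.ValChart
import Groth.Agent.S14769
import Groth.Agent.MorLib.IdealFG3
import Groth.Agent.MorLib.BaseChangeLim
import Groth.Agent.LimMor.ProperApprox
import Groth.Agent.AffineNhd.Glue
import Mathlib.AlgebraicGeometry.ValuativeCriterion
import Mathlib.AlgebraicGeometry.AffineTransitionLimit

/-!
# Open coverings followed by proper morphisms refine universally subtrusive morphisms
-/

universe u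

set_option autoImplicit false
set_option backward.isDefEq.respectTransparency false
set_option backward.isDefEq.respectTransparency.types false

open CategoryTheory CategoryTheory.Limits AlgebraicGeometry TopologicalSpace

namespace Groth.Agent.SchDesc82.ValRefine

open GeomProd

variable {R : Type u} [CommRing R] {S' : Scheme.{u}} (f : S' ⟶ Spec (CommRingCat.of R))

instance isProper_toSpec (n : ℕ) : IsProper (CohB1.ProjSpace.toSpec (n + 1) H23.PnLine.Z.{u}) :=
  PnCoh.Chow.isProper_toSpec _ _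

instance lfp_toSpec (n : ℕ) :
    LocallyOfFinitePresentation (CohB1.ProjSpace.toSpec (n + 1) H23.PnLine.Z.{u}) := by
  have : IsLocallyNoetherian (Spec (CommRingCat.of H23.PnLine.Z.{u})) := inferInstance
  exact LocallyOfFinitePresentation.iff_locallyOfFiniteType.2 inferInstance

instance surjective_toSpec (n : ℕ) : Surjective (CohB1.ProjSpace.toSpec (n + 1) H23.PnLine.Z.{u}) := by
  let s := ValChart.pt (R := H23.PnLine.Z.{u}) (n := n) (1 : H23.PnLine.Z.{u}) (fun _ => 0) ≫ pullback.fst _ _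
  have hs : s ≫ CohB1.ProjSpace.toSpec (n + 1) H23.PnLine.Z.{u} = 𝟙 _ := specULiftZIsTerminal.hom_ext _ _
  exact ⟨fun x => ⟨s x, by rw [← Scheme.Hom.comp_apply, hs]; rfl⟩⟩

/-- The product over the finitely many points chosen, defined over the integers. -/
theorem exists_product {ι : Type u} {B : ι → Type u} [∀ i, CommRing (B i)] [∀ i, Algebra R (B i)] (n : ι → ℕ)
    (c : ∀ t : Sec R B, Fin (n t.i) → GeomProd R) (T : Finset (Sec R B)) :
    ∃ (Z₀ : Scheme.{u}) (zZ : Z₀ ⟶ Spec (CommRingCat.of H23.PnLine.Z.{u})) (_ : IsProper zZ)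
      (_ : LocallyOfFinitePresentation zZ) (_ : Surjective zZ)
      (z : Spec (CommRingCat.of (GeomProd R)) ⟶ pullback zZ (specULiftZIsTerminal.from (ValChart.S R))),
      z ≫ pullback.snd _ _ = Spec.map (CommRingCat.ofHom (algebraMap R (GeomProd R))) ∧
      ∀ t ∈ T, ∃ q : pullback zZ (specULiftZIsTerminal.from (ValChart.S R)) ⟶ ValChart.P R (n t.i),
        q ≫ ValChart.p R (n t.i) = pullback.snd _ _ ∧ z ≫ q = ValChart.pt t.e (c t) := by
  classical
  induction T using Finset.induction with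
  | empty =>
    exact ⟨_, 𝟙 _, inferInstance, inferInstance, inferInstance,
      pullback.lift (specULiftZIsTerminal.from _) (Spec.map (CommRingCat.ofHom (algebraMap R (GeomProd R))))
        (specULiftZIsTerminal.hom_ext _ _),
      pullback.lift_snd _ _ _, fun t ht => absurd ht (Finset.notMem_empty t)⟩
  | insert t T _ ih =>
    obtain ⟨Z₀, zZ, hp, hl, hs, z, hz, hq⟩ := ih
    let t₀ := CohB1.ProjSpace.toSpec (n t.i + 1) H23.PnLine.Z.{u}
    have : IsProper (pullback.fst zZ t₀) := MorphismProperty.pullback_fst _ _ inferInstance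
    have : LocallyOfFinitePresentation (pullback.fst zZ t₀) := MorphismProperty.pullback_fst _ _ inferInstance
    have : Surjective (pullback.fst zZ t₀) := MorphismProperty.pullback_fst _ _ inferInstance
    refine ⟨pullback zZ t₀, pullback.fst zZ t₀ ≫ zZ, inferInstance, inferInstance, inferInstance,
      pullback.lift (pullback.lift (z ≫ pullback.fst _ _) (ValChart.pt (R := R) t.e (c t) ≫ pullback.fst _ _)
        (specULiftZIsTerminal.hom_ext _ _))
        (Spec.map (CommRingCat.ofHom (algebraMap R (GeomProd R)))) (specULiftZIsTerminal.hom_ext _ _),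
      pullback.lift_snd _ _ _, fun s hs => ?_⟩
    rcases Finset.mem_insert.1 hs with rfl | hs
    · refine ⟨pullback.lift (pullback.fst _ _ ≫ pullback.snd _ _) (pullback.snd _ _)
        (specULiftZIsTerminal.hom_ext _ _), pullback.lift_snd _ _ _, ?_⟩
      apply pullback.hom_ext
      · rw [Category.assoc, pullback.lift_fst, pullback.lift_fst_assoc, pullback.lift_snd]
      · rw [Category.assoc, pullback.lift_snd, pullback.lift_snd]
        exact (ValChart.pt_p _ _).symm
    · obtain ⟨q, hq₁, hq₂⟩ := hq s hs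
      refine ⟨pullback.lift (pullback.fst _ _ ≫ pullback.fst _ _) (pullback.snd _ _)
        (specULiftZIsTerminal.hom_ext _ _) ≫ q, by rw [Category.assoc, hq₁, pullback.lift_snd], ?_⟩
      rw [← hq₂, ← Category.assoc]
      congr 1
      apply pullback.hom_ext
      · rw [Category.assoc, pullback.lift_fst, pullback.lift_fst_assoc, pullback.lift_fst]
      · rw [Category.assoc, pullback.lift_snd, pullback.lift_snd, hz]

/-- A point specialising from the spectrum of a field is the centre of a valuation of that field. -/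
theorem exists_centre {X : Scheme.{u}} {K : Type u} [Field K] (k : Spec (CommRingCat.of K) ⟶ X) {x : X}
    (h : k (IsLocalRing.closedPoint K) ⤳ x) :
    ∃ (O : ValuationSubring K) (l : Spec (CommRingCat.of O) ⟶ X),
      Spec.map (CommRingCat.ofHom O.subtype) ≫ l = k ∧ l (IsLocalRing.closedPoint O) = x := by
  let r : X.presheaf.stalk x ⟶ CommRingCat.of K := X.presheaf.stalkSpecializes h ≫ Scheme.stalkClosedPointTo k
  obtain ⟨A, hA, hA_local⟩ := IsLocalRing.exists_factor_valuationRing r.hom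
  let r' : X.presheaf.stalk x ⟶ CommRingCat.of A := CommRingCat.ofHom (r.hom.codRestrict A.toSubring hA)
  refine ⟨A, Spec.map r' ≫ X.fromSpecStalk x, ?_, ?_⟩
  · have e : r' ≫ CommRingCat.ofHom A.subtype = r := rfl
    rw [← Category.assoc, ← Spec.map_comp, e, Spec.map_comp, Category.assoc,
      Scheme.SpecMap_stalkSpecializes_fromSpecStalk, Scheme.Spec_stalkClosedPointTo_fromSpecStalk]
  · rw [Scheme.Hom.comp_apply]
    have : Spec.map r' (IsLocalRing.closedPoint A) = IsLocalRing.closedPoint (X.presheaf.stalk x) :=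
      IsLocalRing.comap_closedPoint (S := A) (r.hom.codRestrict A.toSubring hA)
    rw [this, X.fromSpecStalk_closedPoint]

theorem quasiSeparatedSpace_sigma {ι : Type u} [Finite ι] (Y : ι → Scheme.{u}) [∀ i, QuasiSeparatedSpace (Y i)] :
    QuasiSeparatedSpace ↥(∐ Y) := by
  refine ⟨fun U V hU hUc hV hVc => ?_⟩
  have key : U ∩ V = ⋃ i, Sigma.ι Y i '' (Sigma.ι Y i ⁻¹' U ∩ Sigma.ι Y i ⁻¹' V) := by
    ext x
    obtain ⟨i, y, rfl⟩ := (sigmaOpenCover Y).exists_eq x
    constructor
    · exact fun h => Set.mem_iUnion.2 ⟨i, y, h, rfl⟩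
    · rintro h
      obtain ⟨j, w, hw, e⟩ := Set.mem_iUnion.1 h
      exact e ▸ hw
  have hcl : ∀ i, IsClosed (Set.range (Sigma.ι Y i)) := by
    intro i
    rw [← isOpen_compl_iff]
    have : (Set.range (Sigma.ι Y i))ᶜ = ⋃ j ∈ {j | j ≠ i}, Set.range (Sigma.ι Y j) := by
      ext x
      obtain ⟨j, y, rfl⟩ := (sigmaOpenCover Y).exists_eq x
      simp only [Set.mem_compl_iff, Set.mem_iUnion, Set.mem_setOf_eq]
      constructor
      · intro h
        exact ⟨j, fun e => h (by subst e; exact ⟨y, rfl⟩), y, rfl⟩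
      · rintro ⟨j', hj', hx⟩ hi
        exact (disjoint_opensRange_sigmaι Y _ _ hj').le_bot ⟨hx, hi⟩
    rw [this]
    exact isOpen_biUnion fun j _ => (Sigma.ι Y j).isOpenEmbedding.isOpen_range
  rw [key]
  refine isCompact_iUnion fun i => IsCompact.image ?_ (Sigma.ι Y i).continuous
  have hpre : ∀ {A : Set ↥(∐ Y)}, IsCompact A → IsCompact (Sigma.ι Y i ⁻¹' A) := fun {A} hA => by
    refine (Sigma.ι Y i).isOpenEmbedding.isInducing.isCompact_iff.2 ?_
    rw [Set.image_preimage_eq_inter_range]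
    exact hA.inter_right (hcl i)
  exact QuasiSeparatedSpace.inter_isCompact _ _ (hU.preimage (Sigma.ι Y i).continuous) (hpre hUc)
    (hV.preimage (Sigma.ι Y i).continuous) (hpre hVc)

set_option maxHeartbeats 800000 in
open Groth.Agent.MorLib in
/-- The refinement over an affine base. -/
theorem exists_refinement [LocallyOfFinitePresentation f] [QuasiCompact f] (hf : Subtr.UnivSSubtrusive f) :
    ∃ (T : Type u) (_ : Finite T) (Y : Scheme.{u}) (q : Y ⟶ Spec (CommRingCat.of R))
      (O : T → Y.Opens) (h : ∀ t, (O t).toScheme ⟶ S'),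
      IsProper q ∧ Surjective q ∧ LocallyOfFinitePresentation q ∧ (∀ t, IsCompact (O t : Set Y)) ∧
      (∀ y, ∃ t, y ∈ O t) ∧ (∀ t, h t ≫ f = (O t).ι ≫ q) ∧
      ∃ (Z₀ : Scheme.{u}) (zZ : Z₀ ⟶ Spec (CommRingCat.of H23.PnLine.Z.{u}))
        (k : Y ⟶ pullback zZ (specULiftZIsTerminal.from (ValChart.S R))),
        IsProper zZ ∧ Surjective zZ ∧ IsClosedImmersion k ∧ k ≫ pullback.snd _ _ = q := by
  classical
  have : CompactSpace S' := QuasiCompact.compactSpace_of_compactSpace f
  -- the affine pieces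
  let 𝒰 := S'.affineCover.finiteSubcover
  have : ∀ i, IsAffine (𝒰.X i) := fun i => inferInstanceAs (IsAffine (S'.affineCover.X _))
  let B : 𝒰.I₀ → Type u := fun i => Γ(𝒰.X i, ⊤)
  let j : ∀ i, Spec (CommRingCat.of (B i)) ⟶ S' := fun i => (𝒰.X i).isoSpec.inv ≫ 𝒰.f i
  let alg : ∀ i, Algebra R (B i) := fun i => (Spec.preimage (j i ≫ f)).hom.toAlgebra
  have hj : ∀ i, j i ≫ f = Spec.map (CommRingCat.ofHom (algebraMap R (B i))) := fun i =>
    (Spec.map_preimage (j i ≫ f)).symm
  have hBfp : ∀ i, Algebra.FinitePresentation R (B i) := fun i => by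
    have : LocallyOfFinitePresentation (Spec.map (CommRingCat.ofHom (algebraMap R (B i)))) := hj i ▸ inferInstance
    exact RingHom.finitePresentation_algebraMap.1
      ((HasRingHomProperty.Spec_iff (P := @LocallyOfFinitePresentation)).1 this)
  -- integral points
  have hB : ∀ (O : Type u) [CommRing O] [IsDomain O] [ValuationRing O] [Algebra R O],
      IsAlgClosed (FractionRing O) → ∃ i, Nonempty (B i →ₐ[R] O) := by
    intro O _ _ _ _ _
    obtain ⟨V, _, _, _, a, b, hb, hab⟩ := (Groth.Agent.S14769.result f).1 hf O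
      (Spec.map (CommRingCat.ofHom (algebraMap R O)))
    obtain ⟨β, rfl⟩ := Spec.map_surjective b
    obtain ⟨i, u, hu⟩ := 𝒰.exists_eq (a (IsLocalRing.closedPoint V))
    have hr : Set.range a ⊆ Set.range (j i) := by
      rintro _ ⟨y, rfl⟩
      have h1 : y ⤳ IsLocalRing.closedPoint V := IsLocalRing.specializes_closedPoint y
      refine (h1.map a.continuous).mem_open (j i).isOpenEmbedding.isOpen_range ⟨(𝒰.X i).isoSpec.hom u, ?_⟩
      rw [← hu]
      show ((𝒰.X i).isoSpec.hom ≫ (𝒰.X i).isoSpec.inv ≫ 𝒰.f i) u = _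
      rw [Iso.hom_inv_id_assoc]
    obtain ⟨χ, hχ⟩ := Spec.map_surjective (IsOpenImmersion.lift (j i) a hr)
    let _ : Algebra O V := β.hom.toAlgebra
    let _ : Algebra (B i) V := χ.hom.toAlgebra
    have hcomm : CommRingCat.ofHom (algebraMap R (B i)) ≫ χ = CommRingCat.ofHom (algebraMap R O) ≫ β := by
      apply Spec.map_injective
      rw [Spec.map_comp, Spec.map_comp, hχ, ← hj, IsOpenImmersion.lift_fac_assoc, hab]
    have hinj : Function.Injective (algebraMap O V) := by
      obtain ⟨P, hP⟩ := hb.1 (⟨⊥, Ideal.isPrime_bot⟩ : PrimeSpectrum O)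
      rw [RingHom.injective_iff_ker_eq_bot, eq_bot_iff]
      intro x hx
      have hx' : x ∈ Ideal.comap β.hom (show PrimeSpectrum V from P).asIdeal := by
        rw [Ideal.mem_comap, show β.hom x = 0 from hx]
        exact zero_mem _
      rwa [show Ideal.comap β.hom (show PrimeSpectrum V from P).asIdeal = ⊥ from congrArg PrimeSpectrum.asIdeal hP] at hx'
    have hloc : IsLocalHom (algebraMap O V) := by
      obtain ⟨P, hP⟩ := hb.1 (IsLocalRing.closedPoint O)
      refine ((IsLocalRing.local_hom_TFAE β.hom).out 0 4).2 (le_antisymm ?_ ?_)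
      · exact IsLocalRing.le_maximalIdeal (Ideal.comap_ne_top _ (IsLocalRing.maximalIdeal.isMaximal V).ne_top)
      · rw [show IsLocalRing.maximalIdeal O = Ideal.comap β.hom (show PrimeSpectrum V from P).asIdeal from
          (congrArg PrimeSpectrum.asIdeal hP).symm]
        exact Ideal.comap_mono (IsLocalRing.le_maximalIdeal (show PrimeSpectrum V from P).isPrime.ne_top)
    let algV : Algebra R V := ((algebraMap O V).comp (algebraMap R O)).toAlgebra
    have : IsScalarTower R O V := .of_algebraMap_eq' rfl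
    let algOB : Algebra O (TensorProduct R O (B i)) := inferInstance
    let f₁ : TensorProduct R O (B i) →ₐ[O] V :=
      Algebra.TensorProduct.lift (Algebra.ofId O V)
        { χ.hom with commutes' := fun r => congr($hcomm r) } fun _ _ => .all _ _
    obtain ⟨θ⟩ := nonempty_algHom_of_valuationRing (FractionRing O) hinj f₁
    exact ⟨i, ⟨(θ.restrictScalars R).comp Algebra.TensorProduct.includeRight⟩⟩
  obtain ⟨T, hT⟩ := exists_finite_covers R B hB
  -- generators and coordinates
  have hgen : ∀ i, ∃ (n : ℕ) (g : Fin n → B i), Algebra.adjoin R (Set.range g) = ⊤ := fun i => by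
    obtain ⟨n, π, hπ⟩ := Algebra.FiniteType.iff_quotient_mvPolynomial''.1
      (inferInstance : Algebra.FiniteType R (B i))
    refine ⟨n, fun k => π (MvPolynomial.X k), ?_⟩
    rw [show (Set.range fun k => π (MvPolynomial.X k)) = π '' Set.range MvPolynomial.X from Set.range_comp π _,
      ← AlgHom.map_adjoin, MvPolynomial.adjoin_range_X, Algebra.map_top, AlgHom.range_eq_top]
    exact hπ
  choose n g hg using hgen
  choose c hc using fun (t : Sec R B) k => Ideal.Quotient.mk_surjective (t.ψ (g t.i k))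
  obtain ⟨Z₀, zZ, hZ₀p, hZ₀l, hZ₀s, z, hz, hq⟩ := exists_product n c T
  let Z := pullback zZ (specULiftZIsTerminal.from (ValChart.S R))
  let zS : Z ⟶ Spec (CommRingCat.of R) := pullback.snd _ _
  have hZp : IsProper zS := MorphismProperty.pullback_snd _ _ hZ₀p
  have hZl : LocallyOfFinitePresentation zS := MorphismProperty.pullback_snd _ _ hZ₀l
  change z ≫ zS = _ at hz
  choose q hqp hzq using hq
  -- the scheme theoretic image
  let X := z.image
  let t₀ := z.toImage
  let xi : X ⟶ Spec (CommRingCat.of R) := z.imageι ≫ zS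
  have : QuasiCompact z := by
    have : QuasiCompact (z ≫ zS) := by rw [hz]; infer_instance
    exact QuasiCompact.of_comp z zS
  have := LimMor.isSchDom_toImage z
  have hsurj : Function.Surjective xi := by
    intro p
    let ev := Pi.evalRingHom (fun p : PrimeSpectrum R => AlgebraicClosure p.asIdeal.ResidueField) p
    let w : PrimeSpectrum (GeomProd R) := ⟨RingHom.ker ev, RingHom.ker_isPrime _⟩
    refine ⟨t₀ w, ?_⟩
    rw [← Scheme.Hom.comp_apply, Scheme.Hom.toImage_imageι_assoc, hz]
    refine PrimeSpectrum.ext (Ideal.ext fun r => ?_)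
    show ev (algebraMap R (GeomProd R) r) = 0 ↔ r ∈ p.asIdeal
    show algebraMap R (AlgebraicClosure p.asIdeal.ResidueField) r = 0 ↔ _
    rw [IsScalarTower.algebraMap_apply R p.asIdeal.ResidueField (AlgebraicClosure p.asIdeal.ResidueField),
      map_eq_zero]
    exact Ideal.algebraMap_residueField_eq_zero
  let Ot : T → X.Opens := fun t => (z.imageι ≫ q t.1 t.2) ⁻¹ᵁ ValChart.O R (n t.1.i)
  -- the maps on the opens
  have hh : ∀ t : T, ∃ h : (Ot t).toScheme ⟶ S', h ≫ f = (Ot t).ι ≫ xi := by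
    intro ⟨t, ht⟩
    let qX := z.imageι ≫ q t ht
    let U := ValChart.O R (n t.i)
    let cl := IsOpenImmersion.lift U.ι (ValChart.pt (R := R) (1 : B t.i) (g t.i)) (ValChart.range_pt_one R _)
    have : IsClosedImmersion cl := ValChart.isClosedImmersion_lift (g t.i) (hg t.i)
    let a := qX.resLE U (qX ⁻¹ᵁ U) le_rfl
    have ha : a ≫ U.ι = (qX ⁻¹ᵁ U).ι ≫ qX := Scheme.Hom.resLE_comp_ι _ _
    let cpb := pullback.fst a cl
    let L := Localization.Away t.e
    let u : Spec (CommRingCat.of L) ⟶ Spec (CommRingCat.of (GeomProd R)) :=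
      Spec.map (CommRingCat.ofHom (algebraMap (GeomProd R) L))
    have : IsOpenImmersion u := IsOpenImmersion.of_isLocalization t.e
    have hur : Set.range u = (t₀ ⁻¹ᵁ (qX ⁻¹ᵁ U) : (Spec (CommRingCat.of (GeomProd R))).Opens) := by
      rw [← Scheme.Hom.comp_preimage, Scheme.Hom.toImage_imageι_assoc, hzq t ht, ValChart.pt_preimage]
      exact PrimeSpectrum.localization_away_comap_range L t.e
    let m₀ := IsOpenImmersion.isoOfRangeEq u (t₀ ⁻¹ᵁ (qX ⁻¹ᵁ U)).ι (by rw [hur, Scheme.Opens.range_ι])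
    have := LimMor.isSchDom_restrict t₀ (qX ⁻¹ᵁ U)
    let m := m₀.hom ≫ t₀ ∣_ (qX ⁻¹ᵁ U)
    have hm : m ≫ (qX ⁻¹ᵁ U).ι = u ≫ t₀ := by
      rw [Category.assoc, morphismRestrict_ι, IsOpenImmersion.isoOfRangeEq_hom_fac_assoc]
    have hmd : m.ker = ⊥ := Scheme.Hom.ker_eq_bot m
    let res : (GeomProd R ⧸ Ideal.span {1 - t.e}) →ₐ[R] L :=
      Ideal.Quotient.liftₐ _ (IsScalarTower.toAlgHom R (GeomProd R) L) (fun x hx => by
        obtain ⟨y, rfl⟩ := Ideal.mem_span_singleton'.1 hx
        have : algebraMap (GeomProd R) L (1 - t.e) = 0 := by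
          refine ((IsLocalization.Away.algebraMap_isUnit (S := L) t.e).mul_left_eq_zero).1 ?_
          rw [← map_mul, sub_mul, one_mul, t.idem, sub_self, map_zero]
        show algebraMap (GeomProd R) L (y * (1 - t.e)) = 0
        rw [map_mul, this, mul_zero])
    let k := Spec.map (CommRingCat.ofHom (res.comp t.ψ).toRingHom)
    have hmk : m ≫ a = k ≫ cl := by
      rw [← cancel_mono U.ι, Category.assoc m, Category.assoc k, ha, reassoc_of% hm, IsOpenImmersion.lift_fac]
      show u ≫ t₀ ≫ z.imageι ≫ q t ht = _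
      rw [Scheme.Hom.toImage_imageι_assoc, hzq t ht]
      have he1 : algebraMap (GeomProd R) L t.e = 1 := by
        refine (IsLocalization.Away.algebraMap_isUnit (S := L) t.e).mul_left_cancel ?_
        rw [← map_mul, t.idem, mul_one]
      have e₁ := ValChart.pt_natural (R := R) (IsScalarTower.toAlgHom R (GeomProd R) L) t.e (c t) 1
        (fun k => algebraMap (GeomProd R) L (c t k)) he1 (fun k => rfl)
      have e₂ := ValChart.pt_natural (R := R) (res.comp t.ψ) (1 : B t.i) (g t.i) 1
        (fun k => algebraMap (GeomProd R) L (c t k)) (map_one _) (fun k => by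
          congr 1
          show res (t.ψ (g t.i k)) = _
          rw [← hc t k]
          rfl)
      exact e₁.trans e₂.symm
    have hker : cpb.ker = ⊥ := by
      refine le_bot_iff.1 ?_
      refine (Scheme.Hom.le_ker_comp (pullback.lift m k hmk) cpb).trans ?_
      rw [pullback.lift_fst, hmd]
    have : IsIso cpb := IsClosedImmersion.isIso_iff_ker_eq_bot.2 hker
    refine ⟨inv cpb ≫ pullback.snd a cl ≫ j t.i, ?_⟩
    rw [Category.assoc, Category.assoc, hj, ← ValChart.pt_p (R := R) (1 : B t.i) (g t.i),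
      ← IsOpenImmersion.lift_fac U.ι (ValChart.pt (R := R) (1 : B t.i) (g t.i)) (ValChart.range_pt_one R _)]
    show inv cpb ≫ pullback.snd a cl ≫ (cl ≫ U.ι) ≫ _ = _
    rw [Category.assoc cl, ← pullback.condition_assoc, reassoc_of% ha, IsIso.inv_hom_id_assoc]
    show _ ≫ (z.imageι ≫ q t ht) ≫ _ = _ ≫ z.imageι ≫ zS
    rw [Category.assoc, hqp t ht]
  choose h hh using hh
  -- the opens cover
  have hcov : ∀ x : X, ∃ t, x ∈ Ot t := by
    intro x
    have : IsProper xi := inferInstance
    have : QuasiSeparatedSpace X := quasiSeparatedSpace_of_quasiSeparated xi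
    obtain ⟨w, -, hw⟩ := AffineNhd.exists_specializes_of_mem_closure_image t₀ ⊥ (y := x) (by
      rw [Opens.coe_bot, Set.compl_empty, Set.image_univ, t₀.denseRange.closure_range]
      trivial)
    let wi : Ideal (GeomProd R) := (show PrimeSpectrum (GeomProd R) from w).asIdeal
    have : wi.IsPrime := (show PrimeSpectrum (GeomProd R) from w).isPrime
    have := GeomProd.isMaximal_of_isPrime wi
    let K := wi.ResidueField
    let φ := algebraMap (GeomProd R) K
    have hφ : Function.Surjective φ := fun y => by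
      obtain ⟨y, rfl⟩ := wi.bijective_algebraMap_quotient_residueField.2 y
      obtain ⟨y, rfl⟩ := Ideal.Quotient.mk_surjective y
      exact ⟨y, rfl⟩
    let k : Spec (CommRingCat.of K) ⟶ X := Spec.map (CommRingCat.ofHom φ) ≫ t₀
    have hk : k (IsLocalRing.closedPoint K) ⤳ x := by
      have e : Spec.map (CommRingCat.ofHom φ) (IsLocalRing.closedPoint K) = w := by
        refine PrimeSpectrum.ext ?_
        show Ideal.comap φ (IsLocalRing.maximalIdeal K) = wi
        rw [IsLocalRing.maximalIdeal_eq_bot, ← RingHom.ker_eq_comap_bot]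
        exact Ideal.ker_algebraMap_residueField wi
      rw [Scheme.Hom.comp_apply, e]
      exact hw
    obtain ⟨V, l, hlk, hlx⟩ := exists_centre k hk
    obtain ⟨ρ, hρ⟩ := Spec.map_surjective (l ≫ xi)
    have hρ' : V.subtype.comp ρ.hom = φ.comp (algebraMap R (GeomProd R)) := by
      have : Spec.map (ρ ≫ CommRingCat.ofHom V.subtype) =
          Spec.map (CommRingCat.ofHom (algebraMap R (GeomProd R)) ≫ CommRingCat.ofHom φ) := by
        rw [Spec.map_comp, hρ, ← Category.assoc, hlk]
        show (Spec.map (CommRingCat.ofHom φ) ≫ t₀) ≫ z.imageι ≫ zS = _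
        rw [Category.assoc, Scheme.Hom.toImage_imageι_assoc, hz, ← Spec.map_comp]
      exact congrArg CommRingCat.Hom.hom (Spec.map_injective this)
    have hint : ∀ r : R, φ (algebraMap R (GeomProd R) r) ∈ V := fun r => by
      rw [← RingHom.comp_apply, ← hρ']; exact (ρ.hom r).2
    let π : Pt R := { K := K, φ := φ, surj := hφ, O := V, int := hint }
    obtain ⟨t, ht, hte, htc⟩ := hT π
    refine ⟨⟨t, ht⟩, ?_⟩
    let algV : Algebra R V := ρ.hom.toAlgebra
    let φK : GeomProd R →ₐ[R] K := { φ with commutes' := fun r => rfl }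
    let φbar : (GeomProd R ⧸ Ideal.span {1 - t.e}) →ₐ[R] K :=
      Ideal.Quotient.liftₐ _ φK fun y hy => by
        obtain ⟨y, rfl⟩ := Ideal.mem_span_singleton'.1 hy
        show φ (y * (1 - t.e)) = 0
        rw [map_mul, map_sub, map_one, show φ t.e = 1 from hte, sub_self, mul_zero]
    have hmem : ∀ b, φbar (t.ψ b) ∈ V := fun b => by
      obtain ⟨y, hy⟩ := Ideal.Quotient.mk_surjective (t.ψ b)
      rw [← hy]
      exact htc b y hy
    let incl : V →ₐ[R] K := { V.subtype with commutes' := fun r => congr($hρ' r) }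
    let χ : B t.i →ₐ[R] V :=
      { toFun := fun b => ⟨φbar (t.ψ b), hmem b⟩
        map_one' := Subtype.ext (by simp)
        map_mul' := fun a b => Subtype.ext (by simp)
        map_zero' := Subtype.ext (by simp)
        map_add' := fun a b => Subtype.ext (by simp)
        commutes' := fun r => Subtype.ext (by
          simp only [AlgHom.commutes]
          exact (congr($hρ' r)).symm) }
    let P' := ValChart.P R (n t.i)
    let p' := ValChart.p R (n t.i)
    let l₁ : Spec (CommRingCat.of V) ⟶ P' := l ≫ z.imageι ≫ q t ht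
    let l₂ : Spec (CommRingCat.of V) ⟶ P' := ValChart.pt (R := R) (1 : V) fun k => χ (g t.i k)
    let sK : Spec (CommRingCat.of K) ⟶ Spec (CommRingCat.of V) := Spec.map (CommRingCat.ofHom V.subtype)
    have hl₁ : l₁ ≫ p' = Spec.map ρ := by
      rw [hρ]
      show (l ≫ z.imageι ≫ q t ht) ≫ _ = l ≫ z.imageι ≫ zS
      simp only [Category.assoc]
      rw [hqp t ht]
    have hl₂ : l₂ ≫ p' = Spec.map ρ := ValChart.pt_p _ _
    have hgen : sK ≫ l₁ = sK ≫ l₂ := by
      have e₁ := ValChart.pt_natural (R := R) φK t.e (c t) 1 (fun k => φ (c t k)) hte (fun k => rfl)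
      have e₂ := ValChart.pt_natural (R := R) incl (1 : V) (fun k => χ (g t.i k)) 1 (fun k => φ (c t k))
        (map_one _) (fun k => by
          congr 1
          show φbar (t.ψ (g t.i k)) = φ (c t k)
          rw [← hc t k]
          rfl)
      show _ ≫ l ≫ z.imageι ≫ q t ht = _
      rw [reassoc_of% hlk]
      show (Spec.map (CommRingCat.ofHom φ) ≫ t₀) ≫ z.imageι ≫ q t ht = _
      rw [Category.assoc, Scheme.Hom.toImage_imageι_assoc, hzq t ht]
      exact e₁.trans e₂.symm
    let sq : ValuativeCommSq p' :=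
      { R := V, K := K, i₁ := sK ≫ l₁, i₂ := Spec.map ρ, commSq := ⟨by rw [Category.assoc, hl₁]; rfl⟩ }
    have hsub : Subsingleton sq.commSq.LiftStruct := IsSeparated.valuativeCriterion p' sq
    have heq : l₁ = l₂ := congrArg CommSq.LiftStruct.l
      (Subsingleton.elim (⟨l₁, rfl, hl₁⟩ : sq.commSq.LiftStruct) ⟨l₂, hgen.symm, hl₂⟩)
    show (z.imageι ≫ q t ht) x ∈ ValChart.O R (n t.i)
    rw [← hlx, ← Scheme.Hom.comp_apply]
    show l₁ (IsLocalRing.closedPoint V) ∈ ValChart.O R (n t.i)
    rw [heq]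
    show IsLocalRing.closedPoint V ∈ l₂ ⁻¹ᵁ ValChart.O R (n t.i)
    rw [ValChart.pt_preimage, PrimeSpectrum.basicOpen_one]
    trivial
  -- finitely presented approximation
  have : CompactSpace Z := QuasiCompact.compactSpace_of_compactSpace zS
  have : QuasiSeparatedSpace Z := quasiSeparatedSpace_of_quasiSeparated zS
  let I := z.ker
  let D : (IdealFG.Sub I)ᵒᵖ ⥤ Scheme.{u} := IdealFG.subDiagram zS I ⋙ Over.forget _
  let cD : Cone D := (Over.forget _).mapCone (IdealFG.subCone zS I)
  have : _root_.CategoryTheory.IsConnected (IdealFG.Sub I)ᵒᵖ := IsCofiltered.isConnected _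
  let hcD : IsLimit cD := isLimitOfPreserves (Over.forget _) (IdealFG.isLimitSubCone zS I)
  have : ∀ {A A' : (IdealFG.Sub I)ᵒᵖ} (e : A ⟶ A'), IsAffineHom (D.map e) := fun {A A'} e =>
    have := IdealFG.isClosedImmersion_map zS I e
    inferInstanceAs (IsAffineHom ((IdealFG.subDiagram zS I).map e).left)
  let ιD : ∀ A, D.obj A ⟶ Z := fun A => A.unop.1.subschemeι
  have hιD : ∀ A, cD.π.app A ≫ ιD A = z.imageι := fun A => Scheme.IdealSheafData.inclusion_subschemeι _
  have : ∀ A, CompactSpace (D.obj A) := fun A => QuasiCompact.compactSpace_of_compactSpace (ιD A)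
  have : ∀ A, QuasiSeparatedSpace (D.obj A) := fun A => quasiSeparatedSpace_of_quasiSeparated (ιD A)
  let OD : ∀ A, T → (D.obj A).Opens := fun A t => (ιD A ≫ q t.1 t.2) ⁻¹ᵁ ValChart.O R (n t.1.i)
  have hOD : ∀ A t, cD.π.app A ⁻¹ᵁ OD A t = Ot t := fun A t => by
    simp only [OD, Ot, ← Scheme.Hom.comp_preimage]
    rw [reassoc_of% hιD]
  obtain ⟨A₀⟩ : Nonempty (IdealFG.Sub I)ᵒᵖ := ⟨Opposite.op (Classical.arbitrary _)⟩
  obtain ⟨A₁, e₁, hA₁⟩ := exists_map_eq_top D cD hcD (⨆ t, OD A₀ t) (by
    rw [Scheme.Hom.preimage_iSup, eq_top_iff]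
    intro x _
    obtain ⟨t, ht⟩ := hcov x
    exact Opens.mem_iSup.2 ⟨t, (hOD A₀ t).symm ▸ ht⟩)
  have hι : ∀ {A A'} (e : A ⟶ A'), D.map e ≫ ιD A' = ιD A := fun {A A'} e =>
    Scheme.IdealSheafData.inclusion_subschemeι _
  have hcov₁ : ∀ y : D.obj A₁, ∃ t, y ∈ OD A₁ t := fun y => by
    have : y ∈ D.map e₁ ⁻¹ᵁ ⨆ t, OD A₀ t := by rw [hA₁]; trivial
    obtain ⟨t, ht⟩ := Opens.mem_iSup.1 (show D.map e₁ y ∈ ⨆ t, OD A₀ t from this)
    refine ⟨t, ?_⟩
    show (ιD A₁ ≫ q t.1 t.2) y ∈ ValChart.O R (n t.1.i)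
    rw [← hι e₁, Category.assoc, Scheme.Hom.comp_apply]
    exact ht
  have hOc : ∀ A t, IsCompact (OD A t : Set (D.obj A)) := fun A t => by
    have : IsProper (ιD A ≫ q t.1 t.2) := by
      have : IsProper ((ιD A ≫ q t.1 t.2) ≫ ValChart.p R (n t.1.i)) := by
        rw [Category.assoc, hqp t.1 t.2]; infer_instance
      exact IsProper.of_comp _ (ValChart.p R (n t.1.i))
    exact QuasiCompact.isCompact_preimage _ (ValChart.O R (n t.1.i)).isOpen (ValChart.isCompact_O R _)
  -- spread the maps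
  have hspread : ∀ t : T, ∃ (A : (IdealFG.Sub I)ᵒᵖ) (_ : A ⟶ A₁) (h' : (OD A t).toScheme ⟶ S'),
      h' ≫ f = (OD A t).ι ≫ ιD A ≫ zS := fun t => by
    let σ : (OD A₁ t).toScheme ⟶ D.obj A₁ := (OD A₁ t).ι
    have : CompactSpace (OD A₁ t).toScheme := isCompact_iff_compactSpace.1 (hOc A₁ t)
    have : QuasiSeparatedSpace (OD A₁ t).toScheme := (OD A₁ t).ι.isOpenEmbedding.quasiSeparatedSpace
    let τ : BC.diag D σ ⟶ (Functor.const _).obj (Spec (CommRingCat.of R)) :=
      BC.toBase D σ ≫ Functor.whiskerLeft (Over.forget A₁)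
        ({ app := fun A => ιD A ≫ zS
           naturality := fun A A' e => by
            show D.map e ≫ ιD A' ≫ zS = (ιD A ≫ zS) ≫ 𝟙 _
            rw [reassoc_of% (hι e), Category.comp_id] } :
          D ⟶ (Functor.const _).obj (Spec (CommRingCat.of R)))
    have sqW := isPullback_morphismRestrict (cD.π.app A₁) (OD A₁ t)
    let b : (cD.π.app A₁ ⁻¹ᵁ OD A₁ t).toScheme ⟶ S' := X.homOfLE (hOD A₁ t).le ≫ h t
    have hb : b ≫ f = (cD.π.app A₁ ⁻¹ᵁ OD A₁ t).ι ≫ xi := by
      rw [Category.assoc, hh, Scheme.homOfLE_ι_assoc]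
    obtain ⟨l, h₁, -, hl₂⟩ := Scheme.exists_π_app_comp_eq_of_locallyOfFinitePresentation (BC.diag D σ) τ f
      (BC.cone D σ (c := cD) sqW) (BC.isLimitCone D σ (c := cD) sqW hcD) b (by
        ext l : 2
        show BC.proj D σ (c := cD) sqW l ≫ pullback.snd σ (D.map l.hom) ≫ ιD l.left ≫ zS = b ≫ f
        rw [BC.proj_snd_assoc, hb, reassoc_of% hιD])
    refine ⟨l.left, l.hom, pullback.lift ((D.map l.hom).resLE (OD A₁ t) (OD l.left t) (by
        simp only [OD, ← Scheme.Hom.comp_preimage]
        rw [reassoc_of% (hι l.hom)])) (OD l.left t).ι (Scheme.Hom.resLE_comp_ι _ _) ≫ h₁, ?_⟩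
    rw [Category.assoc, hl₂]
    show pullback.lift _ _ _ ≫ pullback.snd σ (D.map l.hom) ≫ ιD l.left ≫ zS = _
    rw [pullback.lift_snd_assoc]
  choose AT eT hT' hhT using hspread
  obtain ⟨A, hA⟩ := IsCofiltered.inf_objs_exists (insert A₁ (Finset.univ.image AT))
  obtain ⟨e₀⟩ := hA (Finset.mem_insert_self A₁ _)
  have eA : ∀ t, Nonempty (A ⟶ AT t) := fun t =>
    hA (Finset.mem_insert_of_mem (Finset.mem_image_of_mem _ (Finset.mem_univ t)))
  refine ⟨T, inferInstance, D.obj A, ιD A ≫ zS, fun t => OD A t, fun t =>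
    (D.map (eA t).some).resLE (OD (AT t) t) (OD A t) (by
        simp only [OD, ← Scheme.Hom.comp_preimage]
        rw [reassoc_of% (hι (eA t).some)]) ≫ hT' t,
    inferInstance, ⟨fun p => ?_⟩, ?_, fun t => hOc A t, fun y => ?_, fun t => ?_,
    Z₀, zZ, ιD A, hZ₀p, hZ₀s, ?_, rfl⟩
  · obtain ⟨x, rfl⟩ := hsurj p
    refine ⟨cD.π.app A x, ?_⟩
    rw [← Scheme.Hom.comp_apply, reassoc_of% hιD]
    rfl
  · have := MorLib.IdealFG.lfp_subschemeι A.unop.2.2
    exact inferInstanceAs (LocallyOfFinitePresentation (A.unop.1.subschemeι ≫ zS))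
  · obtain ⟨t, ht⟩ := hcov₁ (D.map e₀ y)
    refine ⟨t, ?_⟩
    show (ιD A ≫ q t.1 t.2) y ∈ ValChart.O R (n t.1.i)
    rw [← hι e₀, Category.assoc, Scheme.Hom.comp_apply]
    exact ht
  · rw [Category.assoc, hhT, Scheme.Hom.resLE_comp_ι_assoc, reassoc_of% (hι (eA t).some)]
  · show IsClosedImmersion A.unop.1.subschemeι
    infer_instance

end Groth.Agent.SchDesc82.ValRefine
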