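import Groth.Agent.SchDesc82.UltraPoint
import Groth.Agent.DescLib.SubtrVal
import Groth.Agent.MorLib.OpenGeneralizing
import Groth.Agent.SchDesc82.ValRefine
import Mathlib.AlgebraicGeometry.Morphisms.UniversallyOpen

/-!
# Valuative criteria for universal openness and universal subtrusiveness, and their descent to stages
-/

universe u

set_option autoImplicit false
set_option backward.isDefEq.respectTransparency false
set_option backward.isDefEq.respectTransparency.types false

open CategoryTheory CategoryTheory.Limits AlgebraicGeometry Filter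

namespace Groth.Agent.SchDesc82.UltraVal

/-- Some point over `p` has a generization over `η`. -/
def SGenAt {S X : Scheme.{u}} (g : X ⟶ S) (p η : S) : Prop := ∃ x x' : X, x' ⤳ x ∧ g x = p ∧ g x' = η

/-- All points above the closure of `η` have generizations over `η`. -/
def SAllGen {S X : Scheme.{u}} (g : X ⟶ S) (η : S) : Prop := ∀ x : X, η ⤳ g x → ∃ x', x' ⤳ x ∧ g x' = η

section affine

variable {W : Type u} [CommRing W] {X : Scheme.{u}} (g : X ⟶ Spec (CommRingCat.of W))
  {D : X.Opens} (hD : IsAffineOpen D) {B : Type u} [CommRing B] [Algebra W B]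
  (j : Spec (CommRingCat.of B) ⟶ X) [IsOpenImmersion j] (hj : j ≫ g = Spec.map (CommRingCat.ofHom (algebraMap W B)))

include hj in
theorem apply_chart (z : Spec (CommRingCat.of B)) : g (j z) = PrimeSpectrum.comap (algebraMap W B) z := by
  rw [← Scheme.Hom.comp_apply, hj]
  rfl

include hj in
theorem genAt_iff (p η : PrimeSpectrum W) :
    GenAt B p.asIdeal η.asIdeal ↔ ∃ z z' : Spec (CommRingCat.of B), z' ⤳ z ∧ g (j z) = p ∧ g (j z') = η := by
  constructor
  · rintro ⟨Q, P, hQ, hP, hle, h1, h2⟩
    refine ⟨(⟨P, hP⟩ : PrimeSpectrum B), (⟨Q, hQ⟩ : PrimeSpectrum B), (PrimeSpectrum.le_iff_specializes _ _).1 hle, ?_, ?_⟩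
    · rw [apply_chart g j hj]; exact PrimeSpectrum.ext h2
    · rw [apply_chart g j hj]; exact PrimeSpectrum.ext h1
  · rintro ⟨(z : PrimeSpectrum B), (z' : PrimeSpectrum B), hz, h1, h2⟩
    rw [apply_chart g j hj] at h1 h2
    exact ⟨z'.asIdeal, z.asIdeal, z'.isPrime, z.isPrime, (PrimeSpectrum.le_iff_specializes z' z).2 hz,
      congrArg PrimeSpectrum.asIdeal h2, congrArg PrimeSpectrum.asIdeal h1⟩

include hj in
theorem allGen_iff (η : PrimeSpectrum W) :
    AllGen B η.asIdeal ↔ ∀ z : Spec (CommRingCat.of B), (η : Spec (CommRingCat.of W)) ⤳ g (j z) →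
      ∃ z', z' ⤳ z ∧ g (j z') = η := by
  constructor
  · intro h (z : PrimeSpectrum B) hz
    rw [apply_chart g j hj] at hz
    obtain ⟨Q, hQ, hle, h1⟩ := h z.asIdeal z.isPrime ((PrimeSpectrum.le_iff_specializes η _).2 hz)
    exact ⟨(⟨Q, hQ⟩ : PrimeSpectrum B), (PrimeSpectrum.le_iff_specializes _ _).1 hle, by
      rw [apply_chart g j hj]; exact PrimeSpectrum.ext h1⟩
  · intro h P hP hle
    obtain ⟨(z' : PrimeSpectrum B), hz', h1⟩ := h (⟨P, hP⟩ : PrimeSpectrum B) (by
      rw [apply_chart g j hj]; exact (PrimeSpectrum.le_iff_specializes η _).1 hle)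
    rw [apply_chart g j hj] at h1
    exact ⟨z'.asIdeal, z'.isPrime, (PrimeSpectrum.le_iff_specializes z' _).2 hz', congrArg PrimeSpectrum.asIdeal h1⟩

end affine

/-- An affine chart of finite presentation around a point. -/
theorem exists_chart {W : Type u} [CommRing W] {X : Scheme.{u}} (g : X ⟶ Spec (CommRingCat.of W))
    [LocallyOfFinitePresentation g] (x : X) :
    ∃ (B : Type u) (_ : CommRing B) (_ : Algebra W B) (_ : Algebra.FinitePresentation W B)
      (j : Spec (CommRingCat.of B) ⟶ X) (_ : IsOpenImmersion j),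
      j ≫ g = Spec.map (CommRingCat.ofHom (algebraMap W B)) ∧ x ∈ j.opensRange := by
  obtain ⟨D, hD, hxD, -⟩ := exists_isAffineOpen_mem_and_subset (x := x) (U := ⊤) trivial
  let φ := Spec.preimage (hD.fromSpec ≫ g)
  letI : Algebra W Γ(X, D) := φ.hom.toAlgebra
  have hφ : hD.fromSpec ≫ g = Spec.map φ := (Spec.map_preimage _).symm
  have h1 : LocallyOfFinitePresentation (Spec.map φ) := hφ ▸ inferInstance
  exact ⟨Γ(X, D), inferInstance, inferInstance, RingHom.finitePresentation_algebraMap.1
    ((HasRingHomProperty.Spec_iff (P := @LocallyOfFinitePresentation)).1 h1), hD.fromSpec, inferInstance, hφ,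
    by rw [hD.opensRange_fromSpec]; exact hxD⟩

section pi

variable {ι : Type u} (V : ι → Type u) [∀ i, CommRing (V i)] [∀ i, IsDomain (V i)] [∀ i, ValuationRing (V i)]
  (U : Ultrafilter ι) {X : Scheme.{u}} (g : X ⟶ Spec (CommRingCat.of (∀ i, V i))) [LocallyOfFinitePresentation g]

theorem isPrime_closed : (closed V U).IsPrime := by
  refine ⟨fun h => ?_, fun {a b} hab => ?_⟩
  · obtain ⟨i, hi⟩ := ((mem_closed V U).1 ((Ideal.eq_top_iff_one _).1 h)).exists
    exact hi isUnit_one
  · rw [mem_closed, mem_closed, ← Ultrafilter.eventually_or]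
    exact ((mem_closed V U).1 hab).mono fun i h => not_and_or.1 fun h' => h (h'.1.mul h'.2)

/-- The generic point. -/
def genSpec : PrimeSpectrum (∀ i, V i) := ⟨gen V U, isPrime_gen V U⟩

/-- The closed point. -/
def closedSpec : PrimeSpectrum (∀ i, V i) := ⟨closed V U, isPrime_closed V U⟩

theorem eventually_sGenAt (h : SGenAt g (closedSpec V U) (genSpec V U)) :
    ∀ᶠ i in (U : Filter ι), SGenAt g (⟨closedPt V i, inferInstance⟩ : PrimeSpectrum (∀ i, V i))
      (⟨genPt V i, inferInstance⟩ : PrimeSpectrum (∀ i, V i)) := by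
  obtain ⟨x, x', hx, h1, h2⟩ := h
  obtain ⟨B, _, _, _, j, _, hj, z, hz⟩ := exists_chart g x
  obtain ⟨z', hz'⟩ : x' ∈ Set.range j := hx.mem_open j.isOpenEmbedding.isOpen_range ⟨z, hz⟩
  subst hz hz'
  have hzz := (j.isOpenEmbedding.isInducing.specializes_iff).1 hx
  refine (eventually_genAt V U B ((genAt_iff g j hj _ _).2 ⟨z, z', hzz, h1, h2⟩)).mono fun i hi => ?_
  obtain ⟨w, w', hw, e1, e2⟩ := (genAt_iff g j hj ⟨closedPt V i, inferInstance⟩ ⟨genPt V i, inferInstance⟩).1 hi
  exact ⟨j w, j w', hw.map j.continuous, e1, e2⟩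

theorem eventually_sAllGen [QuasiCompact g] (h : SAllGen g (genSpec V U)) :
    ∀ᶠ i in (U : Filter ι), SAllGen g (⟨genPt V i, inferInstance⟩ : PrimeSpectrum (∀ i, V i)) := by
  haveI : CompactSpace X := QuasiCompact.compactSpace_of_compactSpace g
  choose B iR iA iF j iO hj hx using fun x => exists_chart g x
  obtain ⟨s, hs⟩ := isCompact_univ.elim_finite_subcover (fun x => Set.range (j x))
    (fun x => (j x).isOpenEmbedding.isOpen_range) fun x _ => Set.mem_iUnion.2 ⟨x, hx x⟩
  have hev : ∀ᶠ i in (U : Filter ι), ∀ x ∈ s, AllGen (B x) (genPt V i) := (eventually_all_finset s).2 fun x _ =>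
    eventually_allGen V U (B x) ((allGen_iff g (j x) (hj x) (genSpec V U)).2 fun z hz => by
      obtain ⟨x', hx', e⟩ := h (j x z) hz
      obtain ⟨z', rfl⟩ : x' ∈ Set.range (j x) := hx'.mem_open (j x).isOpenEmbedding.isOpen_range ⟨z, rfl⟩
      exact ⟨z', ((j x).isOpenEmbedding.isInducing.specializes_iff).1 hx', e⟩)
  refine hev.mono fun i hi y hy => ?_
  obtain ⟨x, hxs, z, rfl⟩ := Set.mem_iUnion₂.1 (hs (Set.mem_univ y))
  obtain ⟨z', hz', e⟩ := (allGen_iff g (j x) (hj x) ⟨genPt V i, inferInstance⟩).1 (hi x hxs) z hy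
  exact ⟨j x z', hz'.map (j x).continuous, e⟩

end pi

theorem exists_pair {S S' X X' : Scheme.{u}} {g : X ⟶ S} {g' : X' ⟶ S'} {v : X' ⟶ X} {u : S' ⟶ S}
    (sq : IsPullback v g' g u) (x : X) (p : S') (h : g x = u p) : ∃ z, v z = x ∧ g' z = p := by
  obtain ⟨w, h1, h2⟩ := Scheme.Pullback.exists_preimage_pullback x p h
  exact ⟨sq.isoPullback.inv w, by rw [← Scheme.Hom.comp_apply, sq.isoPullback_inv_fst, h1],
    by rw [← Scheme.Hom.comp_apply, sq.isoPullback_inv_snd, h2]⟩

section transfer

variable {S S' X X' : Scheme.{u}} {g : X ⟶ S} {g' : X' ⟶ S'} {v : X' ⟶ X} {u : S' ⟶ S}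

theorem sGenAt_iff_of_isClosedImmersion (sq : IsPullback v g' g u) [IsClosedImmersion u] (p η : S') :
    SGenAt g' p η ↔ SGenAt g (u p) (u η) := by
  haveI : IsClosedImmersion v := MorphismProperty.of_isPullback sq.flip ‹_›
  constructor
  · rintro ⟨x, x', hx, rfl, rfl⟩
    exact ⟨v x, v x', hx.map v.continuous, by rw [← Scheme.Hom.comp_apply, sq.w, Scheme.Hom.comp_apply],
      by rw [← Scheme.Hom.comp_apply, sq.w, Scheme.Hom.comp_apply]⟩
  · rintro ⟨x, x', hx, h1, h2⟩
    obtain ⟨z, rfl, hz⟩ := exists_pair sq x p h1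
    obtain ⟨z', rfl, hz'⟩ := exists_pair sq x' η h2
    exact ⟨z, z', v.isClosedEmbedding.isInducing.specializes_iff.1 hx, hz, hz'⟩

theorem sAllGen_iff_of_isClosedImmersion (sq : IsPullback v g' g u) [IsClosedImmersion u] (η : S') :
    SAllGen g' η ↔ SAllGen g (u η) := by
  haveI : IsClosedImmersion v := MorphismProperty.of_isPullback sq.flip ‹_›
  constructor
  · intro h x hx
    obtain ⟨p, hp⟩ : g x ∈ Set.range u := hx.mem_closed u.isClosedEmbedding.isClosed_range ⟨η, rfl⟩
    obtain ⟨z, rfl, hz⟩ := exists_pair sq x p hp.symm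
    obtain ⟨z', hz', e⟩ := h z (u.isClosedEmbedding.isInducing.specializes_iff.1 (by rw [hz, hp]; exact hx))
    exact ⟨v z', hz'.map v.continuous, by rw [← Scheme.Hom.comp_apply, sq.w, Scheme.Hom.comp_apply, e]⟩
  · intro h x hx
    obtain ⟨x', hx', e⟩ := h (v x) (by
      rw [← Scheme.Hom.comp_apply, sq.w, Scheme.Hom.comp_apply]; exact hx.map u.continuous)
    obtain ⟨z', rfl, hz'⟩ := exists_pair sq x' η e
    exact ⟨z', v.isClosedEmbedding.isInducing.specializes_iff.1 hx', hz'⟩

theorem sGenAt_congr (sq : IsPullback v g' g u) [IsIso u] (p η : S') : SGenAt g' p η ↔ SGenAt g (u p) (u η) :=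
  sGenAt_iff_of_isClosedImmersion sq p η

end transfer

section val

variable {X Y : Scheme.{u}} (f : X ⟶ Y)

/-- The valuative criterion for the lifting of pairs. -/
theorem univSSubtrusive_iff_sGenAt :
    Subtr.UnivSSubtrusive f ↔ ∀ (V : Type u) [CommRing V] [IsDomain V] [ValuationRing V]
      (g : Spec (CommRingCat.of V) ⟶ Y),
      SGenAt (pullback.snd f g) (IsLocalRing.closedPoint V) (DescLib.etaPt V) := by
  rw [DescLib.univSSubtrusive_iff_valuationRing]
  refine forall₅_congr fun V _ _ _ g => ?_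
  exact ((DescLib.tfae_over_valuationRing (pullback.snd f g)).out 1 3 rfl rfl)

/-- The valuative criterion for universal openness. -/
theorem universallyOpen_iff_sAllGen [LocallyOfFinitePresentation f] :
    UniversallyOpen f ↔ ∀ (V : Type u) [CommRing V] [IsDomain V] [ValuationRing V]
      (g : Spec (CommRingCat.of V) ⟶ Y), SAllGen (pullback.snd f g) (DescLib.etaPt V) := by
  refine ⟨fun _ V _ _ _ g x _ => ?_, fun h => ⟨MorphismProperty.universally_mk' _ _ fun {Y'} b _ => ?_⟩⟩
  · haveI : UniversallyOpen (pullback.snd f g) := MorphismProperty.pullback_snd f g inferInstance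
    obtain ⟨x', hx', e⟩ := MorLib.generalizingMap_of_isOpenMap (pullback.snd f g) (pullback.snd f g).isOpenMap
      (DescLib.eta_specializes (pullback.snd f g x))
    exact ⟨x', hx', e⟩
  · haveI : LocallyOfFinitePresentation (pullback.fst b f) := MorphismProperty.pullback_fst b f inferInstance
    refine isOpenMap_of_generalizingMap _ fun x z hz => ?_
    obtain ⟨O, l, hl, hlc⟩ := ValRefine.exists_centre (Y'.fromSpecResidueField z)
      (x := pullback.fst b f x) (by erw [Scheme.fromSpecResidueField_apply]; exact hz)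
    have hgen : l (DescLib.etaPt O) = z := by
      have h1 : Spec.map (CommRingCat.ofHom O.subtype) (IsLocalRing.closedPoint (Y'.residueField z)) = DescLib.etaPt O := by
        refine PrimeSpectrum.ext ?_
        show (IsLocalRing.maximalIdeal (Y'.residueField z)).comap O.subtype = ⊥
        rw [IsLocalRing.maximalIdeal_eq_bot]
        exact (RingHom.ker_eq_comap_bot _).symm.trans ((RingHom.injective_iff_ker_eq_bot _).1 Subtype.val_injective)
      rw [← h1, ← Scheme.Hom.comp_apply, hl]
      exact Scheme.fromSpecResidueField_apply _ _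
    have sq : IsPullback (pullback.snd (pullback.fst b f) l) (pullback.fst (pullback.fst b f) l) l (pullback.fst b f) :=
      (IsPullback.of_hasPullback (pullback.fst b f) l).flip
    have sq' := sq.flip.paste_horiz (IsPullback.of_hasPullback b f).flip
    obtain ⟨p, hp1, hp2⟩ := exists_pair sq.flip x (IsLocalRing.closedPoint O) hlc.symm
    let i := sq'.isoPullback
    obtain ⟨p', hp', e⟩ := h O (l ≫ b) (i.hom p) (DescLib.eta_specializes _)
    have e' : pullback.snd (pullback.fst b f) l (i.inv p') = DescLib.etaPt O := by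
      rw [← Scheme.Hom.comp_apply]
      erw [sq'.isoPullback_inv_snd]
      exact e
    refine ⟨pullback.fst (pullback.fst b f) l (i.inv p'), ?_, ?_⟩
    · rw [← hp1]
      refine (Specializes.map ?_ (pullback.fst (pullback.fst b f) l).continuous)
      have := hp'.map i.inv.continuous
      rwa [← Scheme.Hom.comp_apply i.hom, Iso.hom_inv_id] at this
    · rw [← Scheme.Hom.comp_apply, pullback.condition, Scheme.Hom.comp_apply, e', hgen]

end val

end Groth.Agent.SchDesc82.UltraVal
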