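import Groth.Agent.SchDesc82.UltraVal
import Mathlib.AlgebraicGeometry.AffineScheme
import Mathlib.AlgebraicGeometry.Morphisms.Affine
import Mathlib.CategoryTheory.Filtered.Basic

/-!
# Valuative points of a limit from valuative points of the stages
-/

universe u

set_option autoImplicit false
set_option backward.isDefEq.respectTransparency false
set_option backward.isDefEq.respectTransparency.types false

open CategoryTheory CategoryTheory.Limits AlgebraicGeometry Filter

namespace Groth.Agent.SchDesc82.UltraVal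

variable {ι : Type u} (V : ι → Type u) [∀ i, CommRing (V i)] [∀ i, IsDomain (V i)] [∀ i, ValuationRing (V i)]
  (U : Ultrafilter ι)

section hom

variable {A : Type u} [CommRing A] (p : ι → Prop) (φ : ∀ i, p i → (A →+* V i))

open scoped Classical in
/-- A family extended by zero. -/
noncomputable def ext0 (a : A) : ∀ i, V i := fun i => if h : p i then φ i h a else 0

theorem ext0_apply (a : A) {i : ι} (h : p i) : ext0 V p φ a i = φ i h a := by
  classical
  exact dif_pos h

/-- The map to the ultraproduct of an eventually defined family. -/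
noncomputable def ultraHom (hp : ∀ᶠ i in (U : Filter ι), p i) : A →+* ((∀ i, V i) ⧸ gen V U) where
  toFun a := Ideal.Quotient.mk _ (ext0 V p φ a)
  map_one' := by
    rw [← map_one (Ideal.Quotient.mk (gen V U)), Ideal.Quotient.eq, mem_gen]
    exact hp.mono fun i h => by rw [Pi.sub_apply, ext0_apply V p φ _ h, map_one, Pi.one_apply, sub_self]
  map_mul' a b := by
    rw [← map_mul, Ideal.Quotient.eq, mem_gen]
    exact hp.mono fun i h => by
      rw [Pi.sub_apply, Pi.mul_apply, ext0_apply V p φ _ h, ext0_apply V p φ _ h, ext0_apply V p φ _ h, map_mul, sub_self]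
  map_zero' := by
    rw [← map_zero (Ideal.Quotient.mk (gen V U)), Ideal.Quotient.eq, mem_gen]
    exact hp.mono fun i h => by rw [Pi.sub_apply, ext0_apply V p φ _ h, map_zero, Pi.zero_apply, sub_self]
  map_add' a b := by
    rw [← map_add, Ideal.Quotient.eq, mem_gen]
    exact hp.mono fun i h => by
      rw [Pi.sub_apply, Pi.add_apply, ext0_apply V p φ _ h, ext0_apply V p φ _ h, ext0_apply V p φ _ h, map_add, sub_self]

variable {B : Type u} [CommRing B] (q : ι → Prop) (χ : ∀ i, q i → (B →+* V i))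

theorem ultraHom_comp (hp : ∀ᶠ i in (U : Filter ι), p i) (hq : ∀ᶠ i in (U : Filter ι), q i) (α : B →+* A)
    (h : ∀ᶠ i in (U : Filter ι), ∀ (h₁ : p i) (h₂ : q i), (φ i h₁).comp α = χ i h₂) :
    (ultraHom V U p φ hp).comp α = ultraHom V U q χ hq :=
  RingHom.ext fun b => Ideal.Quotient.eq.2 ((mem_gen V U).2 ((hp.and (hq.and h)).mono fun i hi => by
    rw [Pi.sub_apply, ext0_apply V p φ _ hi.1, ext0_apply V q χ _ hi.2.1, ← hi.2.2 hi.1 hi.2.1,
      RingHom.comp_apply, sub_self]))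

theorem ultraHom_pi (hp : ∀ᶠ i in (U : Filter ι), p i) (χ : ∀ i, B →+* V i) (α : B →+* A)
    (h : ∀ᶠ i in (U : Filter ι), ∀ h₁ : p i, (φ i h₁).comp α = χ i) :
    (ultraHom V U p φ hp).comp α = (Ideal.Quotient.mk (gen V U)).comp (RingHom.pi χ) :=
  RingHom.ext fun b => Ideal.Quotient.eq.2 ((mem_gen V U).2 ((hp.and h).mono fun i hi => by
    rw [Pi.sub_apply, ext0_apply V p φ _ hi.1, ← RingHom.comp_apply, hi.2 hi.1]
    exact sub_self _))

end hom

/-- Valuative points of the stages of a limit over a quasi-compact scheme give a valuative point of the limit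
which is the ultraproduct of them on the base. -/
theorem exists_ultra_point {J : Type u} [Category.{u} J] [IsCofiltered J] {E : J ⥤ Scheme.{u}} {cE : Cone E}
    (hc : IsLimit cE) {Y₀ : Scheme.{u}} [CompactSpace Y₀] (e : E ⟶ (Functor.const J).obj Y₀)
    (he : ∀ j, IsAffineHom (e.app j)) (V : J → Type u) [∀ j, CommRing (V j)] [∀ j, IsDomain (V j)]
    [∀ j, ValuationRing (V j)] (t : ∀ j, Spec (CommRingCat.of (V j)) ⟶ E.obj j) :
    ∃ (ι : Type u) (U : Ultrafilter ι) (k : ι → J)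
      (s : Spec (CommRingCat.of (∀ i, V (k i))) ⟶ Y₀)
      (τ : Spec (CommRingCat.of ((∀ i, V (k i)) ⧸ gen (fun i => V (k i)) U)) ⟶ cE.pt),
      (∀ i, Spec.map (CommRingCat.ofHom (Pi.evalRingHom (fun i => V (k i)) i)) ≫ s = t (k i) ≫ e.app (k i)) ∧
      ∀ j, Spec.map (CommRingCat.ofHom (Ideal.Quotient.mk (gen (fun i => V (k i)) U))) ≫ s =
        τ ≫ cE.π.app j ≫ e.app j := by
  classical
  -- finite subdiagrams
  let M : Type u := Σ (X Y : J), (X ⟶ Y)
  let ι₀ : Type u := Finset J × Finset M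
  let O : ι₀ → Finset J := fun F => F.1 ∪ (F.2.image (fun a => a.1) ∪ F.2.image fun a => a.2.1)
  let H : ∀ F : ι₀, Finset (Σ' (X Y : J) (_ : X ∈ O F) (_ : Y ∈ O F), X ⟶ Y) := fun F =>
    F.2.attach.image fun a => ⟨a.1.1, a.1.2.1,
      Finset.mem_union_right _ (Finset.mem_union_left _ (Finset.mem_image_of_mem _ a.2)),
      Finset.mem_union_right _ (Finset.mem_union_right _ (Finset.mem_image_of_mem _ a.2)), a.1.2.2⟩
  let j₀ : ι₀ → J := fun F => IsCofiltered.inf (O F) (H F)
  let U₀ : Ultrafilter ι₀ := Ultrafilter.of atTop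
  have hU₀ : (U₀ : Filter ι₀) ≤ atTop := Ultrafilter.of_le _
  -- the piece containing almost all closed points
  let pt : ι₀ → Y₀ := fun F => (t (j₀ F) ≫ e.app (j₀ F)) (IsLocalRing.closedPoint (V (j₀ F)))
  obtain ⟨K, hK⟩ := isCompact_univ.elim_finite_subcover (fun P : Y₀.affineOpens => (P.1 : Set Y₀)) (fun P => P.1.2)
    fun y _ => by
      obtain ⟨P, hP, hyP, -⟩ := exists_isAffineOpen_mem_and_subset (x := y) (U := ⊤) trivial
      exact Set.mem_iUnion.2 ⟨⟨P, hP⟩, hyP⟩
  obtain ⟨P, -, hP⟩ : ∃ P ∈ (K : Set Y₀.affineOpens), ∀ᶠ F in (U₀ : Filter ι₀), pt F ∈ P.1 :=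
    (Ultrafilter.eventually_exists_mem_iff K.finite_toSet).1 (Eventually.of_forall fun F => by
      obtain ⟨P, hP, h⟩ := Set.mem_iUnion₂.1 (hK (Set.mem_univ (pt F)))
      exact ⟨P, hP, h⟩)
  let ι : Type u := {F : ι₀ // pt F ∈ P.1}
  let U : Ultrafilter ι := U₀.comap (m := Subtype.val) Subtype.val_injective (by rw [Subtype.range_coe_subtype]; exact hP)
  have hU : ∀ (p : ι₀ → Prop), (∀ᶠ F in (atTop : Filter ι₀), p F) → ∀ᶠ i in (U : Filter ι), p i.1 := fun p hp => by
    rw [Ultrafilter.coe_comap]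
    exact Eventually.comap (hU₀ hp) Subtype.val
  let k : ι → J := fun i => j₀ i.1
  -- the base
  have hlift : ∀ i : ι, Set.range (t (k i) ≫ e.app (k i)) ⊆ Set.range P.2.fromSpec := fun i => by
    rintro _ ⟨z, rfl⟩
    rw [P.2.range_fromSpec]
    exact ((IsLocalRing.specializes_closedPoint z).map (t (k i) ≫ e.app (k i)).continuous).mem_open P.1.2 i.2
  choose φ hφ using fun i : ι => Spec.map_surjective (IsOpenImmersion.lift P.2.fromSpec (t (k i) ≫ e.app (k i)) (hlift i))
  have hφ' : ∀ i, Spec.map (φ i) ≫ P.2.fromSpec = t (k i) ≫ e.app (k i) := fun i => by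
    rw [hφ, IsOpenImmersion.lift_fac]
  let χ : ∀ i, Γ(Y₀, P.1) →+* V (k i) := fun i => (φ i).hom
  let s : Spec (CommRingCat.of (∀ i, V (k i))) ⟶ Y₀ := Spec.map (CommRingCat.ofHom (RingHom.pi χ)) ≫ P.2.fromSpec
  have hs : ∀ i, Spec.map (CommRingCat.ofHom (Pi.evalRingHom (fun i => V (k i)) i)) ≫ s = t (k i) ≫ e.app (k i) :=
    fun i => by
      rw [← hφ', ← Category.assoc, ← Spec.map_comp]
      rfl
  -- the stages
  have hQ : ∀ j, IsAffineOpen (e.app j ⁻¹ᵁ P.1) := fun j => (he j).isAffine_preimage P.1 P.2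
  let p : J → ι → Prop := fun j i => j ∈ O i.1
  have hp : ∀ j, ∀ᶠ i in (U : Filter ι), p j i := fun j => hU (fun F => j ∈ O F)
    ((eventually_ge_atTop (({j}, ∅) : ι₀)).mono fun F hF => Finset.mem_union_left _ (hF.1 (Finset.mem_singleton_self j)))
  have hnat : ∀ {j j' : J} (a : j ⟶ j'), E.map a ≫ e.app j' = e.app j := fun a => (e.naturality a).trans (Category.comp_id _)
  have hliftj : ∀ j (i : ι) (h : p j i),
      Set.range (t (k i) ≫ E.map (IsCofiltered.infTo (O i.1) (H i.1) h)) ⊆ Set.range (hQ j).fromSpec := fun j i h => by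
    rintro _ ⟨z, rfl⟩
    rw [(hQ j).range_fromSpec]
    show e.app j ((t (k i) ≫ E.map _) z) ∈ P.1
    rw [← Scheme.Hom.comp_apply, Category.assoc]
    erw [hnat]
    exact (P.2.range_fromSpec ▸ hlift i) ⟨z, rfl⟩
  choose φj hφj using fun j (i : ι) (h : p j i) => Spec.map_surjective (IsOpenImmersion.lift (hQ j).fromSpec _ (hliftj j i h))
  have hφj' : ∀ j i h, Spec.map (φj j i h) ≫ (hQ j).fromSpec = t (k i) ≫ E.map (IsCofiltered.infTo (O i.1) (H i.1) h) :=
    fun j i h => by rw [hφj, IsOpenImmersion.lift_fac]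
  let ψ : ∀ j, CommRingCat.of Γ(E.obj j, e.app j ⁻¹ᵁ P.1) ⟶
      CommRingCat.of ((∀ i, V (k i)) ⧸ gen (fun i => V (k i)) U) :=
    fun j => CommRingCat.ofHom (ultraHom (fun i => V (k i)) U (p j) (fun i h => (φj j i h).hom) (hp j))
  have hcompat : ∀ {j j' : J} (a : j ⟶ j'), (Spec.map (ψ j) ≫ (hQ j).fromSpec) ≫ E.map a = Spec.map (ψ j') ≫ (hQ j').fromSpec := by
    intro j j' a
    have hr : Set.range ((hQ j).fromSpec ≫ E.map a) ⊆ Set.range (hQ j').fromSpec := by
      rintro _ ⟨z, rfl⟩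
      rw [(hQ j').range_fromSpec]
      have hz : (hQ j).fromSpec z ∈ e.app j ⁻¹ᵁ P.1 := (hQ j).range_fromSpec.le ⟨z, rfl⟩
      show e.app j' (((hQ j).fromSpec ≫ E.map a) z) ∈ P.1
      rw [← Scheme.Hom.comp_apply, Category.assoc, hnat]
      exact hz
    obtain ⟨α, hα⟩ := Spec.map_surjective (IsOpenImmersion.lift (hQ j').fromSpec _ hr)
    have hα' : Spec.map α ≫ (hQ j').fromSpec = (hQ j).fromSpec ≫ E.map a := by rw [hα, IsOpenImmersion.lift_fac]
    have hev : ∀ᶠ i in (U : Filter ι), ∀ (h₁ : p j i) (h₂ : p j' i), (φj j i h₁).hom.comp α.hom = (φj j' i h₂).hom := by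
      refine (hU (fun F => (⟨j, j', a⟩ : M) ∈ F.2) ((eventually_ge_atTop ((∅, {⟨j, j', a⟩}) : ι₀)).mono fun F hF =>
        hF.2 (Finset.mem_singleton_self _))).mono fun i hi h₁ h₂ => ?_
      have hH : (⟨j, j', h₁, h₂, a⟩ : Σ' (X Y : J) (_ : X ∈ O i.1) (_ : Y ∈ O i.1), X ⟶ Y) ∈ H i.1 :=
        Finset.mem_image.2 ⟨⟨_, hi⟩, Finset.mem_attach _ _, rfl⟩
      have h3 : α ≫ φj j i h₁ = φj j' i h₂ := Spec.map_injective (by
        rw [← cancel_mono (hQ j').fromSpec, Spec.map_comp, Category.assoc, hα', ← Category.assoc, hφj', hφj',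
          Category.assoc, ← E.map_comp, IsCofiltered.infTo_commutes _ _ h₁ h₂ hH])
      rw [← CommRingCat.hom_comp, h3]
    have h4 : α ≫ ψ j = ψ j' := CommRingCat.hom_ext (ultraHom_comp (fun i => V (k i)) U _ _ _ _ (hp j) (hp j') α.hom hev)
    rw [Category.assoc, ← hα', ← Category.assoc, ← Spec.map_comp, h4]
  let τc : Cone E :=
    { pt := Spec (CommRingCat.of ((∀ i, V (k i)) ⧸ gen (fun i => V (k i)) U))
      π := { app := fun j => Spec.map (ψ j) ≫ (hQ j).fromSpec
             naturality := fun j j' a => (Category.id_comp _).trans (hcompat a).symm } }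
  refine ⟨ι, U, k, s, hc.lift τc, hs, fun j => ?_⟩
  have hr : Set.range ((hQ j).fromSpec ≫ e.app j) ⊆ Set.range P.2.fromSpec := by
    rintro _ ⟨z, rfl⟩
    rw [P.2.range_fromSpec]
    exact (hQ j).range_fromSpec.le ⟨z, rfl⟩
  obtain ⟨β, hβ⟩ := Spec.map_surjective (IsOpenImmersion.lift P.2.fromSpec _ hr)
  have hβ' : Spec.map β ≫ P.2.fromSpec = (hQ j).fromSpec ≫ e.app j := by rw [hβ, IsOpenImmersion.lift_fac]
  have h5 : β ≫ ψ j = CommRingCat.ofHom ((Ideal.Quotient.mk (gen (fun i => V (k i)) U)).comp (RingHom.pi χ)) := by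
    refine CommRingCat.hom_ext (ultraHom_pi (fun i => V (k i)) U _ _ (hp j) χ β.hom (Eventually.of_forall fun i h => ?_))
    have h6 : β ≫ φj j i h = φ i := Spec.map_injective (by
      rw [← cancel_mono P.2.fromSpec, Spec.map_comp, Category.assoc, hβ', ← Category.assoc, hφj', hφ', Category.assoc]
      erw [hnat])
    exact congrArg CommRingCat.Hom.hom h6
  rw [← Category.assoc (hc.lift τc), hc.fac]
  show _ = (Spec.map (ψ j) ≫ (hQ j).fromSpec) ≫ e.app j
  rw [Category.assoc, ← hβ', ← Category.assoc (Spec.map (ψ j)), ← Spec.map_comp, h5, ← Category.assoc, ← Spec.map_comp]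
  rfl

end Groth.Agent.SchDesc82.UltraVal
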