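import Groth.Agent.FlatModel.Open
import Groth.Agent.FlatMisc.ValuationFP
import Mathlib.RingTheory.Flat.TorsionFree
import Mathlib.RingTheory.Flat.Localization
import Mathlib.RingTheory.Ideal.GoingDown
import Mathlib.RingTheory.Spectrum.Prime.Chevalley
import Mathlib.Order.Filter.Ultrafilter.Basic

/-!
# Finitely presented algebras over ultraproducts of valuation rings

If the closed fibre over an ultraproduct of valuation rings has points with generizations in the generic fibre,
then the same holds over almost all factors; likewise if all its points have such generizations.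
-/

universe u

set_option autoImplicit false

open Filter

namespace Groth.Agent.SchDesc82.UltraVal

/-- Some point over `p` has a generization over `η`. -/
def GenAt {W : Type u} (B : Type u) [CommRing W] [CommRing B] [Algebra W B] (p η : Ideal W) : Prop :=
  ∃ Q P : Ideal B, Q.IsPrime ∧ P.IsPrime ∧ Q ≤ P ∧ Q.comap (algebraMap W B) = η ∧ P.comap (algebraMap W B) = p

/-- All points above the closure of `η` have generizations over `η`. -/
def AllGen {W : Type u} (B : Type u) [CommRing W] [CommRing B] [Algebra W B] (η : Ideal W) : Prop :=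
  ∀ P : Ideal B, P.IsPrime → η ≤ P.comap (algebraMap W B) →
    ∃ Q : Ideal B, Q.IsPrime ∧ Q ≤ P ∧ Q.comap (algebraMap W B) = η

variable {ι : Type u} (V : ι → Type u) [∀ i, CommRing (V i)] [∀ i, IsDomain (V i)] [∀ i, ValuationRing (V i)]
  (U : Ultrafilter ι)

/-- The elements vanishing almost everywhere. -/
def gen : Ideal (∀ i, V i) where
  carrier := {a | ∀ᶠ i in (U : Filter ι), a i = 0}
  zero_mem' := Eventually.of_forall fun _ => rfl
  add_mem' ha hb := (ha.and hb).mono fun i h => by rw [Pi.add_apply, h.1, h.2, add_zero]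
  smul_mem' c a ha := ha.mono fun i h => by rw [Pi.smul_apply', h, smul_zero]

theorem mem_gen {a : ∀ i, V i} : a ∈ gen V U ↔ ∀ᶠ i in (U : Filter ι), a i = 0 := Iff.rfl

/-- The elements which are almost everywhere nonunits. -/
def closed : Ideal (∀ i, V i) where
  carrier := {a | ∀ᶠ i in (U : Filter ι), ¬ IsUnit (a i)}
  zero_mem' := Eventually.of_forall fun _ => by simp
  add_mem' ha hb := (ha.and hb).mono fun i h => IsLocalRing.nonunits_add h.1 h.2
  smul_mem' c a ha := ha.mono fun i h h' => h (isUnit_of_mul_isUnit_right (x := c i) (by simpa using h'))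

theorem mem_closed {a : ∀ i, V i} : a ∈ closed V U ↔ ∀ᶠ i in (U : Filter ι), ¬ IsUnit (a i) := Iff.rfl

theorem gen_le_closed : gen V U ≤ closed V U := fun _ ha => Eventually.mono ha fun i h => by simp [h]

/-- The generic point of a factor. -/
def genPt (i : ι) : Ideal (∀ i, V i) := RingHom.ker (Pi.evalRingHom V i)

/-- The closed point of a factor. -/
def closedPt (i : ι) : Ideal (∀ i, V i) := (IsLocalRing.maximalIdeal (V i)).comap (Pi.evalRingHom V i)

instance isPrime_genPt (i : ι) : (genPt V i).IsPrime := RingHom.ker_isPrime _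

instance isPrime_closedPt (i : ι) : (closedPt V i).IsPrime := Ideal.comap_isPrime _ _

theorem genPt_le_closedPt (i : ι) : genPt V i ≤ closedPt V i := fun a ha => by
  rw [closedPt, Ideal.mem_comap, RingHom.mem_ker.1 ha]
  exact zero_mem _

instance isPrime_gen : (gen V U).IsPrime := by
  refine ⟨fun h => ?_, fun {a b} hab => ?_⟩
  · obtain ⟨i, hi⟩ := ((mem_gen V U).1 ((Ideal.eq_top_iff_one _).1 h)).exists
    exact one_ne_zero hi
  · rw [mem_gen, mem_gen, ← Ultrafilter.eventually_or]
    exact ((mem_gen V U).1 hab).mono fun i h => mul_eq_zero.1 h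

instance valuationRing_quotient : ValuationRing ((∀ i, V i) ⧸ gen V U) := by
  refine { cond' := fun x y => ?_ }
  obtain ⟨a, rfl⟩ := Ideal.Quotient.mk_surjective x
  obtain ⟨b, rfl⟩ := Ideal.Quotient.mk_surjective y
  choose c hc using fun i => ValuationRing.cond (a i) (b i)
  rcases Ultrafilter.eventually_or.1 (Eventually.of_forall (f := (U : Filter ι)) hc) with h | h
  · refine ⟨Ideal.Quotient.mk _ c, Or.inl ?_⟩
    rw [← map_mul, Ideal.Quotient.eq, mem_gen]
    exact h.mono fun i hi => by rw [Pi.sub_apply, Pi.mul_apply, hi, sub_self]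
  · refine ⟨Ideal.Quotient.mk _ c, Or.inr ?_⟩
    rw [← map_mul, Ideal.Quotient.eq, mem_gen]
    exact h.mono fun i hi => by rw [Pi.sub_apply, Pi.mul_apply, hi, sub_self]

/-- The idempotents equal to one almost everywhere. -/
def ones : Submonoid (∀ i, V i) where
  carrier := {e | IsIdempotentElem e ∧ 1 - e ∈ gen V U}
  one_mem' := ⟨.one, by simp⟩
  mul_mem' := by
    rintro a b ⟨ha, ha'⟩ ⟨hb, hb'⟩
    refine ⟨ha.mul hb, ?_⟩
    have h : 1 - a * b = (1 - a) + a * (1 - b) := by ring
    rw [h]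
    exact add_mem ha' (Ideal.mul_mem_left _ _ hb')

theorem exists_ones_mul {a : ∀ i, V i} (ha : a ∈ gen V U) : ∃ e ∈ ones V U, e * a = 0 := by
  classical
  refine ⟨fun i => if a i = 0 then 1 else 0, ⟨?_, ?_⟩, ?_⟩
  · funext i; dsimp; split_ifs <;> simp
  · exact (mem_gen V U).2 (ha.mono fun i hi => by simp [hi])
  · funext i; dsimp; split_ifs with h <;> simp [h]

theorem not_mem_of_gen_le {p : Ideal (∀ i, V i)} (hp : p.IsPrime) (h : gen V U ≤ p) {e : ∀ i, V i}
    (he : e ∈ ones V U) : e ∉ p := fun hep => hp.ne_top ((Ideal.eq_top_iff_one _).2 (by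
  have := add_mem hep (h he.2)
  rwa [add_sub_cancel] at this))

theorem eventually_not_mem {e : ∀ i, V i} (he : e ∈ ones V U) :
    ∀ᶠ i in (U : Filter ι), ∀ p : Ideal (∀ i, V i), p.IsPrime → genPt V i ≤ p → e ∉ p :=
  ((mem_gen V U).1 he.2).mono fun i hi p hp hip hep => hp.ne_top ((Ideal.eq_top_iff_one _).2 (by
    have := add_mem hep (hip (show (1 - e) ∈ genPt V i from RingHom.mem_ker.2 hi))
    rwa [add_sub_cancel] at this))

variable (B : Type u) [CommRing B] [Algebra (∀ i, V i) B]

theorem exists_ones_mul_map {x : B} (hx : x ∈ (gen V U).map (algebraMap (∀ i, V i) B)) :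
    ∃ e ∈ ones V U, algebraMap (∀ i, V i) B e * x = 0 := by
  induction hx using Submodule.span_induction with
  | mem x hx =>
    obtain ⟨a, ha, rfl⟩ := hx
    obtain ⟨e, he, hea⟩ := exists_ones_mul V U ha
    exact ⟨e, he, by rw [← map_mul, hea, map_zero]⟩
  | zero => exact ⟨1, one_mem _, mul_zero _⟩
  | add x y _ _ hx hy =>
    obtain ⟨e, he, hex⟩ := hx
    obtain ⟨e', he', hey⟩ := hy
    refine ⟨e * e', mul_mem he he', ?_⟩
    rw [map_mul]
    linear_combination algebraMap (∀ i, V i) B e' * hex + algebraMap (∀ i, V i) B e * hey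
  | smul c x _ hx =>
    obtain ⟨e, he, hex⟩ := hx
    exact ⟨e, he, by rw [smul_eq_mul, mul_left_comm, hex, mul_zero]⟩

/-- The torsion in the fibre over the ultraproduct. -/
def tors : Ideal B where
  carrier := {b | ∃ a, a ∉ gen V U ∧ algebraMap (∀ i, V i) B a * b ∈ (gen V U).map (algebraMap (∀ i, V i) B)}
  zero_mem' := ⟨1, fun h => (isPrime_gen V U).ne_top ((Ideal.eq_top_iff_one _).2 h), by simp⟩
  add_mem' := by
    rintro x y ⟨a, ha, hax⟩ ⟨b, hb, hby⟩
    refine ⟨a * b, fun h => ((isPrime_gen V U).mem_or_mem h).elim ha hb, ?_⟩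
    have h : algebraMap (∀ i, V i) B (a * b) * (x + y) = algebraMap (∀ i, V i) B b * (algebraMap _ B a * x) +
        algebraMap (∀ i, V i) B a * (algebraMap _ B b * y) := by rw [map_mul]; ring
    rw [h]
    exact add_mem (Ideal.mul_mem_left _ _ hax) (Ideal.mul_mem_left _ _ hby)
  smul_mem' := by
    rintro c x ⟨a, ha, hax⟩
    refine ⟨a, ha, ?_⟩
    rw [smul_eq_mul, mul_left_comm]
    exact Ideal.mul_mem_left _ _ hax

theorem map_gen_le_tors : (gen V U).map (algebraMap (∀ i, V i) B) ≤ tors V U B := fun x hx =>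
  ⟨1, fun h => (isPrime_gen V U).ne_top ((Ideal.eq_top_iff_one _).2 h), by simpa using hx⟩

theorem tors_le {Q : Ideal B} (hQ : Q.IsPrime) (h : Q.comap (algebraMap (∀ i, V i) B) = gen V U) :
    tors V U B ≤ Q := fun x ⟨a, ha, hax⟩ =>
  (hQ.mem_or_mem ((Ideal.map_le_iff_le_comap.2 h.ge) hax)).resolve_left fun h' =>
    ha (h ▸ Ideal.mem_comap.2 h')

/-- A finitely generated part of the torsion cutting out a family with going down over almost all factors. -/
theorem exists_fg_goingDown [Algebra.FinitePresentation (∀ i, V i) B] :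
    ∃ T : Ideal B, T.FG ∧ T ≤ tors V U B ∧ ∃ e ∈ ones V U, ∀ P : Ideal B, P.IsPrime → T ≤ P →
      algebraMap (∀ i, V i) B e ∉ P → ∀ p : Ideal (∀ i, V i), p.IsPrime → p ≤ P.comap (algebraMap (∀ i, V i) B) →
      ∃ Q : Ideal B, Q.IsPrime ∧ T ≤ Q ∧ Q ≤ P ∧ algebraMap (∀ i, V i) B e ∉ Q ∧
        Q.comap (algebraMap (∀ i, V i) B) = p := by
  classical
  let W : Type u := ∀ i, V i
  let O : Type u := W ⧸ gen V U
  let K := tors V U B
  let N := (gen V U).map (algebraMap W B)
  have hN : gen V U ≤ N.comap (algebraMap W B) := Ideal.le_comap_map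
  have hK : gen V U ≤ K.comap (algebraMap W B) := hN.trans (Ideal.comap_mono (map_gen_le_tors V U B))
  letI : Algebra O (B ⧸ N) := (Ideal.quotientMap N (algebraMap W B) hN).toAlgebra
  letI : Algebra O (B ⧸ K) := (Ideal.quotientMap K (algebraMap W B) hK).toAlgebra
  haveI : IsScalarTower W O (B ⧸ N) := by
    refine ⟨fun a o x => ?_⟩
    obtain ⟨c, rfl⟩ := Ideal.Quotient.mk_surjective o
    obtain ⟨b, rfl⟩ := Ideal.Quotient.mk_surjective x
    show Ideal.Quotient.mk N (algebraMap W B (a * c) * b) = Ideal.Quotient.mk N (a • (algebraMap W B c * b))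
    simp [Algebra.smul_def, mul_assoc]
  haveI : IsScalarTower W O (B ⧸ K) := by
    refine ⟨fun a o x => ?_⟩
    obtain ⟨c, rfl⟩ := Ideal.Quotient.mk_surjective o
    obtain ⟨b, rfl⟩ := Ideal.Quotient.mk_surjective x
    show Ideal.Quotient.mk K (algebraMap W B (a * c) * b) = Ideal.Quotient.mk K (a • (algebraMap W B c * b))
    simp [Algebra.smul_def, mul_assoc]
  -- the torsion free quotient
  haveI : Module.Flat O (B ⧸ K) := by
    refine Module.Flat.flat_iff_torsion_eq_bot_of_isBezout.2 (eq_bot_iff.2 ?_)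
    rintro x ⟨⟨o, ho⟩, hox⟩
    obtain ⟨a, rfl⟩ := Ideal.Quotient.mk_surjective o
    obtain ⟨b, rfl⟩ := Ideal.Quotient.mk_surjective x
    have ha : a ∉ gen V U := fun h =>
      nonZeroDivisors.ne_zero ho (Ideal.Quotient.eq_zero_iff_mem.2 h)
    have h : algebraMap W B a * b ∈ K := Ideal.Quotient.eq_zero_iff_mem.1 hox
    obtain ⟨c, hc, hcab⟩ := h
    rw [Submodule.mem_bot, Ideal.Quotient.eq_zero_iff_mem]
    refine ⟨c * a, fun h' => ((isPrime_gen V U).mem_or_mem h').elim hc ha, ?_⟩
    rw [map_mul, mul_assoc]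
    exact hcab
  haveI : Algebra.FiniteType W B := inferInstance
  haveI : Algebra.FiniteType W (B ⧸ K) := Algebra.FiniteType.of_surjective (Ideal.Quotient.mkₐ W K) Ideal.Quotient.mk_surjective
  haveI : Algebra.FiniteType W (B ⧸ N) := Algebra.FiniteType.of_surjective (Ideal.Quotient.mkₐ W N) Ideal.Quotient.mk_surjective
  haveI : Algebra.FiniteType O (B ⧸ K) := Algebra.FiniteType.of_restrictScalars_finiteType W O _
  haveI : Algebra.FiniteType O (B ⧸ N) := Algebra.FiniteType.of_restrictScalars_finiteType W O _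
  haveI : Algebra.FinitePresentation O (B ⧸ K) := FlatMisc.ValuationFP.algebra_finitePresentation
  let π : (B ⧸ N) →ₐ[O] (B ⧸ K) :=
    { Ideal.Quotient.factor (map_gen_le_tors V U B) with
      commutes' := fun o => by obtain ⟨a, rfl⟩ := Ideal.Quotient.mk_surjective o; rfl }
  have hπ : Function.Surjective π := Ideal.Quotient.factor_surjective (map_gen_le_tors V U B)
  obtain ⟨n, φ, hφ⟩ := Algebra.FiniteType.iff_quotient_mvPolynomial''.mp
    (inferInstance : Algebra.FiniteType O (B ⧸ N))
  have hfg : (RingHom.ker π.toRingHom).FG := by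
    have h := (Algebra.FinitePresentation.ker_fg_of_mvPolynomial (π.comp φ) (hπ.comp hφ)).map φ.toRingHom
    rwa [show RingHom.ker (π.comp φ).toRingHom = (RingHom.ker π.toRingHom).comap φ.toRingHom from
      (RingHom.comap_ker π.toRingHom φ.toRingHom).symm, Ideal.map_comap_of_surjective φ.toRingHom hφ] at h
  obtain ⟨s, hs⟩ := hfg
  choose r hr using fun z : B ⧸ N => Ideal.Quotient.mk_surjective z
  let T : Ideal B := Ideal.span (r '' (s : Set (B ⧸ N)))
  have hTK : T ≤ K := by
    rw [Ideal.span_le]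
    rintro _ ⟨z, hz, rfl⟩
    have h1 : π z = 0 := (hs ▸ Ideal.subset_span hz : z ∈ RingHom.ker π.toRingHom)
    rw [← hr z] at h1
    exact Ideal.Quotient.eq_zero_iff_mem.1 h1
  have hKT : K ≤ T ⊔ N := by
    intro x hx
    have h1 : Ideal.Quotient.mk N x ∈ RingHom.ker π.toRingHom := Ideal.Quotient.eq_zero_iff_mem.2 hx
    rw [← hs] at h1
    have h2 : (Ideal.span (s : Set (B ⧸ N))) ≤ T.map (Ideal.Quotient.mk N) := Ideal.span_le.2 fun z hz =>
      hr z ▸ Ideal.mem_map_of_mem _ (Ideal.subset_span ⟨z, hz, rfl⟩)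
    have h3 := h2 h1
    rw [← Ideal.mem_comap, Ideal.comap_map_of_surjective _ Ideal.Quotient.mk_surjective, ← RingHom.ker_eq_comap_bot,
      Ideal.mk_ker] at h3
    exact h3
  have hTfg : T.FG := ⟨s.image r, by rw [Finset.coe_image]⟩
  -- the family
  let C : Type u := B ⧸ T
  haveI : Algebra.FinitePresentation W C := Algebra.FinitePresentation.quotient hTfg
  let S : Submonoid C := (ones V U).map (algebraMap W C)
  letI : Algebra C (B ⧸ K) := (Ideal.Quotient.factor hTK).toAlgebra
  haveI : IsScalarTower W C (B ⧸ K) := .of_algebraMap_eq fun _ => rfl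
  have hone : ∀ e ∈ ones V U, algebraMap W (B ⧸ K) e = 1 := fun e he => by
    rw [← map_one (algebraMap W (B ⧸ K))]
    refine (Ideal.Quotient.eq.2 ?_)
    rw [← map_sub]
    exact Ideal.mem_comap.1 (hK (neg_sub 1 e ▸ neg_mem he.2))
  haveI : IsLocalization S (B ⧸ K) := by
    refine ⟨?_, ?_, ?_⟩
    · rintro ⟨_, e, he, rfl⟩
      rw [← IsScalarTower.algebraMap_apply, hone e he]
      exact isUnit_one
    · intro z
      obtain ⟨c, rfl⟩ := (Ideal.Quotient.factor_surjective hTK : Function.Surjective (algebraMap C (B ⧸ K))) z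
      exact ⟨⟨c, 1⟩, by simp; rfl⟩
    · intro x y hxy
      obtain ⟨x, rfl⟩ := Ideal.Quotient.mk_surjective x
      obtain ⟨y, rfl⟩ := Ideal.Quotient.mk_surjective y
      have h : x - y ∈ K := Ideal.Quotient.eq.1 hxy
      obtain ⟨t, ht, z, hz, htz⟩ := Submodule.mem_sup.1 (hKT h)
      obtain ⟨e, he, hez⟩ := exists_ones_mul_map V U B hz
      refine ⟨⟨_, e, he, rfl⟩, ?_⟩
      show Ideal.Quotient.mk T (algebraMap W B e) * Ideal.Quotient.mk T x =
        Ideal.Quotient.mk T (algebraMap W B e) * Ideal.Quotient.mk T y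
      rw [← map_mul, ← map_mul, Ideal.Quotient.eq, ← mul_sub, ← htz, mul_add, hez, add_zero]
      exact Ideal.mul_mem_left _ _ ht
  haveI : IsLocalization (ones V U) O := by
    refine ⟨?_, ?_, ?_⟩
    · rintro ⟨e, he⟩
      have h : Ideal.Quotient.mk (gen V U) e = 1 := by
        rw [← map_one (Ideal.Quotient.mk (gen V U)), Ideal.Quotient.eq, ← neg_sub]
        exact neg_mem he.2
      exact h ▸ isUnit_one
    · intro z
      obtain ⟨c, rfl⟩ := Ideal.Quotient.mk_surjective z
      exact ⟨⟨c, 1⟩, by simp; rfl⟩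
    · intro x y hxy
      obtain ⟨e, he, h⟩ := exists_ones_mul V U (Ideal.Quotient.eq.1 hxy)
      exact ⟨⟨e, he⟩, sub_eq_zero.1 (by rw [← mul_sub]; exact h)⟩
  haveI : Module.Flat W O := IsLocalization.flat O (ones V U)
  haveI : Module.Flat W (B ⧸ K) := Module.Flat.trans W O _
  -- the flat locus
  let Fl : Set (PrimeSpectrum C) := {q | Module.Flat W (LocalizedModule q.asIdeal.primeCompl C)}
  have hFl : IsOpen Fl := FlatModel.isOpen_flatLocus C
  have hmem : ∀ q : PrimeSpectrum C, S ≤ q.asIdeal.primeCompl → q ∈ Fl := fun q hq => by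
    let Cq := Localization.AtPrime q.asIdeal
    letI : Algebra (B ⧸ K) Cq := IsLocalization.localizationAlgebraOfSubmonoidLe (B ⧸ K) Cq S q.asIdeal.primeCompl hq
    haveI : IsScalarTower C (B ⧸ K) Cq :=
      IsLocalization.localization_isScalarTower_of_submonoid_le (B ⧸ K) Cq S q.asIdeal.primeCompl hq
    haveI : IsLocalization (q.asIdeal.primeCompl.map (algebraMap C (B ⧸ K))) Cq :=
      IsLocalization.isLocalization_of_submonoid_le (B ⧸ K) Cq S q.asIdeal.primeCompl hq
    haveI : Module.Flat (B ⧸ K) Cq := IsLocalization.flat Cq (q.asIdeal.primeCompl.map (algebraMap C (B ⧸ K)))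
    haveI : IsScalarTower W (B ⧸ K) Cq := .of_algebraMap_eq fun a => by
      rw [IsScalarTower.algebraMap_apply W C Cq, IsScalarTower.algebraMap_apply C (B ⧸ K) Cq,
        ← IsScalarTower.algebraMap_apply W C (B ⧸ K)]
    exact Module.Flat.trans W (B ⧸ K) Cq
  have hcpt : IsCompact Flᶜ := hFl.isClosed_compl.isCompact
  obtain ⟨F, hF⟩ := hcpt.elim_finite_subcover
    (fun e : ones V U => (PrimeSpectrum.basicOpen (algebraMap W C (1 - (e : W))) : Set (PrimeSpectrum C)))
    (fun _ => PrimeSpectrum.isOpen_basicOpen) fun q hq => by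
      by_contra h
      refine hq (hmem q ?_)
      rintro _ ⟨e, he, rfl⟩ heq
      refine h (Set.mem_iUnion.2 ⟨⟨e, he⟩, ?_⟩)
      show algebraMap W C (1 - e) ∉ q.asIdeal
      intro h1
      refine q.isPrime.ne_top ((Ideal.eq_top_iff_one _).2 ?_)
      have := add_mem (show algebraMap W C e ∈ q.asIdeal from heq) h1
      rwa [← map_add, add_sub_cancel, map_one] at this
  refine ⟨T, hTfg, hTK, ∏ e ∈ F, (e : W), prod_mem fun e _ => e.2, fun P hP hTP heP p hp hpP => ?_⟩
  let q : PrimeSpectrum C := ⟨P.map (Ideal.Quotient.mk T),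
    Ideal.map_isPrime_of_surjective Ideal.Quotient.mk_surjective (by rwa [Ideal.mk_ker])⟩
  have hqP : q.asIdeal.comap (Ideal.Quotient.mk T) = P := by
    show (P.map (Ideal.Quotient.mk T)).comap (Ideal.Quotient.mk T) = P
    rw [Ideal.comap_map_of_surjective _ Ideal.Quotient.mk_surjective, ← RingHom.ker_eq_comap_bot, Ideal.mk_ker,
      sup_eq_left.2 hTP]
  have hqW : q.asIdeal.comap (algebraMap W C) = P.comap (algebraMap W B) := by
    rw [← hqP, Ideal.comap_comap]
    rfl
  have hq : q ∈ Fl := by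
    by_contra h
    obtain ⟨e, he, hqe⟩ := Set.mem_iUnion₂.1 (hF h)
    have h1 : (1 - (e : W)) * ∏ e ∈ F, (e : W) = 0 := by
      rw [← Finset.mul_prod_erase _ _ he, ← mul_assoc, sub_mul, one_mul, e.2.1.eq, sub_self, zero_mul]
    have h2 : algebraMap W C (∏ e ∈ F, (e : W)) ∈ q.asIdeal := (q.isPrime.mem_or_mem (show
      algebraMap W C (1 - (e : W)) * algebraMap W C (∏ e ∈ F, (e : W)) ∈ q.asIdeal by
        rw [← map_mul, h1, map_zero]; exact zero_mem _)).resolve_left hqe
    refine heP ?_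
    rw [← hqP]
    exact h2
  haveI := q.isPrime
  haveI : Module.Flat W (Localization.AtPrime q.asIdeal) := hq
  haveI : Algebra.HasGoingDown W (Localization.AtPrime q.asIdeal) := inferInstance
  haveI := hp
  let Pq := IsLocalRing.maximalIdeal (Localization.AtPrime q.asIdeal)
  have hloc : Pq.comap (algebraMap C (Localization.AtPrime q.asIdeal)) = q.asIdeal :=
    Localization.AtPrime.comap_maximalIdeal (I := q.asIdeal)
  have hPq : Pq.comap (algebraMap W (Localization.AtPrime q.asIdeal)) = P.comap (algebraMap W B) := by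
    rw [IsScalarTower.algebraMap_eq W C (Localization.AtPrime q.asIdeal), ← Ideal.comap_comap, hloc, hqW]
  haveI : Pq.LiesOver (P.comap (algebraMap W B)) := ⟨hPq.symm⟩
  obtain ⟨Q, hQle, hQ, hQp⟩ := Ideal.exists_ideal_le_liesOver_of_le (p := p) (q := P.comap (algebraMap W B)) Pq hpP
  refine ⟨(Q.comap (algebraMap C (Localization.AtPrime q.asIdeal))).comap (Ideal.Quotient.mk T), inferInstance,
    fun t ht => ?_, ?_, ?_, ?_⟩
  · rw [Ideal.mem_comap, Ideal.Quotient.eq_zero_iff_mem.2 ht]
    exact zero_mem _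
  · exact (Ideal.comap_mono ((Ideal.comap_mono hQle).trans hloc.le)).trans hqP.le
  · exact fun h => heP (((Ideal.comap_mono ((Ideal.comap_mono hQle).trans hloc.le)).trans hqP.le) h)
  · rw [hQp.over, Ideal.under_def, IsScalarTower.algebraMap_eq W C (Localization.AtPrime q.asIdeal),
      Ideal.comap_comap, Ideal.comap_comap]
    rfl

/-- Generization pairs persist on almost all factors. -/
theorem eventually_genAt [Algebra.FinitePresentation (∀ i, V i) B] (h : GenAt B (closed V U) (gen V U)) :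
    ∀ᶠ i in (U : Filter ι), GenAt B (closedPt V i) (genPt V i) := by
  let W : Type u := ∀ i, V i
  obtain ⟨Q, P, hQ, hP, hQP, hQw, hPM⟩ := h
  obtain ⟨T, hTfg, hTK, e, he, hgd⟩ := exists_fg_goingDown V U B
  have hTP : T ≤ P := hTK.trans ((tors_le V U B hQ hQw).trans hQP)
  have heP : algebraMap W B e ∉ P := fun h' => not_mem_of_gen_le V U (p := closed V U) (hPM ▸ hP.comap _)
    (gen_le_closed V U) he (hPM ▸ Ideal.mem_comap.2 h')
  haveI : Algebra.FinitePresentation W (B ⧸ T) := Algebra.FinitePresentation.quotient hTfg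
  let c := algebraMap W (B ⧸ T) e
  haveI : Algebra.FinitePresentation (B ⧸ T) (Localization.Away c) := IsLocalization.Away.finitePresentation c
  haveI : Algebra.FinitePresentation W (Localization.Away c) := Algebra.FinitePresentation.trans W (B ⧸ T) _
  let g : B →+* Localization.Away c := (algebraMap (B ⧸ T) (Localization.Away c)).comp (Ideal.Quotient.mk T)
  have hg : g.comp (algebraMap W B) = algebraMap W (Localization.Away c) := by
    rw [IsScalarTower.algebraMap_eq W (B ⧸ T) (Localization.Away c)]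
    rfl
  -- primes of the good part are the primes of the localisation
  have hdown : ∀ R : Ideal (Localization.Away c), R.IsPrime →
      T ≤ R.comap g ∧ algebraMap W B e ∉ R.comap g := fun R hR => by
    refine ⟨fun t ht => ?_, fun h' => hR.ne_top (Ideal.eq_top_of_isUnit_mem _ h' ?_)⟩
    · rw [Ideal.mem_comap, show g t = 0 by
        show algebraMap _ _ (Ideal.Quotient.mk T t) = 0
        rw [Ideal.Quotient.eq_zero_iff_mem.2 ht, map_zero]]
      exact zero_mem _
    · exact IsLocalization.Away.algebraMap_isUnit c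
  have hup : ∀ R : Ideal B, R.IsPrime → T ≤ R → algebraMap W B e ∉ R →
      ∃ R' : Ideal (Localization.Away c), R'.IsPrime ∧ R'.comap g = R := fun R hR hTR heR => by
    have h1 : (R.map (Ideal.Quotient.mk T)).comap (Ideal.Quotient.mk T) = R := by
      rw [Ideal.comap_map_of_surjective _ Ideal.Quotient.mk_surjective, ← RingHom.ker_eq_comap_bot, Ideal.mk_ker,
        sup_eq_left.2 hTR]
    have h2 : (R.map (Ideal.Quotient.mk T)).IsPrime :=
      Ideal.map_isPrime_of_surjective Ideal.Quotient.mk_surjective (by rwa [Ideal.mk_ker])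
    have h3 : Disjoint (Submonoid.powers c : Set (B ⧸ T)) (R.map (Ideal.Quotient.mk T) : Set (B ⧸ T)) := by
      rw [Set.disjoint_left]
      rintro _ ⟨n, rfl⟩ hn
      have : algebraMap W B e ∈ (R.map (Ideal.Quotient.mk T)).comap (Ideal.Quotient.mk T) :=
        h2.mem_of_pow_mem n hn
      exact heR (h1 ▸ this)
    obtain ⟨h4, h5⟩ := (IsLocalization.orderIsoOfPrime (Submonoid.powers c) (Localization.Away c)).symm
      ⟨_, h2, h3⟩ |>.2 |> fun h => (⟨h, IsLocalization.comap_map_of_isPrime_disjoint (Submonoid.powers c)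
        (Localization.Away c) h2 h3⟩ : _ ∧ _)
    refine ⟨(R.map (Ideal.Quotient.mk T)).map (algebraMap _ (Localization.Away c)), h4, ?_⟩
    rw [show g = (algebraMap (B ⧸ T) (Localization.Away c)).comp (Ideal.Quotient.mk T) from rfl, ← Ideal.comap_comap]
    exact (congrArg (Ideal.comap (Ideal.Quotient.mk T)) h5).trans h1
  haveI : Algebra.HasGoingDown W (Localization.Away c) := by
    refine ⟨fun {p} _ R _ hp => ?_⟩
    obtain ⟨hTR, heR⟩ := hdown R inferInstance
    obtain ⟨R₁, hR₁, hTR₁, hR₁R, heR₁, hR₁p⟩ := hgd (R.comap g) inferInstance hTR heR p inferInstance (by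
      rw [Ideal.comap_comap, hg]; exact hp.le)
    obtain ⟨R₂, hR₂, hR₂₁⟩ := hup R₁ hR₁ hTR₁ heR₁
    refine ⟨R₂, ?_, hR₂, ⟨?_⟩⟩
    · intro x hx
      obtain ⟨⟨y, s⟩, hys⟩ := IsLocalization.surj (Submonoid.powers c) x
      obtain ⟨y, rfl⟩ := Ideal.Quotient.mk_surjective y
      have hy : y ∈ R₂.comap g := Ideal.mem_comap.2 (show g y ∈ R₂ from hys ▸ Ideal.mul_mem_right _ _ hx)
      rw [hR₂₁] at hy
      have hy' : g y ∈ R := hR₁R hy
      change x * algebraMap _ _ (s : B ⧸ T) = g y at hys
      rw [← hys] at hy'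
      exact (Ideal.IsPrime.mem_or_mem inferInstance hy').resolve_right fun h' =>
        (inferInstance : R.IsPrime).ne_top (Ideal.eq_top_of_isUnit_mem _ h' (IsLocalization.map_units _ s))
    · rw [Ideal.under_def, ← hg, ← Ideal.comap_comap, hR₂₁, hR₁p]
  obtain ⟨P', hP', hP'P⟩ := hup P hP hTP heP
  have hopen := (PrimeSpectrum.isOpenMap_comap_of_hasGoingDown_of_finitePresentation
    (R := W) (S := Localization.Away c)).isOpen_range
  have hM : (⟨closed V U, hPM ▸ hP.comap _⟩ : PrimeSpectrum W) ∈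
      Set.range (PrimeSpectrum.comap (algebraMap W (Localization.Away c))) :=
    ⟨⟨P', hP'⟩, PrimeSpectrum.ext (show P'.comap (algebraMap W (Localization.Away c)) = closed V U by
      rw [← hg, ← Ideal.comap_comap, hP'P, hPM])⟩
  obtain ⟨_, ⟨a, rfl⟩, haM, hasub⟩ := PrimeSpectrum.isTopologicalBasis_basic_opens.exists_subset_of_mem_open hM hopen
  have hu : ∀ᶠ i in (U : Filter ι), IsUnit (a i) := by
    have h1 : a ∉ closed V U := haM
    rw [mem_closed] at h1
    exact (Ultrafilter.eventually_not.2 h1).mono fun i hi => not_not.1 hi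
  refine hu.mono fun i hi => ?_
  have hi' : (⟨closedPt V i, inferInstance⟩ : PrimeSpectrum W) ∈ (PrimeSpectrum.basicOpen a : Set (PrimeSpectrum W)) :=
    fun h' => (IsLocalRing.mem_maximalIdeal _).1 (Ideal.mem_comap.1 h') hi
  obtain ⟨R, hR⟩ := hasub hi'
  have hR' : (R.asIdeal.comap g).comap (algebraMap W B) = closedPt V i := by
    rw [Ideal.comap_comap, hg]
    exact congrArg PrimeSpectrum.asIdeal hR
  obtain ⟨hTR, heR⟩ := hdown R.asIdeal R.isPrime
  obtain ⟨R₁, hR₁, -, hR₁R, -, hR₁p⟩ := hgd _ inferInstance hTR heR (genPt V i) inferInstance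
    (hR'.symm ▸ genPt_le_closedPt V i)
  exact ⟨R₁, R.asIdeal.comap g, hR₁, inferInstance, hR₁R, hR₁p, hR'⟩

/-- Generization of all points persists on almost all factors. -/
theorem eventually_allGen [Algebra.FinitePresentation (∀ i, V i) B] (h : AllGen B (gen V U)) :
    ∀ᶠ i in (U : Filter ι), AllGen B (genPt V i) := by
  classical
  let W : Type u := ∀ i, V i
  obtain ⟨T, ⟨s, hs⟩, hTK, e, he, hgd⟩ := exists_fg_goingDown V U B
  have hrad : ∀ t ∈ s, ∃ e' ∈ ones V U, ∃ n : ℕ, algebraMap W B e' * t ^ n = 0 := fun t ht => by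
    have h1 : t ∈ ((gen V U).map (algebraMap W B)).radical := by
      rw [Ideal.radical_eq_sInf]
      refine Submodule.mem_sInf.2 fun P ⟨hNP, hP⟩ => ?_
      obtain ⟨Q, hQ, hQP, hQw⟩ := h P hP (Ideal.map_le_iff_le_comap.1 hNP)
      exact hQP (tors_le V U B hQ hQw (hTK (hs ▸ Ideal.subset_span ht)))
    obtain ⟨n, hn⟩ := h1
    obtain ⟨e', he', h'⟩ := exists_ones_mul_map V U B hn
    exact ⟨e', he', n, h'⟩
  choose! e' he' n hn using hrad
  have hev : ∀ᶠ i in (U : Filter ι), ∀ t ∈ s, ∀ p : Ideal W, p.IsPrime → genPt V i ≤ p → e' t ∉ p :=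
    (eventually_all_finset s).2 fun t ht => eventually_not_mem V U (he' t ht)
  refine (hev.and (eventually_not_mem V U he)).mono fun i ⟨hi, hie⟩ P hP hiP => ?_
  haveI := hP
  have hTP : T ≤ P := by
    rw [← hs]
    refine Ideal.span_le.2 fun t ht => ?_
    have h0 : algebraMap W B (e' t) * t ^ n t ∈ P := hn t ht ▸ zero_mem _
    exact hP.mem_of_pow_mem (n t) ((hP.mem_or_mem h0).resolve_left fun h' =>
      hi t ht _ inferInstance hiP (Ideal.mem_comap.2 h'))
  obtain ⟨Q, hQ, -, hQP, -, hQp⟩ := hgd P hP hTP (fun h' => hie _ inferInstance hiP (Ideal.mem_comap.2 h'))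
    (genPt V i) inferInstance hiP
  exact ⟨Q, hQ, hQP, hQp⟩

end Groth.Agent.SchDesc82.UltraVal
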