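import Groth.Agent.SchDesc82.ValCompact
import Mathlib.RingTheory.ZariskisMainTheorem
import Mathlib.RingTheory.IntegralClosure.IntegrallyClosed
import Mathlib.RingTheory.Valuation.LocalSubring

/-!
# A finite cover over which a quasi-finite family has points locally

If finitely many quasi-finite algebras of finite presentation over `R` have a point in every valuation ring over
`R` with algebraically closed fraction field, there is a finite `R`-algebra of finite presentation, surjective on
spectra, whose spectrum is covered by basic opens with points of the family.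
-/

universe u

set_option autoImplicit false
set_option backward.isDefEq.respectTransparency false
set_option backward.isDefEq.respectTransparency.types false

namespace Groth.Agent.SchDesc82.ValFinite

open GeomProd

variable {R : Type u} [CommRing R]

/-- A point at a prime of the product extends to a clopen piece. -/
theorem exists_piece {B : Type u} [CommRing B] [Algebra R B] [Algebra.FinitePresentation R B]
    (w : Ideal (GeomProd R)) [w.IsPrime] (φ : B →ₐ[R] GeomProd R ⧸ w) :
    ∃ (e : GeomProd R) (_ : e * e = e) (_ : Ideal.Quotient.mk w e = 1)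
      (ψ : B →ₐ[R] GeomProd R ⧸ Ideal.span {1 - e}),
      ∀ b x, Ideal.Quotient.mk (Ideal.span {1 - e}) x = ψ b → Ideal.Quotient.mk w x = φ b := by
  classical
  obtain ⟨n, f, hf, s, hs⟩ := Algebra.FinitePresentation.out (R := R) (A := B)
  choose c hc using fun k => Ideal.Quotient.mk_surjective (φ (f (MvPolynomial.X k)))
  let ev : MvPolynomial (Fin n) R →ₐ[R] GeomProd R := MvPolynomial.aeval c
  have hev : ∀ g, Ideal.Quotient.mk w (ev g) = φ (f g) := fun g => by
    have : (Ideal.Quotient.mkₐ R w).comp ev = φ.comp f :=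
      MvPolynomial.algHom_ext fun k => by
        show Ideal.Quotient.mk w (ev (MvPolynomial.X k)) = _
        rw [MvPolynomial.aeval_X, hc]
        rfl
    exact congr($this g)
  let u : MvPolynomial (Fin n) R → GeomProd R := fun g p => 1 - ev g p * (ev g p)⁻¹
  let e : GeomProd R := ∏ g ∈ s, u g
  have hidem : ∀ g, u g * u g = u g ∧ ev g * u g = 0 := fun g => by
    refine ⟨funext fun p => ?_, funext fun p => ?_⟩ <;> by_cases h : ev g p = 0 <;> simp [u, h]
  have he : e * e = e := by
    rw [← Finset.prod_mul_distrib]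
    exact Finset.prod_congr rfl fun g _ => (hidem g).1
  have hew : Ideal.Quotient.mk w e = 1 := by
    rw [map_prod]
    refine Finset.prod_eq_one fun g hg => ?_
    have h0 : Ideal.Quotient.mk w (ev g) = 0 := by
      have hk : g ∈ RingHom.ker f.toRingHom := hs ▸ Ideal.subset_span hg
      rw [hev, show f g = 0 from hk, map_zero]
    have : u g = 1 - ev g * fun p => (ev g p)⁻¹ := rfl
    rw [this, map_sub, map_mul, map_one, h0, zero_mul, sub_zero]
  let ev' : MvPolynomial (Fin n) R →ₐ[R] GeomProd R ⧸ Ideal.span {1 - e} := (Ideal.Quotient.mkₐ R _).comp ev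
  have hker : RingHom.ker f.toRingHom ≤ RingHom.ker ev'.toRingHom := by
    rw [← hs, Ideal.span_le]
    intro g hg
    show Ideal.Quotient.mk _ (ev g) = 0
    rw [Ideal.Quotient.eq_zero_iff_mem, Ideal.mem_span_singleton']
    refine ⟨ev g, ?_⟩
    obtain ⟨q, hq⟩ : u g ∣ e := Finset.dvd_prod_of_mem _ hg
    rw [mul_sub, mul_one, hq, ← mul_assoc, (hidem g).2, zero_mul, sub_zero]
  have hle : Ideal.span {1 - e} ≤ w := by
    rw [Ideal.span_singleton_le_iff_mem, ← Ideal.Quotient.eq_zero_iff_mem, map_sub, map_one, hew, sub_self]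
  refine ⟨e, he, hew, f.liftOfSurjective hf ev' hker, fun b x hx => ?_⟩
  obtain ⟨g, rfl⟩ := hf b
  rw [show f.liftOfSurjective hf ev' hker (f g) = ev' g from AlgHom.liftOfSurjective_apply f hf ev' hker g] at hx
  rw [← hev, Ideal.Quotient.eq]
  exact hle (Ideal.Quotient.eq.1 hx)

/-- The representative of an integral element on a piece is integral. -/
theorem isIntegral_mul_lift {e : GeomProd R} (he : e * e = e) {x : GeomProd R}
    (hx : IsIntegral R (Ideal.Quotient.mk (Ideal.span {1 - e}) x)) : IsIntegral R (e * x) := by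
  obtain ⟨P, hP, h0⟩ := hx
  refine ⟨Polynomial.X * P, Polynomial.monic_X.mul hP, ?_⟩
  have h1 : Ideal.Quotient.mk (Ideal.span {1 - e}) (e * x) = Ideal.Quotient.mk _ x := by
    rw [Ideal.Quotient.eq, Ideal.mem_span_singleton']
    exact ⟨-x, by ring⟩
  have h2 : Ideal.Quotient.mk (Ideal.span {1 - e}) (P.eval₂ (algebraMap R (GeomProd R)) (e * x)) = 0 := by
    rw [Polynomial.hom_eval₂, h1]
    exact h0
  obtain ⟨q, hq⟩ := Ideal.mem_span_singleton'.1 (Ideal.Quotient.eq_zero_iff_mem.1 h2)
  rw [Polynomial.eval₂_mul, Polynomial.eval₂_X, ← hq, show e * x * (q * (1 - e)) = x * q * (e - e * e) by ring,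
    he, sub_self, mul_zero]

/-- A point on a piece with a unit coordinate gives a point of the integral closure. -/
theorem exists_algHom_away {F : Type u} [CommRing F] [Algebra R F] [Algebra.IsIntegral R F] (r : F)
    {e : GeomProd R} (he : e * e = e) (ψ : F →ₐ[R] GeomProd R ⧸ Ideal.span {1 - e})
    (x : GeomProd R) (hx : Ideal.Quotient.mk _ x = ψ r) :
    ∃ (c : integralClosure R (GeomProd R)), (c : GeomProd R) = e * x ∧
      Nonempty (Localization.Away r →ₐ[R] Localization.Away c) := by
  choose L hL using fun b : F => Ideal.Quotient.mk_surjective (ψ b)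
  have hc : ∀ b, IsIntegral R (e * L b) := fun b =>
    isIntegral_mul_lift he (by rw [hL]; exact (Algebra.IsIntegral.isIntegral b).map ψ)
  let s : F → integralClosure R (GeomProd R) := fun b => ⟨e * L b, hc b⟩
  have huniq : ∀ b y, Ideal.Quotient.mk (Ideal.span {1 - e}) y = ψ b → e * L b = e * y := fun b y hy => by
    obtain ⟨q, hq⟩ := Ideal.mem_span_singleton'.1 (Ideal.Quotient.eq.1 ((hL b).trans hy.symm))
    rw [← sub_eq_zero, ← mul_sub, ← hq, show e * (q * (1 - e)) = q * (e - e * e) by ring, he, sub_self, mul_zero]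
  let eC : integralClosure R (GeomProd R) := s 1
  have heC : (eC : GeomProd R) = e := by
    show e * L 1 = e
    rw [huniq 1 1 (by rw [map_one, map_one]), mul_one]
  have hmul : ∀ a b, s (a * b) = s a * s b := fun a b => Subtype.ext <| by
    show e * L (a * b) = e * L a * (e * L b)
    rw [huniq (a * b) (L a * L b) (by rw [map_mul, map_mul, hL, hL]),
      show e * L a * (e * L b) = e * e * (L a * L b) by ring, he]
  have hadd : ∀ a b, s (a + b) = s a + s b := fun a b => Subtype.ext <| by
    show e * L (a + b) = e * L a + e * L b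
    rw [huniq (a + b) (L a + L b) (by rw [map_add, map_add, hL, hL]), mul_add]
  refine ⟨s r, huniq r x hx, ⟨?_⟩⟩
  let Λ := Localization.Away (s r)
  have hu : IsUnit (algebraMap (integralClosure R (GeomProd R)) Λ (s r)) :=
    IsLocalization.Away.algebraMap_isUnit (s r)
  have h1 : algebraMap (integralClosure R (GeomProd R)) Λ eC = 1 := by
    refine hu.mul_left_cancel ?_
    rw [← map_mul, ← hmul, mul_one, mul_one]
  let θ₀ : F →+ Λ := AddMonoidHom.mk' (fun b => algebraMap (integralClosure R (GeomProd R)) Λ (s b))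
    fun a b => by rw [hadd, map_add]
  let θ : F →ₐ[R] Λ :=
    { toFun := θ₀
      map_one' := h1
      map_mul' := fun a b => by
        show algebraMap _ Λ (s (a * b)) = algebraMap _ Λ (s a) * algebraMap _ Λ (s b)
        rw [hmul, map_mul]
      map_zero' := map_zero θ₀
      map_add' := map_add θ₀
      commutes' := fun a => by
        show algebraMap _ Λ (s (algebraMap R F a)) = _
        have : s (algebraMap R F a) = algebraMap R _ a * eC := Subtype.ext <| by
          show e * L (algebraMap R F a) = algebraMap R (GeomProd R) a * eC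
          rw [huniq _ (algebraMap R (GeomProd R) a) (by rw [AlgHom.commutes]; rfl), heC, mul_comm]
        rw [this, map_mul, h1, mul_one, ← IsScalarTower.algebraMap_apply] }
  exact IsLocalization.Away.liftAlgHom r (f := θ) hu

/-- Every prime of the integral closure is below a valuation of a residue field of the product. -/
theorem exists_valuation (x : Ideal (integralClosure R (GeomProd R))) [x.IsPrime] :
    ∃ (w : Ideal (GeomProd R)) (_ : w.IsPrime) (K : Type u) (_ : Field K) (φ : GeomProd R ⧸ w ≃+* K)
      (V : ValuationSubring K),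
      (∀ a : R, φ (Ideal.Quotient.mk w (algebraMap R (GeomProd R) a)) ∈ V) ∧ IsAlgClosed K ∧
      ∀ (c : integralClosure R (GeomProd R)) (h : φ (Ideal.Quotient.mk w c) ∈ V),
        IsUnit (⟨_, h⟩ : V) → c ∉ x := by
  obtain ⟨w, -, hw, hwx⟩ := Ideal.exists_ideal_comap_le_prime
    (f := (integralClosure R (GeomProd R)).val.toRingHom) x ⊥ (by
      intro a ha
      rw [Ideal.mem_comap, Ideal.mem_bot] at ha
      rw [show a = 0 from Subtype.ext ha]
      exact zero_mem _)
  have := isMaximal_of_isPrime w
  let _ := Ideal.Quotient.field w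
  let φ : GeomProd R ⧸ w ≃+* w.ResidueField :=
    RingEquiv.ofBijective (algebraMap (GeomProd R ⧸ w) w.ResidueField) w.bijective_algebraMap_quotient_residueField
  let g : integralClosure R (GeomProd R) →+* w.ResidueField :=
    (φ.toRingHom.comp (Ideal.Quotient.mk w)).comp (integralClosure R (GeomProd R)).val.toRingHom
  have hg : ∀ a : x.primeCompl, IsUnit (g a) := fun a => IsUnit.mk0 _ fun h =>
    a.2 (hwx (show (a.1 : GeomProd R) ∈ w from Ideal.Quotient.eq_zero_iff_mem.1 (φ.injective (h.trans (map_zero φ).symm))))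
  let r : Localization.AtPrime x →+* w.ResidueField := IsLocalization.lift hg
  obtain ⟨V, hV, hVl⟩ := IsLocalRing.exists_factor_valuationRing (R := Localization.AtPrime x) r
  refine ⟨w, hw, w.ResidueField, inferInstance, φ, V, fun a => ?_, ?_, fun c h hu hc => ?_⟩
  · have := hV (algebraMap _ (Localization.AtPrime x) (algebraMap R (integralClosure R (GeomProd R)) a))
    rwa [IsLocalization.lift_eq] at this
  · have := isAlgClosed_quotient w
    exact IsAlgClosed.of_ringEquiv _ _ φ
  · have h' : IsUnit (r.codRestrict V.toSubring hV (algebraMap _ _ c)) := by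
      convert hu using 1
      exact Subtype.ext (IsLocalization.lift_eq hg c)
    exact (IsLocalization.AtPrime.isUnit_to_map_iff (Localization.AtPrime x) x c).1
      (IsUnit.of_map (r.codRestrict V.toSubring hV) _ h') hc

variable {ι : Type u} (B : ι → Type u) [∀ i, CommRing (B i)] [∀ i, Algebra R (B i)]

/-- Local points on the integral closure in the product. -/
theorem exists_local_points [∀ i, Algebra.FinitePresentation R (B i)] [∀ i, Algebra.QuasiFinite R (B i)]
    (hB : ∀ (O : Type u) [CommRing O] [IsDomain O] [ValuationRing O] [Algebra R O],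
      IsAlgClosed (FractionRing O) → ∃ i, Nonempty (B i →ₐ[R] O))
    (x : Ideal (integralClosure R (GeomProd R))) [x.IsPrime] :
    ∃ c, c ∉ x ∧ ∃ i, Nonempty (B i →ₐ[R] Localization.Away c) := by
  obtain ⟨w, _, K, _, φ, V, hint, hac, hunit⟩ := exists_valuation x
  let algK : Algebra R K := ((φ.toRingHom.comp (Ideal.Quotient.mk w)).comp (algebraMap R (GeomProd R))).toAlgebra
  let algV : Algebra R V := (RingHom.codRestrict (algebraMap R K) V.toSubring hint).toAlgebra
  have hacV : IsAlgClosed (FractionRing V) :=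
    IsAlgClosed.of_ringEquiv _ _ (FractionRing.algEquiv V K).symm.toRingEquiv
  obtain ⟨i, ⟨χ⟩⟩ := hB V hacV
  let P : Ideal (B i) := (IsLocalRing.maximalIdeal V).comap χ.toRingHom
  obtain ⟨F, hF, r, hrP, hbij⟩ :=
    (Algebra.ZariskisMainProperty.of_finiteType (R := R) P).exists_fg_and_exists_notMem_and_awayMap_bijective
  have : Module.Finite R F := ⟨(Submodule.fg_top _).mpr hF⟩
  let inc : V →ₐ[R] GeomProd R ⧸ w :=
    { φ.symm.toRingHom.comp V.subtype with
      commutes' := fun a => φ.injective (by
        show φ (φ.symm (algebraMap R K a)) = φ (algebraMap R (GeomProd R ⧸ w) a)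
        rw [RingEquiv.apply_symm_apply]
        rfl) }
  obtain ⟨e, he, hew, ψ, hψ⟩ := exists_piece w (inc.comp χ)
  obtain ⟨y, hy⟩ := Ideal.Quotient.mk_surjective (ψ r.1)
  obtain ⟨c, hc, ⟨θ⟩⟩ := exists_algHom_away (F := F) r he (ψ.comp F.val) y hy
  let eq := AlgEquiv.ofBijective (Localization.awayMapₐ F.val r) hbij
  refine ⟨c, ?_, i, ⟨(θ.comp eq.symm.toAlgHom).comp (IsScalarTower.toAlgHom R (B i) _)⟩⟩
  have hcK : φ (Ideal.Quotient.mk w c) = (χ r.1 : V) := by
    rw [hc, map_mul, hew, one_mul, hψ r.1 y hy]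
    exact φ.apply_symm_apply _
  refine hunit c (by rw [hcK]; exact (χ r.1).2) ?_
  have : IsUnit (χ r.1) := by
    by_contra hn
    exact hrP ((IsLocalRing.mem_maximalIdeal _).2 hn)
  convert this using 1
  exact Subtype.ext hcK

/-- An integral algebra covered by points is refined by a finite one of finite presentation. -/
theorem exists_finite_stage [∀ i, Algebra.FinitePresentation R (B i)] {C : Type u} [CommRing C] [Algebra R C]
    [Algebra.IsIntegral R C] (T : Finset C) (hT : Ideal.span (T : Set C) = ⊤)
    (hc : ∀ c ∈ T, ∃ i, Nonempty (B i →ₐ[R] Localization.Away c)) :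
    ∃ (D : Type u) (_ : CommRing D) (_ : Algebra R D), Module.Finite R D ∧ Algebra.FinitePresentation R D ∧
      Nonempty (D →ₐ[R] C) ∧ ∃ (T' : Finset D), Ideal.span (T' : Set D) = ⊤ ∧
      ∀ d ∈ T', ∃ i, Nonempty (B i →ₐ[R] Localization.Away d) := by
  classical
  obtain ⟨l, -, hl⟩ : ∃ l : C → C, True ∧ ∑ c ∈ T, l c * c = 1 := by
    obtain ⟨l, hl⟩ := Submodule.mem_span_finset.1 (show (1 : C) ∈ Ideal.span (T : Set C) by rw [hT]; trivial)
    exact ⟨l, trivial, hl.2⟩
  choose i χ using fun c : T => hc c.1 c.2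
  choose n f hf s hs using fun c : T => (inferInstance : Algebra.FinitePresentation R (B (i c))).out
  choose a ha using fun (c : T) (k : Fin (n c)) =>
    IsLocalization.exists_mk'_eq (Submonoid.powers c.1) ((χ c).some (f c (MvPolynomial.X k)))
  choose m hm using fun (c : T) k => (ha c k).choose.2
  -- the generators
  let G : Finset C := T ∪ T.image l ∪ Finset.univ.biUnion fun c : T => Finset.univ.image (a c)
  choose P hPm hP using fun g : G => Algebra.IsIntegral.isIntegral (R := R) g.1
  let M := MvPolynomial G R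
  let mon : G → M := fun g => Polynomial.aeval (MvPolynomial.X g) (P g)
  let D₁ := M ⧸ Ideal.span (Set.range mon)
  have : Algebra.FinitePresentation R D₁ :=
    Algebra.FinitePresentation.quotient (Submodule.fg_span (Set.finite_range mon))
  let X₁ : G → D₁ := fun g => Ideal.Quotient.mkₐ R _ (MvPolynomial.X g)
  have hadj : Algebra.adjoin R (Set.range X₁) = ⊤ := by
    rw [show Set.range X₁ = Ideal.Quotient.mkₐ R (Ideal.span (Set.range mon)) '' Set.range MvPolynomial.X from
      Set.range_comp _ _, ← AlgHom.map_adjoin, MvPolynomial.adjoin_range_X, Algebra.map_top,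
      AlgHom.range_eq_top]
    exact Ideal.Quotient.mkₐ_surjective R _
  have : Module.Finite R D₁ := by
    have := Algebra.finite_adjoin_of_finite_of_isIntegral (Set.finite_range X₁) (R := R) (by
      rintro _ ⟨g, rfl⟩
      refine ⟨P g, hPm g, ?_⟩
      rw [← Polynomial.aeval_def, Polynomial.aeval_algHom_apply]
      exact Ideal.Quotient.eq_zero_iff_mem.2 (Ideal.subset_span ⟨g, rfl⟩))
    rw [hadj] at this
    exact Module.Finite.equiv (Subalgebra.topEquiv (R := R) (A := D₁)).toLinearEquiv
  let π : D₁ →ₐ[R] C := Ideal.Quotient.liftₐ _ (MvPolynomial.aeval fun g : G => g.1) (by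
    show Ideal.span (Set.range mon) ≤ RingHom.ker (MvPolynomial.aeval (R := R) fun g : G => g.1)
    rw [Ideal.span_le]
    rintro _ ⟨g, rfl⟩
    show MvPolynomial.aeval _ (mon g) = 0
    rw [← Polynomial.aeval_algHom_apply, MvPolynomial.aeval_X]
    exact hP g)
  have hπ : ∀ g, π (X₁ g) = g.1 := fun g =>
    (Ideal.Quotient.liftₐ_apply _ _ _ _).trans (MvPolynomial.aeval_X _ _)
  have hT' : ∀ c : T, c.1 ∈ G := fun c => Finset.mem_union_left _ (Finset.mem_union_left _ c.2)
  have hl' : ∀ c : T, l c.1 ∈ G := fun c =>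
    Finset.mem_union_left _ (Finset.mem_union_right _ (Finset.mem_image_of_mem _ c.2))
  have ha' : ∀ (c : T) k, a c k ∈ G := fun c k => Finset.mem_union_right _
    (Finset.mem_biUnion.2 ⟨c, Finset.mem_univ _, Finset.mem_image_of_mem _ (Finset.mem_univ k)⟩)
  let cc : T → D₁ := fun c => X₁ ⟨c.1, hT' c⟩
  let u : D₁ := ∑ c : T, X₁ ⟨l c.1, hl' c⟩ * cc c - 1
  have hu : π u = 0 := by
    rw [map_sub, map_sum, map_one, sub_eq_zero, ← hl, ← Finset.sum_coe_sort T fun c => l c * c]
    exact Finset.sum_congr rfl fun c _ => by rw [map_mul, hπ, hπ]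
  -- the lifts
  let ev : ∀ c : T, MvPolynomial (Fin (n c)) R →ₐ[R] Localization.Away (cc c) := fun c =>
    MvPolynomial.aeval fun k => IsLocalization.mk' (Localization.Away (cc c)) (X₁ ⟨a c k, ha' c k⟩)
      (⟨cc c ^ m c k, m c k, rfl⟩ : Submonoid.powers (cc c))
  have hrel : ∀ (c : T) (g : MvPolynomial (Fin (n c)) R), g ∈ s c → ∃ y : D₁, π y = 0 ∧
      ∃ z : Submonoid.powers (cc c), IsLocalization.mk' (Localization.Away (cc c)) y z = ev c g := by
    intro c g hg
    obtain ⟨y, z, hyz⟩ := IsLocalization.exists_mk'_eq (Submonoid.powers (cc c)) (ev c g)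
    let πc : Localization.Away (cc c) →ₐ[R] Localization.Away c.1 :=
      IsLocalization.Away.liftAlgHom (cc c) (f := (IsScalarTower.toAlgHom R C _).comp π) (by
        show IsUnit (algebraMap C (Localization.Away c.1) (π (cc c)))
        rw [hπ]
        exact IsLocalization.Away.algebraMap_isUnit c.1)
    have hmk : ∀ y (z : Submonoid.powers (cc c)),
        πc (IsLocalization.mk' _ y z) * algebraMap C (Localization.Away c.1) (π z) = algebraMap C _ (π y) := by
      intro y z
      have e := congrArg πc (IsLocalization.mk'_spec (Localization.Away (cc c)) y z)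
      rw [map_mul] at e
      simpa [πc] using e
    have hev : πc.comp (ev c) = (χ c).some.comp (f c) := MvPolynomial.algHom_ext fun k => by
      show πc (ev c (MvPolynomial.X k)) = (χ c).some (f c (MvPolynomial.X k))
      rw [MvPolynomial.aeval_X, ← (ha c k).choose_spec, IsLocalization.eq_mk'_iff_mul_eq]
      have e := hmk (X₁ ⟨a c k, ha' c k⟩) ⟨cc c ^ m c k, m c k, rfl⟩
      simp only [map_pow, hπ, cc] at e
      rw [show ((ha c k).choose : C) = c.1 ^ m c k from (hm c k).symm, map_pow]
      exact e
    have h0 : algebraMap C (Localization.Away c.1) (π y) = 0 := by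
      rw [← hmk y z, hyz, show πc (ev c g) = (χ c).some (f c g) from congr($hev g),
        show f c g = 0 from (hs c ▸ Ideal.subset_span hg : g ∈ RingHom.ker (f c).toRingHom), map_zero, zero_mul]
    obtain ⟨⟨_, p, rfl⟩, hp⟩ := (IsLocalization.map_eq_zero_iff (Submonoid.powers c.1) _ _).1 h0
    refine ⟨y * cc c ^ p, by rw [map_mul, map_pow, hπ, mul_comm]; exact hp, z * ⟨cc c ^ p, p, rfl⟩, ?_⟩
    exact (IsLocalization.mk'_cancel y z ⟨cc c ^ p, p, rfl⟩).trans hyz
  choose y hy z hyz using hrel
  let J : Ideal D₁ := Ideal.span (insert u (⋃ c : T, Set.range fun g : s c => y c g.1 g.2))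
  have hJfg : J.FG := Submodule.fg_span ((Set.finite_iUnion fun c => Set.finite_range _).insert u)
  have hJ : ∀ d ∈ J, π d = 0 := by
    show J ≤ RingHom.ker π
    rw [Ideal.span_le, Set.insert_subset_iff, Set.iUnion_subset_iff]
    exact ⟨hu, fun c => Set.range_subset_iff.2 fun g => hy c g.1 g.2⟩
  let q := Ideal.Quotient.mkₐ R J
  refine ⟨D₁ ⧸ J, inferInstance, inferInstance, Module.Finite.of_surjective q.toLinearMap
    (Ideal.Quotient.mkₐ_surjective R J), Algebra.FinitePresentation.quotient hJfg,
    ⟨Ideal.Quotient.liftₐ J π hJ⟩, Finset.univ.image (fun c => q (cc c)), ?_, ?_⟩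
  · rw [Ideal.eq_top_iff_one]
    have : q (∑ c : T, X₁ ⟨l c.1, hl' c⟩ * cc c) = 1 := by
      rw [← map_one q]
      exact (Ideal.Quotient.eq).2 (Ideal.subset_span (Set.mem_insert u _))
    rw [← this, map_sum]
    refine Ideal.sum_mem _ fun c _ => ?_
    rw [map_mul]
    exact Ideal.mul_mem_left _ _ (Ideal.subset_span (Finset.mem_image_of_mem _ (Finset.mem_univ c)))
  · intro d hd
    obtain ⟨c, -, rfl⟩ := Finset.mem_image.1 hd
    let qc : Localization.Away (cc c) →ₐ[R] Localization.Away (q (cc c)) :=
      IsLocalization.Away.liftAlgHom (cc c) (f := (IsScalarTower.toAlgHom R (D₁ ⧸ J) _).comp q)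
        (IsLocalization.Away.algebraMap_isUnit (q (cc c)))
    refine ⟨i c, ⟨(f c).liftOfSurjective (hf c) (qc.comp (ev c)) ?_⟩⟩
    rw [← hs c, Ideal.span_le]
    intro g hg
    show qc (ev c g) = 0
    rw [← hyz c g hg]
    have e := congrArg qc (IsLocalization.mk'_spec (Localization.Away (cc c)) (y c g hg) (z c g hg))
    rw [map_mul] at e
    have h0 : qc (algebraMap D₁ _ (y c g hg)) = 0 := by
      simp only [qc, IsLocalization.Away.liftAlgHom, IsLocalization.Away.lift, AlgHom.coe_mk,
        IsLocalization.lift_eq, AlgHom.toRingHom_eq_coe, RingHom.coe_coe, AlgHom.comp_apply]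
      rw [show q (y c g hg) = 0 from Ideal.Quotient.eq_zero_iff_mem.2
        (Ideal.subset_span (Set.mem_insert_of_mem _ (Set.mem_iUnion.2 ⟨c, ⟨g, hg⟩, rfl⟩))), map_zero]
    rw [h0] at e
    exact ((IsLocalization.map_units (Localization.Away (cc c)) (z c g hg)).map qc).mul_left_eq_zero.1 e

/-- A finite cover of finite presentation with local points. -/
theorem exists_finite_cover [∀ i, Algebra.FinitePresentation R (B i)] [∀ i, Algebra.QuasiFinite R (B i)]
    (hB : ∀ (O : Type u) [CommRing O] [IsDomain O] [ValuationRing O] [Algebra R O],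
      IsAlgClosed (FractionRing O) → ∃ i, Nonempty (B i →ₐ[R] O)) :
    ∃ (D : Type u) (_ : CommRing D) (_ : Algebra R D), Module.Finite R D ∧ Algebra.FinitePresentation R D ∧
      Function.Surjective (PrimeSpectrum.comap (algebraMap R D)) ∧ ∃ (T : Finset D), Ideal.span (T : Set D) = ⊤ ∧
      ∀ d ∈ T, ∃ i, Nonempty (B i →ₐ[R] Localization.Away d) := by
  let C := integralClosure R (GeomProd R)
  let S : Set C := {c | ∃ i, Nonempty (B i →ₐ[R] Localization.Away c)}
  have hS : Ideal.span S = ⊤ := by
    by_contra h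
    obtain ⟨x, hx, hle⟩ := Ideal.exists_le_maximal _ h
    obtain ⟨c, hc, hcS⟩ := exists_local_points B hB x
    exact hc (hle (Ideal.subset_span hcS))
  obtain ⟨T, hTS, hT⟩ := Submodule.mem_span_finite_of_mem_span (show (1 : C) ∈ Ideal.span S by rw [hS]; trivial)
  obtain ⟨D, _, _, hDf, hDp, ⟨π⟩, T', hT', hd⟩ :=
    exists_finite_stage B T ((Ideal.eq_top_iff_one _).2 hT) fun c hc => hTS hc
  refine ⟨D, inferInstance, inferInstance, hDf, hDp, fun p => ?_, T', hT', hd⟩
  let ev := Pi.evalRingHom (fun p : PrimeSpectrum R => AlgebraicClosure p.asIdeal.ResidueField) p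
  refine ⟨⟨RingHom.ker (ev.comp (C.val.toRingHom.comp π.toRingHom)), RingHom.ker_isPrime _⟩, ?_⟩
  refine PrimeSpectrum.ext (Ideal.ext fun r => ?_)
  show ev (C.val (π (algebraMap R D r))) = 0 ↔ r ∈ p.asIdeal
  rw [AlgHom.commutes, AlgHom.commutes]
  show algebraMap R (AlgebraicClosure p.asIdeal.ResidueField) r = 0 ↔ _
  rw [IsScalarTower.algebraMap_apply R p.asIdeal.ResidueField (AlgebraicClosure p.asIdeal.ResidueField),
    map_eq_zero]
  exact Ideal.algebraMap_residueField_eq_zero

end Groth.Agent.SchDesc82.ValFinite
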