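import Groth.Agent.Jacobson.FppfDescent
import Mathlib.FieldTheory.IsAlgClosed.Basic
import Mathlib.Algebra.GCDMonoid.IntegrallyClosed
import Mathlib.RingTheory.Valuation.ValuationRing
import Mathlib.RingTheory.PrincipalIdealDomain

/-!
# Integral points over a valuation ring with algebraically closed fraction field
-/

universe u

set_option autoImplicit false

open IsLocalRing

namespace Groth.Agent.SchDesc82

variable {O : Type u} [CommRing O] [IsDomain O] [ValuationRing O] (K : Type u) [Field K] [Algebra O K]
  [IsFractionRing O K] [IsAlgClosed K]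

include K in
/-- A finitely generated algebra over a valuation ring with algebraically closed fraction field which has a point
in a local domain dominating the valuation ring has an integral point. -/
theorem nonempty_algHom_of_valuationRing {B : Type u} [CommRing B] [Algebra O B] [Algebra.FiniteType O B]
    {V : Type u} [CommRing V] [IsDomain V] [IsLocalRing V] [Algebra O V] [IsLocalHom (algebraMap O V)]
    (hinj : Function.Injective (algebraMap O V)) (f : B →ₐ[O] V) : Nonempty (B →ₐ[O] O) := by
  let C := f.range
  suffices Nonempty (C →ₐ[O] O) from ⟨this.some.comp f.rangeRestrict⟩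
  have : Algebra.FiniteType O C := Algebra.FiniteType.of_surjective f.rangeRestrict f.rangeRestrict_surjective
  have : FaithfulSMul O C :=
    (faithfulSMul_iff_algebraMap_injective O C).2 fun a b h => hinj (congrArg Subtype.val h)
  have hne : (maximalIdeal O).map (algebraMap O C) ≠ ⊤ := by
    have hp : ((maximalIdeal V).comap C.val.toRingHom).IsPrime := Ideal.IsPrime.comap _
    refine ne_top_of_le_ne_top hp.ne_top ?_
    rw [Ideal.map_le_iff_le_comap]
    intro a ha
    exact map_nonunit (algebraMap O V) a ha
  have : IsIntegrallyClosed O := inferInstance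
  obtain ⟨L, _, _, ρ, hL, halg, c, hc, hker, hmc⟩ := Jacobson.exists_algebraic_prime O C hne
  let R := ρ.range
  have : Algebra.IsAlgebraic O R := ⟨fun ⟨_, y, rfl⟩ =>
    (isAlgebraic_algHom_iff R.val Subtype.val_injective).1 (halg y)⟩
  have : FaithfulSMul O R :=
    (faithfulSMul_iff_algebraMap_injective O R).2 fun a b h => hL (congrArg Subtype.val h)
  have : FaithfulSMul O K := (faithfulSMul_iff_algebraMap_injective O K).2 (IsFractionRing.injective O K)
  let e : R →ₐ[O] K := IsAlgClosed.lift
  have he : Function.Injective e := by
    rw [injective_iff_map_eq_zero]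
    intro y hy
    by_contra hy0
    obtain ⟨a, ha, z, hz⟩ := (Algebra.IsAlgebraic.isAlgebraic (R := O) y).exists_nonzero_dvd
      (mem_nonZeroDivisors_of_ne_zero hy0)
    have := congrArg e hz
    rw [map_mul, hy, zero_mul, AlgHom.commutes] at this
    exact ha ((map_eq_zero_iff _ (IsFractionRing.injective O K)).1 this)
  let h : C →ₐ[O] K := e.comp ρ.rangeRestrict
  have hint : ∀ y, ∃ a : O, algebraMap O K a = h y := by
    intro y
    rcases ValuationRing.isInteger_or_isInteger O (h y) with ⟨a, ha⟩ | ⟨a, ha⟩
    · exact ⟨a, ha⟩
    by_cases hu : IsUnit a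
    · refine ⟨↑hu.unit⁻¹, ?_⟩
      rw [map_units_inv, IsUnit.unit_spec, ha, inv_inv]
    · by_cases h0 : h y = 0
      · exact ⟨0, by rw [map_zero, h0]⟩
      exfalso
      have h1 : h (algebraMap O C a * y - 1) = 0 := by
        rw [map_sub, map_mul, AlgHom.commutes, ha, map_one, inv_mul_cancel₀ h0, sub_self]
      have h2 : algebraMap O C a * y - 1 ∈ c := hker (by
        have := he (h1.trans (map_zero e).symm)
        exact congrArg Subtype.val this)
      have h3 : algebraMap O C a * y ∈ c := c.mul_mem_right _ (hmc (Ideal.mem_map_of_mem _ hu))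
      have h4 := c.sub_mem h3 h2
      rw [sub_sub_cancel] at h4
      exact hc.ne_top ((Ideal.eq_top_iff_one c).2 h4)
  choose χ hχ using hint
  have inj := IsFractionRing.injective O K
  exact ⟨{ toFun := χ
           map_one' := inj (by rw [hχ, map_one, map_one])
           map_mul' := fun a b => inj (by rw [hχ, map_mul, map_mul, hχ, hχ])
           map_zero' := inj (by rw [hχ, map_zero, map_zero])
           map_add' := fun a b => inj (by rw [hχ, map_add, map_add, hχ, hχ])
           commutes' := fun a => inj (by rw [hχ, AlgHom.commutes, Algebra.algebraMap_self, RingHom.id_apply]) }⟩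

end Groth.Agent.SchDesc82
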